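import Mathlib.LinearAlgebra.Matrix.SpecialLinearGroup
import Mathlib.LinearAlgebra.Matrix.ProjectiveSpecialLinearGroup
import Mathlib.Tactic

/-!
# Conjugation in `SL_2(K)`: normal forms, real elements (helper911)
-/

set_option autoImplicit false
set_option linter.unusedSectionVars false
set_option linter.unusedSimpArgs false

namespace Cfsg.Agent.H911.SLTwo

open Matrix

variable {K : Type*} [Field K]

local notation "G" => SpecialLinearGroup (Fin 2) K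

def U (x : K) : SpecialLinearGroup (Fin 2) K := ⟨!![1, x; 0, 1], by simp [Matrix.det_fin_two_of]⟩
def Lo (x : K) : SpecialLinearGroup (Fin 2) K := ⟨!![1, 0; x, 1], by simp [Matrix.det_fin_two_of]⟩
def hh (s : Kˣ) : SpecialLinearGroup (Fin 2) K := ⟨!![(s : K), 0; 0, ((s⁻¹ : Kˣ) : K)], by simp [Matrix.det_fin_two_of]⟩
def ww : SpecialLinearGroup (Fin 2) K := ⟨!![0, 1; -1, 0], by simp [Matrix.det_fin_two_of]⟩
def Nc (c : Kˣ) (t : K) : SpecialLinearGroup (Fin 2) K := ⟨!![0, -((c⁻¹ : Kˣ) : K); (c : K), t], by simp [Matrix.det_fin_two_of]⟩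

/-- the trace -/
def tr (M : SpecialLinearGroup (Fin 2) K) : K := M.1 0 0 + M.1 1 1

theorem ext' {A B : SpecialLinearGroup (Fin 2) K} (h1 : A.1 0 0 = B.1 0 0) (h2 : A.1 0 1 = B.1 0 1)
    (h3 : A.1 1 0 = B.1 1 0) (h4 : A.1 1 1 = B.1 1 1) : A = B := by
  apply Subtype.ext
  ext i j
  fin_cases i <;> fin_cases j
  · exact h1
  · exact h2
  · exact h3
  · exact h4

theorem m00 (A B : G) : (A * B).1 0 0 = A.1 0 0 * B.1 0 0 + A.1 0 1 * B.1 1 0 := by
  change (A.1 * B.1) 0 0 = _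
  rw [Matrix.mul_apply, Fin.sum_univ_two]
theorem m01 (A B : G) : (A * B).1 0 1 = A.1 0 0 * B.1 0 1 + A.1 0 1 * B.1 1 1 := by
  change (A.1 * B.1) 0 1 = _
  rw [Matrix.mul_apply, Fin.sum_univ_two]
theorem m10 (A B : G) : (A * B).1 1 0 = A.1 1 0 * B.1 0 0 + A.1 1 1 * B.1 1 0 := by
  change (A.1 * B.1) 1 0 = _
  rw [Matrix.mul_apply, Fin.sum_univ_two]
theorem m11 (A B : G) : (A * B).1 1 1 = A.1 1 0 * B.1 0 1 + A.1 1 1 * B.1 1 1 := by
  change (A.1 * B.1) 1 1 = _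
  rw [Matrix.mul_apply, Fin.sum_univ_two]
theorem i00 (A : G) : (A⁻¹).1 0 0 = A.1 1 1 := by
  have := congrFun (congrFun (SpecialLinearGroup.coe_inv A) 0) 0
  rw [Matrix.adjugate_fin_two] at this
  exact this
theorem i01 (A : G) : (A⁻¹).1 0 1 = - A.1 0 1 := by
  have := congrFun (congrFun (SpecialLinearGroup.coe_inv A) 0) 1
  rw [Matrix.adjugate_fin_two] at this
  exact this
theorem i10 (A : G) : (A⁻¹).1 1 0 = - A.1 1 0 := by
  have := congrFun (congrFun (SpecialLinearGroup.coe_inv A) 1) 0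
  rw [Matrix.adjugate_fin_two] at this
  exact this
theorem i11 (A : G) : (A⁻¹).1 1 1 = A.1 0 0 := by
  have := congrFun (congrFun (SpecialLinearGroup.coe_inv A) 1) 1
  rw [Matrix.adjugate_fin_two] at this
  exact this
theorem n00 (A : G) : (-A).1 0 0 = - A.1 0 0 := rfl
theorem n01 (A : G) : (-A).1 0 1 = - A.1 0 1 := rfl
theorem n10 (A : G) : (-A).1 1 0 = - A.1 1 0 := rfl
theorem n11 (A : G) : (-A).1 1 1 = - A.1 1 1 := rfl
theorem o00 : (1 : G).1 0 0 = 1 := rfl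
theorem o01 : (1 : G).1 0 1 = 0 := rfl
theorem o10 : (1 : G).1 1 0 = 0 := rfl
theorem o11 : (1 : G).1 1 1 = 1 := rfl
theorem U00 (x : K) : (U x).1 0 0 = 1 := rfl
theorem U01 (x : K) : (U x).1 0 1 = x := rfl
theorem U10 (x : K) : (U x).1 1 0 = 0 := rfl
theorem U11 (x : K) : (U x).1 1 1 = 1 := rfl
theorem Lo00 (x : K) : (Lo x).1 0 0 = 1 := rfl
theorem Lo01 (x : K) : (Lo x).1 0 1 = 0 := rfl
theorem Lo10 (x : K) : (Lo x).1 1 0 = x := rfl
theorem Lo11 (x : K) : (Lo x).1 1 1 = 1 := rfl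
theorem hh00 (s : Kˣ) : (hh s).1 0 0 = (s : K) := rfl
theorem hh01 (s : Kˣ) : (hh s).1 0 1 = 0 := rfl
theorem hh10 (s : Kˣ) : (hh s).1 1 0 = 0 := rfl
theorem hh11 (s : Kˣ) : (hh s).1 1 1 = ((s⁻¹ : Kˣ) : K) := rfl
theorem ww00 : (ww : G).1 0 0 = 0 := rfl
theorem ww01 : (ww : G).1 0 1 = 1 := rfl
theorem ww10 : (ww : G).1 1 0 = -1 := rfl
theorem ww11 : (ww : G).1 1 1 = 0 := rfl
theorem Nc00 (c : Kˣ) (t : K) : (Nc c t).1 0 0 = 0 := rfl
theorem Nc01 (c : Kˣ) (t : K) : (Nc c t).1 0 1 = -((c⁻¹ : Kˣ) : K) := rfl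
theorem Nc10 (c : Kˣ) (t : K) : (Nc c t).1 1 0 = (c : K) := rfl
theorem Nc11 (c : Kˣ) (t : K) : (Nc c t).1 1 1 = t := rfl

theorem det_eq (M : G) : M.1 0 0 * M.1 1 1 - M.1 0 1 * M.1 1 0 = 1 := by
  have := M.2
  rwa [Matrix.det_fin_two] at this

theorem U_mul (x y : K) : U x * U y = U (x + y) := by
  apply ext' <;> simp only [m00, m01, m10, m11, U00, U01, U10, U11] <;> ring

theorem U_zero : U (0 : K) = 1 := by
  apply ext' <;> simp only [U00, U01, U10, U11, o00, o01, o10, o11]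

theorem U_inv (x : K) : (U x)⁻¹ = U (-x) := by
  rw [inv_eq_iff_mul_eq_one, U_mul, add_neg_cancel, U_zero]

theorem Lo_mul (x y : K) : Lo x * Lo y = Lo (x + y) := by
  apply ext' <;> simp only [m00, m01, m10, m11, Lo00, Lo01, Lo10, Lo11] <;> ring

theorem Lo_zero : Lo (0 : K) = 1 := by
  apply ext' <;> simp only [Lo00, Lo01, Lo10, Lo11, o00, o01, o10, o11]

theorem Lo_inv (x : K) : (Lo x)⁻¹ = Lo (-x) := by
  rw [inv_eq_iff_mul_eq_one, Lo_mul, add_neg_cancel, Lo_zero]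

theorem U_pow (x : K) (n : ℕ) : U x ^ n = U (n * x) := by
  induction n with
  | zero => rw [pow_zero, Nat.cast_zero, zero_mul, U_zero]
  | succ n ih => rw [pow_succ, ih, U_mul, Nat.cast_succ]; congr 1; ring

theorem hh_mul (s t : Kˣ) : hh s * hh t = hh (s * t) := by
  apply ext' <;> simp only [m00, m01, m10, m11, hh00, hh01, hh10, hh11, mul_inv, Units.val_mul] <;> ring

theorem hh_one : hh (1 : Kˣ) = 1 := by
  apply ext' <;> simp only [hh00, hh01, hh10, hh11, o00, o01, o10, o11, Units.val_one, inv_one]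

theorem hh_inv (s : Kˣ) : (hh s)⁻¹ = hh s⁻¹ := by
  rw [inv_eq_iff_mul_eq_one, hh_mul, mul_inv_cancel, hh_one]

theorem hU (s : Kˣ) (x : K) : hh s * U x * (hh s)⁻¹ = U ((s : K) ^ 2 * x) := by
  rw [hh_inv]
  have h1 := Units.mul_inv s
  apply ext' <;> simp only [m00, m01, m10, m11, U00, U01, U10, U11, hh00, hh01, hh10, hh11, inv_inv]
  · linear_combination h1
  · ring
  · ring
  · linear_combination h1

theorem wh (s : Kˣ) : ww * hh s * ww⁻¹ = hh s⁻¹ := by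
  apply ext' <;> simp only [m00, m01, m10, m11, ww00, ww01, ww10, ww11, hh00, hh01, hh10, hh11, inv_inv,
    i00, i01, i10, i11] <;> ring

/-- normal form with `c ≠ 0` -/
theorem norm (M : G) (h : M.1 1 0 ≠ 0) : ∃ (x : K) (c : Kˣ), U x * M * (U x)⁻¹ = Nc c (tr M) := by
  have hdet := det_eq M
  refine ⟨-(M.1 0 0) / M.1 1 0, Units.mk0 _ h, ?_⟩
  have hc : M.1 1 0 * (M.1 1 0)⁻¹ = 1 := mul_inv_cancel₀ h
  rw [U_inv]
  apply ext' <;> simp only [m00, m01, m10, m11, U00, U01, U10, U11, Nc00, Nc01, Nc10, Nc11, tr, div_eq_mul_inv,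
    Units.val_mk0, Units.val_inv_eq_inv_val]
  · linear_combination (-M.1 0 0) * hc
  · linear_combination (-(M.1 1 0)⁻¹ + (M.1 0 0) ^ 2 * (M.1 1 0)⁻¹ * 0) * hdet + (-(M.1 0 1) - M.1 0 0 ^ 2 * (M.1 1 0)⁻¹) * hc
  · ring
  · linear_combination (M.1 0 0) * hc

theorem tr_conj (c M : G) : tr (c * M * c⁻¹) = tr M := by
  have hdet := det_eq c
  simp only [tr, m00, m01, m10, m11, i00, i01, i10, i11]
  linear_combination (M.1 0 0 + M.1 1 1) * hdet

/-- triangular normal form -/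
theorem tri (M : G) {z : K} (hz : z ^ 2 - tr M * z + 1 = 0) :
    ∃ (c : G) (s : Kˣ) (x : K), c * M * c⁻¹ = hh s * U x := by
  have hdet := det_eq M
  by_cases h : M.1 1 0 = 0
  · rw [h, mul_zero, sub_zero] at hdet
    have h0 : M.1 0 0 ≠ 0 := by
      intro h0
      rw [h0, zero_mul] at hdet
      exact zero_ne_one hdet
    refine ⟨1, Units.mk0 _ h0, (M.1 0 0)⁻¹ * M.1 0 1, ?_⟩
    rw [one_mul, inv_one, mul_one]
    have hc : M.1 0 0 * (M.1 0 0)⁻¹ = 1 := mul_inv_cancel₀ h0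
    apply ext' <;> simp only [m00, m01, m10, m11, U00, U01, U10, U11, hh00, hh01, hh10, hh11, Units.val_mk0,
      Units.val_inv_eq_inv_val, h]
    · ring
    · linear_combination (-M.1 0 1) * hc
    · ring
    · linear_combination (M.1 0 0)⁻¹ * hdet - M.1 1 1 * hc
  · obtain ⟨x, c, hx⟩ := norm M h
    have h1 : z * (tr M - z) = 1 := by linear_combination -hz
    have hz0 : z ≠ 0 := by
      intro h0
      rw [h0, zero_mul] at h1
      exact zero_ne_one h1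
    have hc : (c : K) * (c : K)⁻¹ = 1 := mul_inv_cancel₀ c.ne_zero
    have hzc : z * z⁻¹ = 1 := mul_inv_cancel₀ hz0
    have hzi : z⁻¹ = tr M - z := by
      rw [inv_eq_iff_eq_inv]
      exact eq_inv_of_mul_eq_one_left h1
    refine ⟨Lo ((c : K) * z) * U x, (Units.mk0 z hz0), -z⁻¹ * ((c⁻¹ : Kˣ) : K), ?_⟩
    rw [_root_.mul_inv_rev]
    have h2 : Lo ((c : K) * z) * U x * M * ((U x)⁻¹ * (Lo ((c : K) * z))⁻¹) =
        Lo ((c : K) * z) * (U x * M * (U x)⁻¹) * (Lo ((c : K) * z))⁻¹ := by group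
    rw [h2, hx, Lo_inv]
    apply ext' <;> simp only [m00, m01, m10, m11, Lo00, Lo01, Lo10, Lo11, U00, U01, U10, U11, hh00, hh01, hh10, hh11,
      Units.val_mk0, Units.val_inv_eq_inv_val, Nc00, Nc01, Nc10, Nc11]
    · linear_combination z * hc
    · linear_combination ((c : K)⁻¹) * hzc
    · linear_combination (c : K) * hz + (c : K) * z ^ 2 * hc
    · linear_combination (-z) * hc - hzi

/-- real elements -/
theorem real (M : G) {x y : K} (hxy : -(x ^ 2 - tr M * x * y + y ^ 2) = 1) (h : M.1 1 0 ≠ 0) :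
    ∃ w : G, w * M * w⁻¹ = M⁻¹ := by
  obtain ⟨a, c, ha⟩ := norm M h
  have hc : (c : K) * (c : K)⁻¹ = 1 := mul_inv_cancel₀ c.ne_zero
  let w : G := ⟨!![x, y * (c : K)⁻¹; (c : K) * y - (c : K) * tr M * x, -x], by
    rw [Matrix.det_fin_two_of]
    linear_combination hxy - (y ^ 2 - tr M * x * y) * hc⟩
  have w00 : w.1 0 0 = x := rfl
  have w01 : w.1 0 1 = y * (c : K)⁻¹ := rfl
  have w10 : w.1 1 0 = (c : K) * y - (c : K) * tr M * x := rfl
  have w11 : w.1 1 1 = -x := rfl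
  have hw : w * Nc c (tr M) * w⁻¹ = (Nc c (tr M))⁻¹ := by
    rw [mul_inv_eq_iff_eq_mul]
    apply ext' <;> simp only [m00, m01, m10, m11, i00, i01, i10, i11, w00, w01, w10, w11, Nc00, Nc01, Nc10, Nc11,
      Units.val_inv_eq_inv_val]
    · linear_combination (tr M * x) * hc
    · ring
    · ring
    · linear_combination (tr M * x) * hc
  refine ⟨(U a)⁻¹ * w * U a, ?_⟩
  have h1 : M = (U a)⁻¹ * Nc c (tr M) * U a := by rw [← ha]; group
  calc (U a)⁻¹ * w * U a * M * ((U a)⁻¹ * w * U a)⁻¹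
      = (U a)⁻¹ * w * U a * ((U a)⁻¹ * Nc c (tr M) * U a) * ((U a)⁻¹ * w * U a)⁻¹ := by rw [← h1]
    _ = (U a)⁻¹ * (w * Nc c (tr M) * w⁻¹) * U a := by group
    _ = (U a)⁻¹ * (Nc c (tr M))⁻¹ * U a := by rw [hw]
    _ = ((U a)⁻¹ * Nc c (tr M) * U a)⁻¹ := by group
    _ = M⁻¹ := by rw [← h1]

theorem sq_mat (M : G) : M.1 * M.1 = tr M • M.1 - 1 := by
  have hdet := det_eq M
  ext i j
  fin_cases i <;> fin_cases j <;>
    simp [Matrix.mul_apply, Fin.sum_univ_two, tr]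
  · linear_combination -hdet
  · ring
  · ring
  · linear_combination -hdet

theorem pow_six_mat (M : G) : (M.1) ^ 6 =
    (tr M * (tr M ^ 2 - 1) * (tr M ^ 2 - 3)) • M.1 - (tr M ^ 4 - 3 * tr M ^ 2 + 1) • (1 : Matrix (Fin 2) (Fin 2) K) := by
  have h2 := sq_mat M
  have h3 : M.1 ^ 3 = (tr M ^ 2 - 1) • M.1 - tr M • (1 : Matrix (Fin 2) (Fin 2) K) := by
    rw [pow_succ, pow_two, h2, sub_mul, smul_mul_assoc, h2, one_mul]
    module
  have h6 : M.1 ^ 6 = M.1 ^ 3 * M.1 ^ 3 := by rw [← pow_add]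
  rw [h6, h3]
  simp only [sub_mul, mul_sub, smul_mul_assoc, mul_smul_comm, h2, mul_one, one_mul]
  module

theorem pow_six (M : G) (h : tr M * (tr M ^ 2 - 1) * (tr M ^ 2 - 3) = 0) : M ^ 6 = 1 ∨ M ^ 6 = -1 := by
  have h6 := pow_six_mat M
  rw [h, zero_smul, zero_sub] at h6
  have h7 : (tr M ^ 4 - 3 * tr M ^ 2 + 1) = 1 ∨ (tr M ^ 4 - 3 * tr M ^ 2 + 1) = -1 := by
    rcases mul_eq_zero.1 h with h1 | h1
    · rcases mul_eq_zero.1 h1 with h2 | h2
      · left; rw [h2]; ring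
      · right
        linear_combination (tr M ^ 2 - 2) * h2
    · left
      linear_combination (tr M ^ 2) * h1
  rcases h7 with h7 | h7
  · right
    apply Subtype.ext
    rw [SpecialLinearGroup.coe_pow, h6, h7, one_smul]
    rfl
  · left
    apply Subtype.ext
    rw [SpecialLinearGroup.coe_pow, h6, h7, neg_smul, one_smul, neg_neg]
    rfl

/-- the projection to `PSL_2(K)` -/
abbrev mk (M : G) : ProjectiveSpecialLinearGroup (Fin 2) K := QuotientGroup.mk M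

theorem mk_neg_one : mk (-1 : G) = 1 := by
  rw [QuotientGroup.eq_one_iff, Subgroup.mem_center_iff]
  intro g
  rw [mul_neg_one, neg_one_mul]

theorem mk_neg (M : G) : mk (-M) = mk M := by
  have h1 : -M = (-1 : G) * M := by rw [neg_one_mul]
  rw [h1]
  change mk (-1 : G) * mk M = _
  rw [mk_neg_one, one_mul]

theorem mk_surj (g : ProjectiveSpecialLinearGroup (Fin 2) K) : ∃ M : G, mk M = g :=
  QuotientGroup.mk_surjective g

end Cfsg.Agent.H911.SLTwo
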