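import Cfsg.Agent.H911.AdFrame
import Cfsg.Agent.KFacts.MulOdd.TypeA

/-!
# Simple modules of `SL(l + 1, E)` in the defining characteristic (helper911)

* `bk i` : the embedding of `SL(2, E)` at the node `i`;
* `exists_sigma_A` : a two-dimensional edge gives a field embedding `σ` with `χ (h_i(s)) = σ s`;
* `chi_bk_of_mem` : `χ (h_i(s)) = 1` for `i ∈ J`;
* `chi_bk_rev`, `Jx_rev` : self-dual modules.
-/

set_option autoImplicit false
set_option linter.unusedSectionVars false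
set_option linter.unusedVariables false

namespace Cfsg.Agent.H911.Ad

open Matrix CoxeterSystem Cfsg.Agent.ChevalleyStructure.CoxeterGeom Cfsg.Agent.Tits.Roots Cfsg.Agent.Tits.Core
  Cfsg.Agent.Tits.Exchange Cfsg.Agent.Nodes.Reps Cfsg.Agent.Nodes.BNOf Cfsg.Agent.Nodes.StabComb
  Cfsg.Agent.Nodes.Bruhat Cfsg.Agent.Nodes.OppDec Cfsg.Agent.Nodes.LeviDec Cfsg.Agent.KFacts.RgdOpp
  Cfsg.Agent.Omega.CR Cfsg.Agent.Omega.FOne.Lift.Sd Cfsg.Agent.Nodes.RootsA Cfsg.Agent.H911 Cfsg.Agent.H905.Md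
  Cfsg.Agent.KFacts.MulOdd.TypeA
open Cfsg.Agent.H911.SLTwo (U Lo hh ww U00 U01 U10 U11 Lo00 Lo01 Lo10 Lo11 hh00 hh01 hh10 hh11 ww00 ww01 ww10 ww11
  m00 m01 m10 m11 i00 i01 i10 i11 ext')
open Cfsg.Agent.LieRecognition.BNCox (cA cA_apply)
open Cfsg.Agent.Nodes.RGDTypeA (Mono mem_T tv_val XX tv_mem_XX nn mono_ns X_sr X_neg_sr nsys rgd)
open Cfsg.Agent.TitsThree.KSideA (tv tv_of_ne tv_add tv_zero tv_neg)

variable {l : ℕ} {E : Type*} [Field E]

/-- the embedding of `SL(2, E)` at the node `i` -/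
def bk (E : Type*) [Field E] (i : Fin l) : SpecialLinearGroup (Fin 2) E →* SpecialLinearGroup (Fin (l + 1)) E :=
  blk (a := i.castSucc) (b := i.succ) (Fin.castSucc_lt_succ).ne

theorem U_eq (b : E) : U b = tv (0 : Fin 2) 1 b := by
  apply Subtype.ext
  rw [tv_val (by decide)]
  ext i j
  fin_cases i <;> fin_cases j <;> simp [U]

theorem Lo_eq (b : E) : Lo b = tv (1 : Fin 2) 0 b := by
  apply Subtype.ext
  rw [tv_val (by decide)]
  ext i j
  fin_cases i <;> fin_cases j <;> simp [Lo]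

theorem ww_eq : (ww : SpecialLinearGroup (Fin 2) E) = U 1 * Lo (-1) * U 1 := by
  apply ext' <;> simp only [m00, m01, m10, m11, U00, U01, U10, U11, Lo00, Lo01, Lo10, Lo11, ww00, ww01, ww10, ww11] <;>
    ring

theorem bk_U (i : Fin l) (b : E) : bk E i (U b) = tv i.castSucc i.succ b := by
  rw [U_eq]; exact blk_tv _ b

theorem bk_Lo (i : Fin l) (b : E) : bk E i (Lo b) = tv i.succ i.castSucc b := by
  rw [Lo_eq]; exact blk_tv' _ b

theorem bk_ww (i : Fin l) : bk E i ww = Nodes.RGDTypeA.ns l E i := by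
  rw [ww_eq, map_mul, map_mul, bk_U, bk_Lo]
  unfold Nodes.RGDTypeA.ns Nodes.RGDTypeA.nn
  rw [inv_one]

theorem bk_U_mem (i : Fin l) (b : E) : bk E i (U b) ∈ Nodes.RGDTypeA.X E (sr i) := by
  rw [X_sr, bk_U]; exact tv_mem_XX _ _ _

theorem bk_Lo_mem (i : Fin l) (b : E) : bk E i (Lo b) ∈ Nodes.RGDTypeA.X E (-sr i) := by
  rw [X_neg_sr, bk_Lo]; exact tv_mem_XX _ _ _

theorem bk_apply (i : Fin l) (g : SpecialLinearGroup (Fin 2) E) (u v : Fin (l + 1)) :
    (bk E i g).1 u v = if u = i.castSucc then (if v = i.castSucc then g.1 0 0 else if v = i.succ then g.1 0 1 else 0)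
      else if u = i.succ then (if v = i.castSucc then g.1 1 0 else if v = i.succ then g.1 1 1 else 0)
      else if u = v then 1 else 0 := rfl

theorem bk_hh_mem (i : Fin l) (s : Eˣ) : bk E i (hh s) ∈ Nodes.RGDTypeA.T (Fin (l + 1)) E := by
  rw [mem_T]
  intro u v huv
  by_contra hne
  have hne' : u ≠ v := hne
  apply huv
  rw [bk_apply, hh01, hh10]
  by_cases h1 : u = i.castSucc
  · rw [if_pos h1, if_neg (fun h2 => hne' (h1.trans h2.symm))]
    split_ifs <;> rfl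
  · rw [if_neg h1]
    by_cases h2 : u = i.succ
    · rw [if_pos h2]
      by_cases h3 : v = i.castSucc
      · rw [if_pos h3]
      · rw [if_neg h3, if_neg (fun h4 => hne' (h2.trans h4.symm))]
    · rw [if_neg h2, if_neg hne']

section conj

theorem conj_diag {σ : Equiv.Perm (Fin (l + 1))} {m t : SpecialLinearGroup (Fin (l + 1)) E} (hm : Mono σ m)
    (ht : t ∈ Nodes.RGDTypeA.T (Fin (l + 1)) E) (j : Fin (l + 1)) : (m⁻¹ * t * m).1 j j = t.1 (σ j) (σ j) := by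
  change ((m⁻¹).1 * t.1 * m.1) j j = _
  rw [eq_diagonal ht, Matrix.mul_apply, Finset.sum_eq_single (σ j)]
  · rw [Matrix.mul_diagonal]
    have h1 := hm.inv_mul_apply j j
    rw [if_pos rfl] at h1
    rw [Matrix.diagonal_apply_eq]
    linear_combination (t.1 (σ j) (σ j)) * h1
  · intro b _ hb
    have h1 : m.1 b j = 0 := by
      by_contra h2
      exact hb (hm b j h2)
    rw [h1, mul_zero]
  · intro h1
    exact (h1 (Finset.mem_univ _)).elim

theorem T_ext {s t : SpecialLinearGroup (Fin (l + 1)) E} (hs : s ∈ Nodes.RGDTypeA.T (Fin (l + 1)) E)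
    (ht : t ∈ Nodes.RGDTypeA.T (Fin (l + 1)) E) (h : ∀ j, s.1 j j = t.1 j j) : s = t := by
  apply Subtype.ext
  rw [eq_diagonal hs, eq_diagonal ht]
  congr 1
  funext j
  exact h j

theorem conj_mem_T {σ : Equiv.Perm (Fin (l + 1))} {m t : SpecialLinearGroup (Fin (l + 1)) E} (hm : Mono σ m)
    (ht : t ∈ Nodes.RGDTypeA.T (Fin (l + 1)) E) : m⁻¹ * t * m ∈ Nodes.RGDTypeA.T (Fin (l + 1)) E := by
  have := (Subgroup.mem_normalizer_iff.1 (inv_mem hm.mem_normalizer) t).1 ht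
  rwa [inv_inv] at this

theorem conj_bk {m : SpecialLinearGroup (Fin (l + 1)) E} (hm : Mono Fin.revPerm m) (i : Fin l) (s : Eˣ) :
    m⁻¹ * bk E i (hh s) * m = (bk E i.rev (hh s))⁻¹ := by
  rw [← map_inv]
  refine T_ext (conj_mem_T hm (bk_hh_mem i s)) ?_ fun j => ?_
  · rw [map_inv]; exact inv_mem (bk_hh_mem _ _)
  rw [conj_diag hm (bk_hh_mem i s), bk_apply, bk_apply, i00, i11, i01, i10, hh01, hh10, hh00, hh11, Fin.revPerm_apply]
  have e1 : j.rev = i.castSucc ↔ j = i.rev.succ := by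
    rw [Fin.rev_eq_iff, Fin.rev_castSucc]
  have e2 : j.rev = i.succ ↔ j = i.rev.castSucc := by
    rw [Fin.rev_eq_iff, Fin.rev_succ]
  have hne : i.rev.castSucc ≠ i.rev.succ := (Fin.castSucc_lt_succ).ne
  by_cases h1 : j = i.rev.succ
  · have h2 : j ≠ i.rev.castSucc := fun h3 => hne (h3.symm.trans h1)
    have h3 := e1.2 h1
    have h4 : j.rev ≠ i.succ := fun h5 => h2 (e2.1 h5)
    rw [if_pos h3, if_pos h3, if_neg h2, if_pos h1, if_neg h2, if_pos h1]
  · by_cases h2 : j = i.rev.castSucc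
    · have h3 := e2.2 h2
      have h4 : j.rev ≠ i.castSucc := fun h5 => h1 (e1.1 h5)
      rw [if_neg h4, if_pos h3, if_neg h4, if_pos h3, if_pos h2, if_pos h2]
    · simp only [e1, e2, h1, h2, if_true, if_false]

end conj

variable {W : Type*} [Group W] (cs : CoxeterSystem (cA l) W) {A : Fin l → Fin l → ℤ} (h : IsCartan (cA l) A)

theorem exists_mono (E : Type*) [Field E] (σ : Equiv.Perm (Fin (l + 1))) : ∃ (w : W) (g : SpecialLinearGroup (Fin (l + 1)) E),
    IsPm cs h w σ ∧ Rp cs (nsys (F := E) cs h) w g ∧ Mono σ g := by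
  have h1 : σ ∈ Submonoid.closure (Set.range fun i : Fin l => Equiv.swap i.castSucc i.succ) := by
    rw [Equiv.Perm.mclosure_swap_castSucc_succ]; trivial
  induction h1 using Submonoid.closure_induction with
  | mem x hx =>
    obtain ⟨i, rfl⟩ := hx
    exact ⟨_, _, IsPm.simple i, rp_simple cs _ i, mono_ns i⟩
  | one => exact ⟨1, 1, IsPm.one, rp_one, Nodes.RGDTypeA.mono_one⟩
  | mul x y _ _ hx hy =>
    obtain ⟨w, g, a1, a2, a3⟩ := hx
    obtain ⟨w', g', b1, b2, b3⟩ := hy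
    exact ⟨_, _, a1.mul b1, a2.mul b2, a3.mul b3⟩

theorem rep_rev {w : W} (hw : IsPm cs h w Fin.revPerm) (i : Fin l) : rep cs h w⁻¹ (sr i) = -sr i.rev := by
  rw [← rtA_sr, ← rtA_sr, hw.inv, ← rtA_neg]
  have e : (Fin.revPerm : Equiv.Perm (Fin (l + 1)))⁻¹ = Fin.revPerm := by
    rw [Equiv.Perm.inv_def, Fin.revPerm_symm]
  rw [e, Fin.revPerm_apply, Fin.revPerm_apply, Fin.rev_castSucc, Fin.rev_succ]

section chi

variable {k V : Type*} [Field k] [AddCommGroup V] [Module k V] {Y : Type*} [Group Y] {T : Subgroup Y}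
  {ρ : Y →* Module.End k V} {c : V} (hc0 : c ≠ 0) {χ : Y → k} (hχ : ∀ t ∈ T, ρ t c = χ t • c)
include hc0 hχ

theorem chi_mul' {s t : Y} (hs : s ∈ T) (ht : t ∈ T) : χ (s * t) = χ s * χ t := by
  have h1 := hχ _ (mul_mem hs ht)
  rw [rho_mul, hχ t ht, map_smul, hχ s hs, smul_smul] at h1
  rw [mul_comm]
  exact (smul_left_injective k hc0 h1).symm

theorem chi_one' : χ 1 = 1 := by
  have h1 := hχ 1 (one_mem T)
  rw [map_one, Module.End.one_apply] at h1
  exact (smul_left_injective k hc0 ((one_smul k c).trans h1)).symm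

theorem chi_inv' {t : Y} (ht : t ∈ T) : χ t * χ t⁻¹ = 1 := by
  rw [← chi_mul' hc0 hχ ht (inv_mem ht), mul_inv_cancel, chi_one' hc0 hχ]

end chi

section mod

variable {cs h} [Finite E] [Finite W] (p : ℕ) [hp : Fact p.Prime] [hEp : CharP E p] {k V : Type*} [Field k] [hkp : CharP k p]
  [AddCommGroup V] [Module k V] [FiniteDimensional k V] [Nontrivial V]
  {ρ : SpecialLinearGroup (Fin (l + 1)) E →* Module.End k V}
  (hirr : ∀ L : Submodule k V, Ivt ρ (GG cs h (Nodes.RGDTypeA.T (Fin (l + 1)) E) (Nodes.RGDTypeA.X E)) L →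
    L = ⊥ ∨ L = ⊤)
  {c : V} (hc : c ∈ D cs h (Nodes.RGDTypeA.X E) ρ) (hc0 : c ≠ 0)
  {χ : SpecialLinearGroup (Fin (l + 1)) E → k} (hχ : ∀ t ∈ Nodes.RGDTypeA.T (Fin (l + 1)) E, ρ t c = χ t • c)

include hp hEp hkp

include hirr hc hc0 hχ in
/-- **A two-dimensional edge.** -/
theorem exists_sigma_A {i : Fin l} (hi : i ∉ Jx cs h (Nodes.RGDTypeA.X E) ρ)
    (hle : Le cs h (Nodes.RGDTypeA.T (Fin (l + 1)) E) (Nodes.RGDTypeA.X E) ρ {i} ≤
      D cs h (Nodes.RGDTypeA.X E) ρ ⊔ (D cs h (Nodes.RGDTypeA.X E) ρ).map (ρ (Nodes.RGDTypeA.ns l E i))) :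
    ∃ σ : E →+* k, ∀ s : Eˣ, χ (bk E i (hh s)) = σ s := by
  have R := rgd cs h (F := E) (p := p)
  obtain ⟨φ, hφ, h1⟩ := exists_phi R hirr hc hc0
  refine exists_sigma (ρ.comp (bk E i)) (v := c) (φ := φ) (χ := fun s => χ (bk E i (hh s))) ?_ ?_ ?_ h1 ?_ ?_
  · intro a x
    exact (mem_fx_dual ρ).1 hφ _ (X_le_UN (isRoot_sr cs h i).neg (neg_nonpos.2 (sr_nonneg i)) (bk_Lo_mem i a)) x
  · intro b
    exact X_fix R ρ hc i (bk_U_mem i b)
  · intro s
    exact hχ _ (bk_hh_mem i s)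
  · have e : bk E i ww⁻¹ = (Nodes.RGDTypeA.ns l E i)⁻¹ := by rw [map_inv, bk_ww]
    change φ (ρ (bk E i ww⁻¹) c) = 0
    rw [e]
    exact phi_n_inv R hirr hc hφ hi
  · intro b
    obtain ⟨b', hb'⟩ := Xneg_c R hirr hc hc0 hχ hi hle (bk_Lo_mem i 1)
    obtain ⟨a', ha'⟩ := Xpos_n R hirr hc hc0 hχ hi hle (bk_U_mem i b)
    refine ⟨b' * a', ?_⟩
    change ρ (bk E i (U b)) (ρ (bk E i (Lo 1)) c - c) = (ρ (bk E i (Lo 1)) c - c) + (b' * a') • c
    rw [hb', add_sub_cancel_left, map_smul, ha', smul_add, smul_smul]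

include hc hc0 hχ in
theorem chi_bk_of_mem {i : Fin l} (hi : i ∈ Jx cs h (Nodes.RGDTypeA.X E) ρ) (s : Eˣ) : χ (bk E i (hh s)) = 1 := by
  have R := rgd cs h (F := E) (p := p)
  let K : Subgroup (SpecialLinearGroup (Fin (l + 1)) E) :=
    { carrier := {g | ρ g c = c}
      one_mem' := by
        change ρ 1 c = c
        rw [map_one]; rfl
      mul_mem' := by
        intro a b ha hb
        change ρ (a * b) c = c
        rw [rho_mul]
        change ρ b c = c at hb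
        rw [hb]; exact ha
      inv_mem' := by
        intro a ha
        change ρ a⁻¹ c = c
        change ρ a c = c at ha
        conv_lhs => rw [← ha]
        rw [rho_inv_rho] }
  have h1 : (bk E i).range ≤ K := by
    change (blk (F := E) (a := i.castSucc) (b := i.succ) _).range ≤ K
    rw [blk_range]
    refine sup_le ?_ ?_
    · intro x hx
      rw [← X_sr] at hx
      exact X_fix R ρ hc i hx
    · intro x hx
      rw [← X_neg_sr] at hx
      exact hi x hx c hc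
  have h2 : ρ (bk E i (hh s)) c = c := h1 ⟨hh s, rfl⟩
  rw [hχ _ (bk_hh_mem i s)] at h2
  exact smul_left_injective k hc0 (h2.trans (one_smul k c).symm)

section sd

variable {B : V →ₗ[k] V →ₗ[k] k} (hB : ∀ g x y, B (ρ g x) (ρ g y) = B x y) (hB0 : ∀ x, (∀ y, B x y = 0) → x = 0)
include hirr hc hc0 hχ hB hB0

theorem chi_bk_rev (i : Fin l) (s : Eˣ) : χ (bk E i (hh s)) = χ (bk E i.rev (hh s)) := by
  have R := rgd cs h (F := E) (p := p)
  obtain ⟨w, m, hw, hm, hmono⟩ := exists_mono cs h E (Fin.revPerm : Equiv.Perm (Fin (l + 1)))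
  have h1 := chi_symm R hirr hc hc0 hχ hB hB0 hm (rep_rev cs h hw) (bk_hh_mem i s)
  rw [conj_bk hmono] at h1
  have h2 := chi_inv' hc0 hχ (bk_hh_mem i.rev s)
  have h3 : χ (bk E i.rev (hh s))⁻¹ ≠ 0 := right_ne_zero_of_mul (h2.trans_ne one_ne_zero)
  exact mul_right_cancel₀ h3 (h1.trans h2.symm)

theorem Jx_rev {i : Fin l} (hi : i ∈ Jx cs h (Nodes.RGDTypeA.X E) ρ) : i.rev ∈ Jx cs h (Nodes.RGDTypeA.X E) ρ := by
  have R := rgd cs h (F := E) (p := p)
  obtain ⟨w, m, hw, hm, hmono⟩ := exists_mono cs h E (Fin.revPerm : Equiv.Perm (Fin (l + 1)))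
  exact Jx_symm R hirr hc hB hB0 hm (rep_rev cs h hw) hi (D_eq R hirr hc hc0 hχ).le

end sd

end mod

end Cfsg.Agent.H911.Ad
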