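import Cfsg.Agent.Mrg.Omega.FOne.Lift.SdIso

/-!
# Twists and duality of simple modules in defining characteristic (helper911)

`R : RGD cs h p T n X`, `ρ : Y →* Matrix ι ι k` simple over a field of characteristic `p`, `c` a nonzero vector of
`V^U` with `ρ t c = χ t c` for `t ∈ T`, `s` an automorphism of `k`.

* `trace_fixed` : if `s (χ t) = χ t` on `T`, then `s (tr g) = tr g` for all `g` of the group;
* `trace_inv` : if `w` is over `-1` and `s (χ t) = χ (w⁻¹ t⁻¹ w)` on `T`, then `tr g⁻¹ = s (tr g)`.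
-/

set_option autoImplicit false
set_option linter.unusedSectionVars false
set_option linter.style.haveILetI false

namespace Cfsg.Agent.H911

open CoxeterSystem Cfsg.Agent.ChevalleyStructure.CoxeterGeom Cfsg.Agent.Tits.Roots Cfsg.Agent.Tits.Core
  Cfsg.Agent.Tits.Exchange Cfsg.Agent.Nodes.Reps Cfsg.Agent.Nodes.BNOf Cfsg.Agent.Nodes.StabComb
  Cfsg.Agent.Nodes.Bruhat Cfsg.Agent.Nodes.OppDec Cfsg.Agent.Nodes.LeviDec Cfsg.Agent.KFacts.RgdOpp
  Cfsg.Agent.Omega.CR Cfsg.Agent.Omega.FOne.Lift.Sd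

/-! ### matrices -/

section Mat

variable {Y ι k : Type*} [Group Y] [Fintype ι] [DecidableEq ι] [Field k]

/-- the module of a matrix representation -/
noncomputable def lin (ρ : Y →* Matrix ι ι k) : Y →* Module.End k (ι → k) where
  toFun g := Matrix.toLin' (ρ g)
  map_one' := by rw [map_one, Matrix.toLin'_one]; rfl
  map_mul' a b := by rw [map_mul, Matrix.toLin'_mul]; rfl

theorem lin_apply (ρ : Y →* Matrix ι ι k) (g : Y) (v : ι → k) : lin ρ g v = (ρ g).mulVec v :=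
  Matrix.toLin'_apply _ _

theorem trace_lin (ρ : Y →* Matrix ι ι k) (g : Y) : LinearMap.trace k (ι → k) (lin ρ g) = (ρ g).trace :=
  Matrix.trace_toLin'_eq (ρ g)

/-- the twist by an automorphism of the field -/
def tw (s : k ≃+* k) (ρ : Y →* Matrix ι ι k) : Y →* Matrix ι ι k where
  toFun g := (ρ g).map s
  map_one' := by rw [map_one]; exact Matrix.map_one s (map_zero s) (map_one s)
  map_mul' a b := by rw [map_mul, Matrix.map_mul]

theorem tw_apply (s : k ≃+* k) (ρ : Y →* Matrix ι ι k) (g : Y) : tw s ρ g = (ρ g).map s := rfl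

/-- the semilinear map -/
def sv (s : k ≃+* k) (v : ι → k) : ι → k := fun i => s (v i)

omit [Fintype ι] [DecidableEq ι] in
theorem sv_add (s : k ≃+* k) (v w : ι → k) : sv s (v + w) = sv s v + sv s w :=
  funext fun _ => map_add s _ _

omit [Fintype ι] [DecidableEq ι] in
theorem sv_smul (s : k ≃+* k) (a : k) (v : ι → k) : sv s (a • v) = s a • sv s v :=
  funext fun _ => map_mul s _ _

omit [Fintype ι] [DecidableEq ι] in
theorem sv_zero (s : k ≃+* k) : sv s (0 : ι → k) = 0 := funext fun _ => map_zero s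

omit [Fintype ι] [DecidableEq ι] in
theorem sv_inj (s : k ≃+* k) {v w : ι → k} (h : sv s v = sv s w) : v = w :=
  funext fun i => s.injective (congrFun h i)

omit [Fintype ι] [DecidableEq ι] in
theorem sv_surj (s : k ≃+* k) (w : ι → k) : ∃ v, sv s v = w :=
  ⟨fun i => s.symm (w i), funext fun i => s.apply_symm_apply (w i)⟩

omit [Fintype ι] [DecidableEq ι] in
theorem sv_sum {α : Type*} (s : k ≃+* k) (S : Finset α) (f : α → ι → k) :
    sv s (∑ a ∈ S, f a) = ∑ a ∈ S, sv s (f a) := by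
  classical
  induction S using Finset.induction_on with
  | empty => exact sv_zero s
  | insert a S ha ih => rw [Finset.sum_insert ha, Finset.sum_insert ha, sv_add, ih]

theorem lin_tw (s : k ≃+* k) (ρ : Y →* Matrix ι ι k) (g : Y) (v : ι → k) :
    lin (tw s ρ) g (sv s v) = sv s (lin ρ g v) := by
  rw [lin_apply, lin_apply, tw_apply]
  funext i
  simp only [Matrix.mulVec, dotProduct, Matrix.map_apply, sv, map_sum, map_mul]

/-- the preimage of a subspace under the semilinear map -/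
def pull (s : k ≃+* k) (L : Submodule k (ι → k)) : Submodule k (ι → k) where
  carrier := {v | sv s v ∈ L}
  zero_mem' := by
    change sv s 0 ∈ L
    rw [sv_zero]; exact L.zero_mem
  add_mem' := fun {a b} ha hb => by
    change sv s (a + b) ∈ L
    rw [sv_add]; exact L.add_mem ha hb
  smul_mem' := fun c x hx => by
    change sv s (c • x) ∈ L
    rw [sv_smul]; exact L.smul_mem _ hx

omit [Fintype ι] [DecidableEq ι] in
theorem mem_pull {s : k ≃+* k} {L : Submodule k (ι → k)} {v : ι → k} : v ∈ pull s L ↔ sv s v ∈ L := Iff.rfl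

theorem tw_irr {G : Subgroup Y} (s : k ≃+* k) (ρ : Y →* Matrix ι ι k)
    (hirr : ∀ L : Submodule k (ι → k), Ivt (lin ρ) G L → L = ⊥ ∨ L = ⊤) (L : Submodule k (ι → k))
    (hL : Ivt (lin (tw s ρ)) G L) : L = ⊥ ∨ L = ⊤ := by
  have h1 : Ivt (lin ρ) G (pull s L) := by
    intro g hg v hv
    rw [mem_pull, ← lin_tw]
    exact hL g hg _ hv
  rcases hirr _ h1 with h2 | h2
  · left
    rw [eq_bot_iff]
    intro w hw
    obtain ⟨v, rfl⟩ := sv_surj s w
    have h3 : v ∈ pull s L := hw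
    rw [h2, Submodule.mem_bot] at h3
    rw [h3, sv_zero]
    exact Submodule.zero_mem _
  · right
    rw [eq_top_iff]
    intro w _
    obtain ⟨v, rfl⟩ := sv_surj s w
    have h3 : v ∈ pull s L := by rw [h2]; trivial
    exact h3

theorem mem_fx_tw (s : k ≃+* k) (ρ : Y →* Matrix ι ι k) {B : Subgroup Y} {v : ι → k} :
    sv s v ∈ fx (lin (tw s ρ)) B ↔ v ∈ fx (lin ρ) B := by
  constructor
  · intro hv b hb
    have h1 := hv b hb
    rw [lin_tw] at h1
    exact sv_inj s h1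
  · intro hv b hb
    rw [lin_tw, hv b hb]

end Mat

/-! ### root group data -/

variable {I W Y : Type*} [Fintype I] [DecidableEq I] [Group W] [Group Y] {M : CoxeterMatrix I}
  {cs : CoxeterSystem M W} {A : I → I → ℤ} {h : IsCartan M A} {p : ℕ} {T : Subgroup Y} {n : I → Y}
  {X : (I → ℤ) → Subgroup Y}

section Iso

variable {k V V₁ V₂ : Type*} [Field k] [AddCommGroup V] [Module k V] [AddCommGroup V₁] [Module k V₁]
  [AddCommGroup V₂] [Module k V₂]

variable (R : RGD cs h p T n X) [Finite Y] [Finite W] [Fact p.Prime] [CharP k p]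
include R

/-- `V^U` is spanned by an eigenvector of `T` -/
theorem fx_eq_span [FiniteDimensional k V] [Nontrivial V] (ρ : Y →* Module.End k V)
    (hirr : ∀ L : Submodule k V, Ivt ρ (GG cs h T X) L → L = ⊥ ∨ L = ⊤) {c : V}
    (hc : c ∈ fx ρ (RGD.Sup X (RGD.Pos cs h))) (hc0 : c ≠ 0) {χ : Y → k} (hχ : ∀ t ∈ T, ρ t c = χ t • c) :
    fx ρ (RGD.Sup X (RGD.Pos cs h)) = Submodule.span k {c} := by
  have h1 := simp_fx R ρ hirr
  refine ((h1.simple (Submodule.span k {c}) ?_ ?_).resolve_left ?_).symm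
  · rw [Submodule.span_singleton_le_iff_mem]
    exact hc
  · intro t ht v hv
    obtain ⟨a, rfl⟩ := Submodule.mem_span_singleton.1 hv
    rw [map_smul, hχ t ht]
    exact Submodule.smul_mem _ _ (Submodule.smul_mem _ _ (Submodule.mem_span_singleton_self c))
  · intro h2
    have h3 := Submodule.mem_span_singleton_self (R := k) c
    rw [h2, Submodule.mem_bot] at h3
    exact hc0 h3

/-- **two simple modules with the same character on `V^U` and the same `Zi` are isomorphic** -/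
theorem iso_of_char [FiniteDimensional k V₁] [FiniteDimensional k V₂] [Nontrivial V₁] [Nontrivial V₂]
    (ρ₁ : Y →* Module.End k V₁) (ρ₂ : Y →* Module.End k V₂)
    (hirr₁ : ∀ L : Submodule k V₁, Ivt ρ₁ (GG cs h T X) L → L = ⊥ ∨ L = ⊤)
    (hirr₂ : ∀ L : Submodule k V₂, Ivt ρ₂ (GG cs h T X) L → L = ⊥ ∨ L = ⊤)
    {c₁ : V₁} {c₂ : V₂} (hc₁ : c₁ ∈ fx ρ₁ (RGD.Sup X (RGD.Pos cs h))) (h₁0 : c₁ ≠ 0)
    (hc₂ : c₂ ∈ fx ρ₂ (RGD.Sup X (RGD.Pos cs h))) (h₂0 : c₂ ≠ 0) {χ : Y → k}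
    (hχ₁ : ∀ t ∈ T, ρ₁ t c₁ = χ t • c₁) (hχ₂ : ∀ t ∈ T, ρ₂ t c₂ = χ t • c₂)
    (hz : ∀ i, Zi cs h n X ρ₁ i ↔ Zi cs h n X ρ₂ i) :
    ∃ θ : V₁ ≃ₗ[k] V₂, ∀ g ∈ GG cs h T X, ∀ v, θ (ρ₁ g v) = ρ₂ g (θ v) := by
  have e₁ := fx_eq_span R ρ₁ hirr₁ hc₁ h₁0 hχ₁
  -- a functional with value `1` at `c₁`
  obtain ⟨φ, hφ⟩ : ∃ φ : Module.Dual k V₁, φ c₁ = 1 := by
    obtain ⟨ψ, hψ⟩ := not_forall.1 ((Module.forall_dual_apply_eq_zero_iff k c₁).not.2 h₁0)
    exact ⟨(ψ c₁)⁻¹ • ψ, by rw [LinearMap.smul_apply, smul_eq_mul, inv_mul_cancel₀ hψ]⟩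
  let τ : fx ρ₁ (RGD.Sup X (RGD.Pos cs h)) →ₗ[k] fx ρ₂ (RGD.Sup X (RGD.Pos cs h)) :=
    (LinearMap.toSpanSingleton k _ (⟨c₂, hc₂⟩ : fx ρ₂ (RGD.Sup X (RGD.Pos cs h)))).comp
      (φ.comp (fx ρ₁ (RGD.Sup X (RGD.Pos cs h))).subtype)
  have hτ : ∀ v : fx ρ₁ (RGD.Sup X (RGD.Pos cs h)), (τ v : V₂) = φ v • c₂ := fun v => rfl
  refine exists_iso R ρ₁ ρ₂ hirr₁ hirr₂ τ ?_ ?_ hz
  · intro h0
    have h1 := hτ ⟨c₁, hc₁⟩
    rw [h0, hφ, one_smul] at h1
    exact h₂0 h1.symm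
  · intro t ht v w hw
    have hv : (v : V₁) ∈ Submodule.span k {c₁} := by rw [← e₁]; exact v.2
    obtain ⟨a, ha⟩ := Submodule.mem_span_singleton.1 hv
    have h1 : φ (w : V₁) = χ t * a := by
      rw [hw, ← ha, map_smul, hχ₁ t ht, map_smul, map_smul, hφ, smul_eq_mul, smul_eq_mul, mul_one, mul_comm]
    have h2 : φ (v : V₁) = a := by
      rw [← ha, map_smul, hφ, smul_eq_mul, mul_one]
    rw [hτ, hτ, h1, h2, map_smul, hχ₂ t ht, smul_smul, mul_comm]

end Iso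

/-! ### the two trace theorems -/

section Trace

variable {ι k : Type*} [Fintype ι] [DecidableEq ι] [Field k]

theorem sg_tw [Finite Y] (s : k ≃+* k) (ρ : Y →* Matrix ι ι k) (B : Subgroup Y) (v : ι → k) :
    sg (lin (tw s ρ)) B (sv s v) = sv s (sg (lin ρ) B v) := by
  classical
  letI := Fintype.ofFinite B
  rw [sg_def, sg_def, sv_sum]
  exact Finset.sum_congr rfl fun x _ => lin_tw s ρ _ _

theorem Ti_tw [Finite Y] (s : k ≃+* k) (ρ : Y →* Matrix ι ι k) (i : I) (v : ι → k) :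
    Ti n X (lin (tw s ρ)) i (sv s v) = sv s (Ti n X (lin ρ) i v) := by
  rw [Ti_apply, Ti_apply, lin_tw, sg_tw]

theorem Zi_tw [Finite Y] (s : k ≃+* k) (ρ : Y →* Matrix ι ι k) (i : I) :
    Zi cs h n X (lin (tw s ρ)) i ↔ Zi cs h n X (lin ρ) i := by
  constructor
  · intro h0 v hv
    have h1 := h0 (sv s v) ((mem_fx_tw s ρ).2 hv)
    rw [Ti_tw, ← sv_zero s] at h1
    exact sv_inj s h1
  · intro h0 w hw
    obtain ⟨v, rfl⟩ := sv_surj s w
    rw [Ti_tw, h0 v ((mem_fx_tw s ρ).1 hw), sv_zero]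

theorem trace_eq_of_conj {V₁ V₂ : Type*} [AddCommGroup V₁] [Module k V₁] [AddCommGroup V₂] [Module k V₂]
    (θ : V₁ ≃ₗ[k] V₂) {a : Module.End k V₁} {b : Module.End k V₂} (hab : ∀ v, θ (a v) = b (θ v)) :
    LinearMap.trace k V₁ a = LinearMap.trace k V₂ b := by
  have h1 : b = θ.conj a := by
    ext v
    rw [LinearEquiv.conj_apply_apply, hab, θ.apply_symm_apply]
  rw [h1, LinearMap.trace_conj']

variable (R : RGD cs h p T n X) [Finite Y] [Finite W] [Fact p.Prime] [CharP k p] [Nonempty ι]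
  (ρ : Y →* Matrix ι ι k) (hirr : ∀ L : Submodule k (ι → k), Ivt (lin ρ) (GG cs h T X) L → L = ⊥ ∨ L = ⊤)
  {c : ι → k} (hc : c ∈ fx (lin ρ) (RGD.Sup X (RGD.Pos cs h))) (hc0 : c ≠ 0) {χ : Y → k}
  (hχ : ∀ t ∈ T, lin ρ t c = χ t • c)
include R hirr hc hc0 hχ

/-- **Frobenius.** -/
theorem trace_fixed (s : k ≃+* k) (hs : ∀ t ∈ T, s (χ t) = χ t) {g : Y} (hg : g ∈ GG cs h T X) :
    s ((ρ g).trace) = (ρ g).trace := by
  obtain ⟨θ, hθ⟩ := iso_of_char R (lin ρ) (lin (tw s ρ)) hirr (tw_irr s ρ hirr) hc hc0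
    ((mem_fx_tw s ρ).2 hc) (fun h0 => hc0 (sv_inj s (h0.trans (sv_zero s).symm))) hχ
    (fun t ht => by rw [lin_tw, hχ t ht, sv_smul, hs t ht]) (fun i => (Zi_tw s ρ i).symm)
  have h1 := trace_eq_of_conj θ (hθ g hg)
  rw [trace_lin, trace_lin] at h1
  rw [tw_apply, ← AddMonoidHom.map_trace s (ρ g)] at h1
  exact h1.symm

/-- **Duality.** -/
theorem trace_inv_of {w : Y} {σ : I → I} (O : OppW cs h T n X w σ)
    (hσ : ∀ i, Zi cs h n X (lin ρ) i ↔ Zi cs h n X (lin ρ) (σ i))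
    (s : k ≃+* k) (hs : ∀ t ∈ T, s (χ t) = χ (w⁻¹ * t⁻¹ * w)) {g : Y} (hg : g ∈ GG cs h T X) :
    (ρ g⁻¹).trace = s ((ρ g).trace) := by
  have hspan := fx_eq_span R (lin ρ) hirr hc hc0 hχ
  -- an eigenvector of the dual
  obtain ⟨φ, hφ, hφ0⟩ := (Submodule.ne_bot_iff _).1 (simp_fx R (dualRep (lin ρ)) (dual_irr (lin ρ) hirr)).ne
  have hφχ : ∀ t ∈ T, dualRep (lin ρ) t φ = (fun t => χ (w⁻¹ * t⁻¹ * w)) t • φ := by
    intro t ht
    rw [← sub_eq_zero]
    refine eq_zero_of_opp R (lin ρ) hirr (Submodule.sub_mem _ ?_ (Submodule.smul_mem _ _ hφ)) fun v hv => ?_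
    · exact (simp_fx R (dualRep (lin ρ)) (dual_irr (lin ρ) hirr)).inv t ht φ hφ
    · have h1 := w_mem' R (lin ρ) O hv
      rw [hspan] at h1
      obtain ⟨a, ha⟩ := Submodule.mem_span_singleton.1 h1
      have h2 : v = lin ρ w (a • c) := by rw [ha, rho_rho_inv]
      have h3 : lin ρ t⁻¹ (lin ρ w (a • c)) = χ (w⁻¹ * t⁻¹ * w) • lin ρ w (a • c) := by
        have e : t⁻¹ * w = w * (w⁻¹ * t⁻¹ * w) := by group
        rw [← rho_mul, e, rho_mul, map_smul (lin ρ (w⁻¹ * t⁻¹ * w)), hχ _ (O.T_le _ (inv_mem ht)), map_smul,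
          map_smul, map_smul, smul_comm]
      rw [LinearMap.sub_apply, dualRep_apply, h2, h3, map_smul, LinearMap.smul_apply, sub_self]
  obtain ⟨θ, hθ⟩ := iso_of_char R (dualRep (lin ρ)) (lin (tw s ρ)) (dual_irr (lin ρ) hirr) (tw_irr s ρ hirr)
    hφ hφ0 ((mem_fx_tw s ρ).2 hc) (fun h0 => hc0 (sv_inj s (h0.trans (sv_zero s).symm))) hφχ
    (fun t ht => by rw [lin_tw, hχ t ht, sv_smul, hs t ht])
    (fun i => ((Zi_dual R (lin ρ) O hirr i).trans (hσ i).symm).trans (Zi_tw s ρ i).symm)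
  have h1 := trace_eq_of_conj θ (hθ g hg)
  rw [trace_lin] at h1
  have h2 : LinearMap.trace k (Module.Dual k (ι → k)) (dualRep (lin ρ) g) = (ρ g⁻¹).trace := by
    rw [← trace_lin]
    exact LinearMap.trace_transpose' (lin ρ g⁻¹)
  rw [← h2, h1, tw_apply, ← AddMonoidHom.map_trace s (ρ g)]

end Trace

/-! ### `w₀ = -1` -/

section Neg

theorem conj_UN (R : RGD cs h p T n X) {w0 : W} (hw0 : ∀ x, rep cs h w0 x = -x) {w : Y}
    (hw : Rp cs R.nsys w0 w) : cj w (RGD.Sup X (RGD.Pos cs h)) = UN cs h X := by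
  unfold UN
  rw [RGD.cj_Sup]
  apply le_antisymm
  · refine iSup_le fun z => ?_
    rw [R.conj_rp hw z.2.1, hw0]
    exact RGD.le_Sup (S := Neg cs h) ⟨z.2.1.neg, neg_nonpos.2 z.2.2⟩
  · refine RGD.Sup_le fun z hz => ?_
    have h1 : cj w (X (-z)) = X z := by
      rw [R.conj_rp hw hz.1.neg, hw0, neg_neg]
    rw [← h1]
    exact le_iSup (fun y : RGD.Pos cs h => cj w (X y.1)) ⟨-z, hz.1.neg, neg_nonneg.2 hz.2⟩

theorem oppW_of_neg (R : RGD cs h p T n X) {w0 : W} (hw0 : ∀ x, rep cs h w0 x = -x) {w : Y}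
    (hw : Rp cs R.nsys w0 w) : OppW cs h T n X w id where
  T_le t ht := by
    have h1 := (Subgroup.mem_normalizer_iff.1 (inv_mem hw.mem_normalizer) t).1 ht
    rwa [inv_inv] at h1
  U_le u hu := by
    rw [← conj_UN R hw0 hw] at hu
    exact mem_cj.1 hu
  U_ge u hu := by
    rw [← conj_UN R hw0 hw]
    exact conj_mem_cj.2 hu
  Xi i := by
    have h1 : rep cs h w0⁻¹ (sr i) = -sr i := by
      have h2 : rep cs h w0 (-sr i) = sr i := by rw [hw0, neg_neg]
      rw [← h2, ← rep_mul_apply, inv_mul_cancel, map_one, Module.End.one_apply, h2]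
    exact (R.conj_rp hw.inv (isRoot_sr cs h i)).trans (by rw [h1]; rfl)
  ni i := by
    have hcomm : w0⁻¹ * (cs.simple i)⁻¹ * w0 = cs.simple i := by
      have h1 : w0 * cs.simple i = cs.simple i * w0 := by
        apply rep_injective cs h
        refine LinearMap.ext fun x => ?_
        rw [rep_mul_apply, rep_mul_apply, hw0, hw0, map_neg]
      rw [cs.inv_simple, mul_assoc, ← h1, inv_mul_cancel_left]
    have h2 : Rp cs R.nsys (cs.simple i) (w⁻¹ * (n i)⁻¹ * w) := by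
      have h3 := (hw.inv.mul (rp_simple cs R.nsys i).inv).mul hw
      rwa [hcomm] at h3
    have h4 := (rp_simple cs R.nsys i).unique h2
    exact ⟨_, h4, by rw [id, mul_inv_cancel_left]⟩

end Neg

section Main

variable {ι k : Type*} [Fintype ι] [DecidableEq ι] [Field k]

variable (R : RGD cs h p T n X) [Finite Y] [Finite W] [Fact p.Prime] [CharP k p] [Nonempty ι]
  (ρ : Y →* Matrix ι ι k) (hirr : ∀ L : Submodule k (ι → k), Ivt (lin ρ) (GG cs h T X) L → L = ⊥ ∨ L = ⊤)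
  {c : ι → k} (hc : c ∈ fx (lin ρ) (RGD.Sup X (RGD.Pos cs h))) (hc0 : c ≠ 0) {χ : Y → k}
  (hχ : ∀ t ∈ T, lin ρ t c = χ t • c)
include R hirr hc hc0 hχ

/-- **Duality, `w₀ = -1`.** -/
theorem trace_inv {w0 : W} (hw0 : ∀ x, rep cs h w0 x = -x) {w : Y}
    (hw : Rp cs R.nsys w0 w) (s : k ≃+* k) (hs : ∀ t ∈ T, s (χ t) = χ (w⁻¹ * t⁻¹ * w)) {g : Y}
    (hg : g ∈ GG cs h T X) : (ρ g⁻¹).trace = s ((ρ g).trace) :=
  trace_inv_of R ρ hirr hc hc0 hχ (oppW_of_neg R hw0 hw) (fun _ => Iff.rfl) s hs hg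

/-- the character of the torus is multiplicative -/
theorem chi_mul {t t' : Y} (ht : t ∈ T) (ht' : t' ∈ T) : χ (t * t') = χ t * χ t' := by
  have h1 := hχ _ (mul_mem ht ht')
  rw [rho_mul, hχ t' ht', map_smul, hχ t ht, smul_smul, mul_comm] at h1
  obtain ⟨i, hi⟩ : ∃ i, c i ≠ 0 := by
    by_contra hcon
    push Not at hcon
    exact hc0 (funext hcon)
  have h2 := congrFun h1 i
  simp only [Pi.smul_apply, smul_eq_mul] at h2
  exact (mul_right_cancel₀ hi h2).symm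

end Main

end Cfsg.Agent.H911
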