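import Cfsg.Agent.H911.AdPSL
import Cfsg.Agent.H920.FormUniq

/-!
# The quadratic form of the adjoint module (helper911)

`e2 X = tr (adjugate X)`, the second coefficient of the characteristic polynomial.
-/

set_option autoImplicit false
set_option linter.unusedSectionVars false
set_option linter.unusedVariables false

namespace Cfsg.Agent.H911.Ad.Mo

open Matrix

variable {k : Type*} [Field k] {E : Type*} [Field E] (σ : E →+* k)

/-- the second coefficient of the characteristic polynomial -/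
def e2 (X : Matrix (Fin 3) (Fin 3) k) : k := X.adjugate.trace

theorem e2_eq (X : Matrix (Fin 3) (Fin 3) k) : e2 X = X 0 0 * X 1 1 + X 0 0 * X 2 2 + X 1 1 * X 2 2 - X 0 1 * X 1 0 -
    X 0 2 * X 2 0 - X 1 2 * X 2 1 := by
  unfold e2
  rw [Matrix.adjugate_fin_three, Matrix.trace_fin_three]
  simp
  ring

theorem e2_conj (g : SpecialLinearGroup (Fin 3) E) (X : Matrix (Fin 3) (Fin 3) k) :
    e2 (mp σ g * X * mp σ g⁻¹) = e2 X := by
  unfold e2
  rw [Matrix.adjugate_mul_distrib, Matrix.adjugate_mul_distrib, Matrix.trace_mul_comm, Matrix.mul_assoc,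
    ← Matrix.adjugate_mul_distrib, mp_inv_mul, Matrix.adjugate_one, Matrix.mul_one]

theorem e2_smul (a : k) (X : Matrix (Fin 3) (Fin 3) k) : e2 (a • X) = a ^ 2 * e2 X := by
  rw [e2_eq, e2_eq]
  simp only [Matrix.smul_apply, smul_eq_mul]
  ring

theorem e2_add (X Y : Matrix (Fin 3) (Fin 3) k) :
    e2 (X + Y) = e2 X + e2 Y + (X.trace * Y.trace - (X * Y).trace) := by
  rw [e2_eq, e2_eq, e2_eq, Matrix.trace_fin_three, Matrix.trace_fin_three, Matrix.trace_fin_three]
  simp only [Matrix.add_apply, Matrix.mul_apply, Fin.sum_univ_three]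
  ring

theorem e2_shift {X Y : S k} (a : k) (h : X.1 = Y.1 + a • (1 : Matrix (Fin 3) (Fin 3) k)) : e2 X.1 = e2 Y.1 := by
  have h1 := X.2
  have h2 := Y.2
  rw [mem_S] at h1 h2
  have h3 : a * 3 = 0 := by
    rw [h, Matrix.trace_add, h2, zero_add, Matrix.trace_smul, Matrix.trace_one, Fintype.card_fin, smul_eq_mul] at h1
    exact_mod_cast h1
  rw [h, e2_add, h2, zero_mul, e2_smul, Matrix.mul_smul, Matrix.mul_one, Matrix.trace_smul, h2]
  have h4 : e2 (1 : Matrix (Fin 3) (Fin 3) k) = 3 := by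
    rw [e2_eq]
    simp
    norm_num
  rw [h4, smul_zero]
  linear_combination a * h3

/-- the quadratic form on the adjoint module -/
noncomputable def qM (v : M k) : k := e2 (Classical.choose (mk_surj v)).1

theorem qM_mk (X : S k) : qM (mk X) = e2 X.1 := by
  unfold qM
  have h1 := Classical.choose_spec (mk_surj (mk X))
  rw [← sub_eq_zero, ← map_sub, mk_eq_zero] at h1
  obtain ⟨a, ha⟩ := h1
  refine e2_shift a ?_
  rw [ha]
  change _ = X.1 + ((Classical.choose (mk_surj (mk X))).1 - X.1)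
  rw [add_sub_cancel]

theorem qM_ad (g : SpecialLinearGroup (Fin 3) E) (v : M k) : qM (ad σ g v) = qM v := by
  obtain ⟨X, rfl⟩ := mk_surj v
  rw [ad_mk, qM_mk, qM_mk, adS_val, e2_conj]

theorem qM_smul (a : k) (v : M k) : qM (a • v) = a ^ 2 * qM v := by
  obtain ⟨X, rfl⟩ := mk_surj v
  rw [← map_smul, qM_mk, qM_mk]
  exact e2_smul a X.1

theorem polar_qM (X Y : S k) : QuadraticMap.polar qM (mk X) (mk Y) = -(X.1 * Y.1).trace := by
  unfold QuadraticMap.polar
  rw [← map_add, qM_mk, qM_mk, qM_mk]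
  change e2 (X.1 + Y.1) - e2 X.1 - e2 Y.1 = _
  rw [e2_add, mem_S.1 X.2]
  ring

theorem nondeg {X : S k} (hX : mk X ≠ 0) : ∃ Y : S k, (X.1 * Y.1).trace ≠ 0 := by
  by_contra hcon
  push Not at hcon
  apply hX
  rw [mk_eq_zero]
  have h1 : ∀ {i j : Fin 3}, i ≠ j → X.1 j i = 0 := by
    intro i j hij
    have h2 := hcon (e k hij)
    change (X.1 * Matrix.single i j 1).trace = 0 at h2
    rw [Matrix.trace_mul_comm, Matrix.trace_single_mul, one_smul] at h2
    exact h2
  have h3 : ∀ i j : Fin 3, X.1 j j = X.1 i i := by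
    intro i j
    have h2 := hcon (d k i j)
    change (X.1 * (Matrix.single j j 1 - Matrix.single i i 1)).trace = 0 at h2
    rw [Matrix.mul_sub, Matrix.trace_sub, Matrix.trace_mul_comm, Matrix.trace_mul_comm X.1, Matrix.trace_single_mul,
      Matrix.trace_single_mul, one_smul, one_smul] at h2
    exact sub_eq_zero.1 h2
  refine ⟨X.1 0 0, ?_⟩
  ext i j
  by_cases hij : i = j
  · subst hij
    rw [Matrix.smul_apply, Matrix.one_apply_eq, smul_eq_mul, mul_one, h3]
  · rw [Matrix.smul_apply, Matrix.one_apply_ne hij, smul_zero, h1 (Ne.symm hij)]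

/-- the totally singular subspace -/
def TT (ω : k) (hω : ω ^ 2 + ω + 1 = 0) : (Fin 4 → k) →ₗ[k] S k where
  toFun a := ⟨!![a 3, a 0, a 1; 0, ω * a 3, a 2; 0, 0, ω ^ 2 * a 3], by
    rw [mem_S, Matrix.trace_fin_three]
    simp
    linear_combination (a 3) * hω⟩
  map_add' a b := by
    apply Subtype.ext
    change !![_, _, _; _, _, _; _, _, _] = !![_, _, _; _, _, _; _, _, _] + !![_, _, _; _, _, _; _, _, _]
    ext i j
    fin_cases i <;> fin_cases j <;> simp <;> ring
  map_smul' c a := by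
    apply Subtype.ext
    change !![_, _, _; _, _, _; _, _, _] = c • !![_, _, _; _, _, _; _, _, _]
    ext i j
    fin_cases i <;> fin_cases j <;> simp <;> ring

theorem TT_val (ω : k) (hω : ω ^ 2 + ω + 1 = 0) (a : Fin 4 → k) :
    (TT ω hω a).1 = !![a 3, a 0, a 1; 0, ω * a 3, a 2; 0, 0, ω ^ 2 * a 3] := rfl

theorem e2_TT (ω : k) (hω : ω ^ 2 + ω + 1 = 0) (a : Fin 4 → k) : e2 (TT ω hω a).1 = 0 := by
  rw [TT_val, e2_eq]
  simp
  linear_combination (a 3) ^ 2 * ω * hω

theorem TT_inj (h3 : (3 : k) ≠ 0) (ω : k) (hω : ω ^ 2 + ω + 1 = 0) {a : Fin 4 → k} (h : mk (TT ω hω a) = 0) : a = 0 := by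
  obtain ⟨b, hb⟩ := mk_eq_zero.1 h
  rw [TT_val] at hb
  have h00 := congrFun (congrFun hb 0) 0
  have h11 := congrFun (congrFun hb 1) 1
  have h01 := congrFun (congrFun hb 0) 1
  have h02 := congrFun (congrFun hb 0) 2
  have h12 := congrFun (congrFun hb 1) 2
  simp at h00 h11 h01 h02 h12
  have hω1 : ω - 1 ≠ 0 := by
    intro h0
    apply h3
    have h1 : ω = 1 := by linear_combination h0
    rw [h1] at hω
    linear_combination hω
  have ha3 : a 3 = 0 := by
    have h4 : (ω - 1) * a 3 = 0 := by linear_combination h00 - h11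
    exact (mul_eq_zero.1 h4).resolve_left hω1
  funext i
  fin_cases i
  · exact h01.symm
  · exact h02.symm
  · exact h12.symm
  · exact ha3

end Cfsg.Agent.H911.Ad.Mo

namespace Cfsg.Agent.H911.Ad

open Matrix
open Cfsg Cfsg.Geo Cfsg.Agent.H915.LD

section model

variable {F : Type*} [Field F] {ι : Type} [Fintype ι] [DecidableEq ι] {P : Subgroup (GL ι F)}
  {E : Type*} [Field E] {σ : E →+* F} {φ : SpecialLinearGroup (Fin 3) E →* GL ι F} (θ : (ι → F) ≃ₗ[F] Mo.M F)

/-- the quadratic form -/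
noncomputable def qf (θ : (ι → F) ≃ₗ[F] Mo.M F) (v : ι → F) : F := Mo.qM (θ v)

theorem polar_qf (u v : ι → F) {X Y : Mo.S F} (hX : Mo.mk X = θ u) (hY : Mo.mk Y = θ v) :
    QuadraticMap.polar (qf θ) u v = -(X.1 * Y.1).trace := by
  have h1 : QuadraticMap.polar (qf θ) u v = QuadraticMap.polar Mo.qM (θ u) (θ v) := by
    unfold QuadraticMap.polar qf
    rw [map_add]
  rw [h1, ← hX, ← hY, Mo.polar_qM]

theorem qf_nondeg : IsNondegenerateQuadraticForm (qf θ) where
  smul c v := by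
    unfold qf
    rw [map_smul, Mo.qM_smul]
  polar_bilinear := by
    constructor
    · intro x y v
      obtain ⟨X, hX⟩ := Mo.mk_surj (θ x)
      obtain ⟨Y, hY⟩ := Mo.mk_surj (θ y)
      obtain ⟨V, hV⟩ := Mo.mk_surj (θ v)
      rw [polar_qf θ x v hX hV, polar_qf θ y v hY hV, polar_qf θ (x + y) v (X := X + Y) (by rw [map_add, map_add, hX, hY]) hV]
      change -((X.1 + Y.1) * V.1).trace = _
      rw [Matrix.add_mul, Matrix.trace_add]
      ring
    · intro c x v
      obtain ⟨X, hX⟩ := Mo.mk_surj (θ x)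
      obtain ⟨V, hV⟩ := Mo.mk_surj (θ v)
      rw [polar_qf θ x v hX hV, polar_qf θ (c • x) v (X := c • X) (by rw [map_smul, map_smul, hX]) hV]
      change -((c • X.1) * V.1).trace = _
      rw [Matrix.smul_mul, Matrix.trace_smul, smul_eq_mul]
      ring
    · intro v x y
      obtain ⟨X, hX⟩ := Mo.mk_surj (θ x)
      obtain ⟨Y, hY⟩ := Mo.mk_surj (θ y)
      obtain ⟨V, hV⟩ := Mo.mk_surj (θ v)
      rw [polar_qf θ v x hV hX, polar_qf θ v y hV hY, polar_qf θ v (x + y) (Y := X + Y) hV (by rw [map_add, map_add, hX, hY])]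
      change -(V.1 * (X.1 + Y.1)).trace = _
      rw [Matrix.mul_add, Matrix.trace_add]
      ring
    · intro c v x
      obtain ⟨X, hX⟩ := Mo.mk_surj (θ x)
      obtain ⟨V, hV⟩ := Mo.mk_surj (θ v)
      rw [polar_qf θ v x hV hX, polar_qf θ v (c • x) (Y := c • X) hV (by rw [map_smul, map_smul, hX])]
      change -(V.1 * (c • X.1)).trace = _
      rw [Matrix.mul_smul, Matrix.trace_smul, smul_eq_mul]
      ring
  nondegenerate := by
    intro v hv
    obtain ⟨V, hV⟩ := Mo.mk_surj (θ v)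
    have hV0 : Mo.mk V ≠ 0 := by
      rw [hV]
      exact fun h0 => hv (θ.map_eq_zero_iff.1 h0)
    obtain ⟨Y, hY⟩ := Mo.nondeg hV0
    have e1 : Mo.mk Y = θ (θ.symm (Mo.mk Y)) := (θ.apply_symm_apply _).symm
    refine ⟨⟨θ.symm (Mo.mk Y), ?_⟩, ⟨θ.symm (Mo.mk Y), ?_⟩⟩
    · rw [polar_qf θ _ _ e1 hV, Matrix.trace_mul_comm]
      exact neg_ne_zero.2 hY
    · rw [polar_qf θ _ _ hV e1]
      exact neg_ne_zero.2 hY

theorem qf_fix (hφ : φ.range = P) (hθ : ∀ g v, θ ((φ g : Matrix ι ι F) *ᵥ v) = Mo.ad σ g (θ v)) :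
    FixesQuadForm (matrixSet P) (qf θ) := by
  rintro s ⟨g, hg, rfl⟩ v
  rw [SetLike.mem_coe, ← hφ] at hg
  obtain ⟨y, rfl⟩ := hg
  change Mo.qM (θ ((φ y : Matrix ι ι F) *ᵥ v)) = Mo.qM (θ v)
  rw [hθ, Mo.qM_ad]

theorem qf_plus (h3 : (3 : F) ≠ 0) {ω : F} (hω : ω ^ 2 + ω + 1 = 0) : IsPlusTypeOn (qf θ) ⊤ := by
  let L : (Fin 4 → F) →ₗ[F] (ι → F) := θ.symm.toLinearMap.comp (Mo.mk.comp (Mo.TT ω hω))
  have hL : ∀ a, θ (L a) = Mo.mk (Mo.TT ω hω a) := fun a => θ.apply_symm_apply _
  refine ⟨LinearMap.range L, le_top, ?_, ?_⟩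
  · rintro _ ⟨a, rfl⟩
    change Mo.qM (θ (L a)) = 0
    rw [hL, Mo.qM_mk, Mo.e2_TT]
  · have hinj : Function.Injective L := by
      rw [injective_iff_map_eq_zero]
      intro a ha
      apply Mo.TT_inj h3 ω hω
      rw [← hL, ha, map_zero]
    rw [LinearMap.finrank_range_of_inj hinj, finrank_top, Module.finrank_fintype_fun_eq_card, Fintype.card_fin,
      LinearEquiv.finrank_eq θ, Mo.finrank_M h3]

end model

/-! ### uniqueness of the quadratic form -/

section uniq

variable {F : Type*} [Field F] {ι : Type} [Fintype ι] [DecidableEq ι] {P : Subgroup (GL ι F)}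

/-- **The invariant quadratic form is unique up to scalars.** -/
theorem quad_unique [Finite F] (hC : Core P) {Q Q' : (ι → F) → F} (hQ : IsNondegenerateQuadraticForm Q)
    (hQP : FixesQuadForm (matrixSet P) Q) (hQ' : IsNondegenerateQuadraticForm Q')
    (hQP' : FixesQuadForm (matrixSet P) Q') : ∃ a : F, a ≠ 0 ∧ ∀ v, Q' v = a * Q v := by
  have hne := hC.nonempty
  have hfix : ∀ {Q : (ι → F) → F}, FixesQuadForm (matrixSet P) Q → FixesForm (matrixSet P) (QuadraticMap.polar Q) := by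
    intro Q hQ s hs u v
    unfold QuadraticMap.polar
    rw [← Matrix.mulVec_add, hQ s hs, hQ s hs, hQ s hs]
  obtain ⟨a, ha⟩ := H920.form_unique hC.absIrred hQ.polar_bilinear hQ.nondegenerate (hfix hQP) hQ'.polar_bilinear
    (hfix hQP')
  have ha0 : a ≠ 0 := by
    intro h0
    obtain ⟨v, hv⟩ := exists_ne (0 : ι → F)
    obtain ⟨⟨x, hx⟩, -⟩ := hQ'.nondegenerate v hv
    apply hx
    rw [ha, h0, zero_mul]
  refine ⟨a, ha0, fun v => ?_⟩
  have hadd : ∀ u v, Q' (u + v) - a * Q (u + v) = (Q' u - a * Q u) + (Q' v - a * Q v) := by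
    intro u v
    have h1 := ha u v
    unfold QuadraticMap.polar at h1
    linear_combination h1
  have hz : Q' 0 - a * Q 0 = 0 := by
    have h1 := hadd 0 0
    rw [add_zero] at h1
    linear_combination -h1
  let L : Submodule F (ι → F) :=
    { carrier := {v | Q' v - a * Q v = 0}
      zero_mem' := hz
      add_mem' := by
        intro u v hu hv
        change Q' (u + v) - a * Q (u + v) = 0
        change Q' u - a * Q u = 0 at hu
        change Q' v - a * Q v = 0 at hv
        rw [hadd, hu, hv, add_zero]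
      smul_mem' := by
        intro c v hv
        change Q' (c • v) - a * Q (c • v) = 0
        change Q' v - a * Q v = 0 at hv
        rw [hQ'.smul, hQ.smul]
        linear_combination c ^ 2 * hv }
  have hL : L = ⊥ ∨ L = ⊤ := by
    refine hC.absIrred.1 L ?_
    rintro s hs _ ⟨v, hv, rfl⟩
    change Q' (Matrix.toLin' s v) - a * Q (Matrix.toLin' s v) = 0
    rw [Matrix.toLin'_apply, hQP' s hs, hQP s hs]
    exact hv
  rcases hL with hL | hL
  · exfalso
    have hinj : Function.Injective fun v => Q' v - a * Q v := by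
      intro u v huv
      have h1 : u - v ∈ L := by
        change Q' (u - v) - a * Q (u - v) = 0
        have h2 := hadd (u - v) v
        rw [sub_add_cancel] at h2
        have h3 : Q' u - a * Q u = Q' v - a * Q v := huv
        linear_combination h3 - h2
      rw [hL, Submodule.mem_bot] at h1
      exact sub_eq_zero.1 h1
    have h1 := Nat.card_le_card_of_injective _ hinj
    have h2 := hC.two_le
    have h3 : Nat.card (ι → F) = Nat.card F ^ Fintype.card ι := by
      rw [Nat.card_fun, Nat.card_eq_fintype_card (α := ι)]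
    have h4 : 1 < Nat.card F := Finite.one_lt_card
    have h5 : Nat.card F ^ 2 ≤ Nat.card F ^ Fintype.card ι := Nat.pow_le_pow_right (by omega) h2
    rw [h3] at h1
    nlinarith
  · have h1 : v ∈ L := by rw [hL]; trivial
    have h2 : Q' v - a * Q v = 0 := h1
    linear_combination h2

theorem plus_of_smul {Q Q' : (ι → F) → F} {a : F} (h : ∀ v, Q' v = a * Q v) {W : Submodule F (ι → F)}
    (hW : IsPlusTypeOn Q W) : IsPlusTypeOn Q' W := by
  obtain ⟨U, h1, h2, h3⟩ := hW
  exact ⟨U, h1, fun w hw => by rw [h, h2 w hw, mul_zero], h3⟩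

end uniq

theorem exists_omega {F : Type*} [Field F] [Finite F] (h : Nat.card F % 3 = 1) : ∃ ω : F, ω ^ 2 + ω + 1 = 0 := by
  have := Fintype.ofFinite F
  have h1 : 3 ∣ Nat.card Fˣ := by
    rw [Nat.card_units]
    omega
  haveI : Fact (Nat.Prime 3) := ⟨by norm_num⟩
  obtain ⟨u, hu⟩ := exists_prime_orderOf_dvd_card' 3 h1
  refine ⟨u, ?_⟩
  have h2 : (u : F) ^ 3 = 1 := by
    rw [← Units.val_pow_eq_pow_val, ← hu, pow_orderOf_eq_one, Units.val_one]
  have h3 : (u : F) - 1 ≠ 0 := by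
    intro h0
    have h4 : u = 1 := Units.ext (by rw [Units.val_one]; linear_combination h0)
    rw [h4, orderOf_one] at hu
    omega
  have h5 : ((u : F) - 1) * ((u : F) ^ 2 + u + 1) = 0 := by linear_combination h2
  exact (mul_eq_zero.1 h5).resolve_left h3

/-! ### the theorem -/

section P

variable {F : Type*} [Field F] [Finite F] {ι : Type} [Fintype ι] [DecidableEq ι] {P : Subgroup (GL ι F)}
  {E : Type*} [Field E] [Finite E] (p : ℕ) [hp : Fact p.Prime] [hFp : CharP F p] [hEp : CharP E p]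
include hp hFp hEp

/-- **Self-dual `PSL(3, E)`, `char E = char F = p`, `n ≤ 11`.** -/
theorem sd_psl3 (hC : Core P) (hsd : SD P) (Φ : Soc P ≃* ProjectiveSpecialLinearGroup (Fin 3) E)
    (hn : Fintype.card ι ≤ 11) :
    Nat.card F = Nat.card E ∧ FixQ P ∧ (p ≠ 3 ∧ Fintype.card ι = 8 ∨ p = 3 ∧ Fintype.card ι = 7) ∧
      (Nat.card F % 3 = 1 → ∀ Q : (ι → F) → F, IsNondegenerateQuadraticForm Q → FixesQuadForm (matrixSet P) Q →
        IsPlusTypeOn Q ⊤) := by
  obtain ⟨σ, φ, θ, hσ, hφ, hθ⟩ := psl3_model p hC hsd Φ hn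
  have h1 : Module.finrank F (ι → F) = Fintype.card ι := Module.finrank_fintype_fun_eq_card F
  have h2 := qf_fix θ hφ hθ
  have h3 : ((3 : ℕ) : F) = 0 ↔ p ∣ 3 := CharP.cast_eq_zero_iff F p 3
  have h4 : p ∣ 3 ↔ p = 3 := Nat.prime_dvd_prime_iff_eq hp.out (by norm_num)
  have h5 : (3 : F) = 0 ↔ p = 3 := by
    rw [← h4, ← h3]
    norm_num
  refine ⟨(Nat.card_congr (Equiv.ofBijective σ hσ)).symm, ⟨qf θ, qf_nondeg θ, h2⟩, ?_, ?_⟩
  · by_cases hp3 : p = 3
    · right
      exact ⟨hp3, by rw [← h1, LinearEquiv.finrank_eq θ, Mo.finrank_M' (h5.2 hp3)]⟩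
    · left
      exact ⟨hp3, by rw [← h1, LinearEquiv.finrank_eq θ, Mo.finrank_M (fun h => hp3 (h5.1 h))]⟩
  · intro hF Q hQ hQP
    obtain ⟨ω, hω⟩ := exists_omega hF
    obtain ⟨a, -, ha⟩ := quad_unique hC (qf_nondeg θ) h2 hQ hQP
    have h30 : (3 : F) ≠ 0 := by
      intro h0
      obtain rfl := h5.1 h0
      have h6 : 3 ∣ Nat.card F := by
        have := Fintype.ofFinite F
        obtain ⟨e, -, he⟩ := FiniteField.card F 3
        rw [Nat.card_eq_fintype_card, he]
        exact dvd_pow_self 3 e.ne_zero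
      omega
    exact plus_of_smul ha (qf_plus θ h30 hω)

end P

end Cfsg.Agent.H911.Ad
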