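import Cfsg.Agent.H911.AdAlt

/-!
# Self-dual `PSL(4, E)` in the defining characteristic, `n ≤ 11`: the alternating square (helper911)
-/

set_option autoImplicit false
set_option linter.unusedSectionVars false
set_option linter.unusedVariables false

namespace Cfsg.Agent.H911.Ad.Al

open Matrix CoxeterSystem Cfsg.Agent.ChevalleyStructure.CoxeterGeom Cfsg.Agent.Tits.Roots Cfsg.Agent.Tits.Core
  Cfsg.Agent.Tits.Exchange Cfsg.Agent.Nodes.Reps Cfsg.Agent.Nodes.BNOf Cfsg.Agent.Nodes.StabComb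
  Cfsg.Agent.Nodes.Bruhat Cfsg.Agent.Nodes.OppDec Cfsg.Agent.Nodes.LeviDec Cfsg.Agent.KFacts.RgdOpp
  Cfsg.Agent.Omega.CR Cfsg.Agent.Omega.FOne.Lift.Sd Cfsg.Agent.Nodes.RootsA Cfsg.Agent.H911 Cfsg.Agent.H905.Md
open Cfsg.Agent.LieRecognition.BNCox (cA cA_apply)
open Cfsg.Agent.Nodes.RGDTypeA (Mono mem_T tv_val XX tv_mem_XX nn mono_ns X_sr X_neg_sr nsys rgd)
open Cfsg.Agent.TitsThree.KSideA (tv tv_of_ne tv_add tv_zero tv_neg)

variable {k : Type*} [Field k] {E : Type*} [Field E] (σ : E →+* k)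

/-- the vector `e₀ ∧ e₁` -/
def c₂ (k : Type*) [Field k] : A k := w k (show (0 : Fin 4) ≠ 1 by decide)

theorem c₂_ne : c₂ k ≠ 0 := w_ne _

instance instNontrivialA : Nontrivial (A k) := ⟨⟨_, _, c₂_ne⟩⟩

theorem tv_mem (i : Fin 3) (t : E) : tv i.castSucc i.succ t ∈ Nodes.RGDTypeA.X E (sr i) := by
  rw [X_sr]; exact tv_mem_XX _ _ _

theorem tv_mem_neg (i : Fin 3) (t : E) : tv i.succ i.castSucc t ∈ Nodes.RGDTypeA.X E (-sr i) := by
  rw [X_neg_sr]; exact tv_mem_XX _ _ _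

section irr

variable {W : Type*} [Group W] {cs : CoxeterSystem (cA 3) W} {A' : Fin 3 → Fin 3 → ℤ} {h : IsCartan (cA 3) A'}
  [Finite E] [Finite W] (p : ℕ) [hp : Fact p.Prime] [hEp : CharP E p] [hkp : CharP k p]
include hp hEp hkp

theorem exists_fix {L : Submodule k (A k)} (hL : Ivt (al σ) (GG cs h (Nodes.RGDTypeA.T (Fin 4) E) (Nodes.RGDTypeA.X E)) L)
    (h0 : L ≠ ⊥) : ∃ a : k, a ≠ 0 ∧ a • c₂ k ∈ L ∧ a • c₂ k ∈ D cs h (Nodes.RGDTypeA.X E) (al σ) := by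
  have R := rgd cs h (F := E) (p := p)
  have hU : RGD.Sup (Nodes.RGDTypeA.X E) (RGD.Pos cs h) ≤ GG cs h (Nodes.RGDTypeA.T (Fin 4) E) (Nodes.RGDTypeA.X E) :=
    RGD.Sup_le fun x hx => X_le_GG hx.1
  obtain ⟨X, hvL, hv0, hv⟩ := exists_fixed (al σ) R.isPGroup_Upos L (fun a ha v hv => hL a (hU ha) v hv) h0
  have hvD : X ∈ D cs h (Nodes.RGDTypeA.X E) (al σ) := hv
  have h1 : X = X.1 0 1 • c₂ k :=
    fix_eq σ (X_fix R (al σ) hvD 0 (tv_mem 0 1)) (X_fix R (al σ) hvD 1 (tv_mem 1 1)) (X_fix R (al σ) hvD 2 (tv_mem 2 1))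
  refine ⟨X.1 0 1, ?_, h1 ▸ hvL, h1 ▸ hvD⟩
  intro h2
  apply hv0
  rw [h1, h2, zero_smul]

theorem mod_irr (L : Submodule k (A k))
    (hL : Ivt (al σ) (GG cs h (Nodes.RGDTypeA.T (Fin 4) E) (Nodes.RGDTypeA.X E)) L) : L = ⊥ ∨ L = ⊤ := by
  by_cases h0 : L = ⊥
  · exact Or.inl h0
  right
  obtain ⟨a, ha, h1, -⟩ := exists_fix (σ := σ) p hL h0
  refine gen_top σ (fun g v hv => hL g ?_ v hv) ?_
  · rw [gg_eq_top (Nodes.RGDTypeA.G1_eq_top cs h)]; trivial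
  · have h2 := L.smul_mem a⁻¹ h1
    rwa [smul_smul, inv_mul_cancel₀ ha, one_smul] at h2

theorem c₂_mem : c₂ k ∈ D cs h (Nodes.RGDTypeA.X E) (al σ) := by
  obtain ⟨a, ha, -, h2⟩ := exists_fix (σ := σ) (cs := cs) (h := h) p (L := ⊤) (fun _ _ _ _ => trivial) top_ne_bot
  have h3 := (D cs h (Nodes.RGDTypeA.X E) (al σ)).smul_mem a⁻¹ h2
  rwa [smul_smul, inv_mul_cancel₀ ha, one_smul] at h3

omit [Finite E] [Finite W] hp hEp hkp in
theorem al_T {t : SpecialLinearGroup (Fin 4) E} (ht : t ∈ Nodes.RGDTypeA.T (Fin 4) E) :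
    al σ t (c₂ k) = σ (t.1 0 0 * t.1 1 1) • c₂ k := by
  have h1 : mp σ t = Matrix.diagonal fun i => σ (t.1 i i) := by
    unfold mp
    conv_lhs => rw [KFacts.MulOdd.TypeA.eq_diagonal ht]
    rw [Matrix.diagonal_map (map_zero σ)]
  have hent : ∀ i j, (al σ t (c₂ k)).1 i j = σ (t.1 i i) * (c₂ k).1 i j * σ (t.1 j j) := by
    intro i j
    rw [al_val, h1, Matrix.diagonal_transpose, Matrix.mul_diagonal, Matrix.diagonal_mul]
  refine A_ext ?_ ?_ ?_ ?_ ?_ ?_ <;> rw [hent]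
  · change σ (t.1 0 0) * (w k _).1 0 1 * σ (t.1 1 1) = σ (t.1 0 0 * t.1 1 1) * (w k _).1 0 1
    simp [w]
  all_goals
    change _ = σ (t.1 0 0 * t.1 1 1) * (w k _).1 _ _
    simp [w, c₂]

/-- `J = {0, 2}` -/
theorem mem_Jx_iff (i : Fin 3) : i ∈ Jx cs h (Nodes.RGDTypeA.X E) (al σ : _ →* Module.End k (A k)) ↔ i ≠ 1 := by
  have R := rgd cs h (F := E) (p := p)
  have hD := D_eq R (mod_irr σ p) (c₂_mem σ p) c₂_ne (χ := fun t => σ (t.1 0 0 * t.1 1 1)) (fun t ht => al_T σ ht)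
  constructor
  · rintro hi rfl
    have h1 := hi _ (tv_mem_neg 1 1) (c₂ k) (c₂_mem σ p)
    have h2 : al σ (tv 2 1 1) (w k (show (1 : Fin 4) ≠ 0 by decide)) = w k (show (1 : Fin 4) ≠ 0 by decide) := by
      rw [w_symm (show (0 : Fin 4) ≠ 1 by decide), map_neg]
      exact congrArg Neg.neg h1
    rw [al_w σ (by decide) (by decide) (b := 2) (by decide)] at h2
    exact w_ne _ (left_eq_add.1 h2.symm)
  · intro hi x hx v hv
    rw [hD] at hv
    obtain ⟨a, rfl⟩ := Submodule.mem_span_singleton.1 hv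
    rw [map_smul]
    congr 1
    rw [X_neg_sr] at hx
    obtain ⟨t, rfl⟩ := hx
    apply Subtype.ext
    have h3 : i = 0 ∨ i = 2 := by
      revert hi; revert i; decide
    rcases h3 with rfl | rfl
    · change (al σ (tv 1 0 t) (w k _)).1 = Matrix.single 0 1 1 - Matrix.single 1 0 1
      rw [al_tv σ (by decide)]
      change (Matrix.single 0 1 1 - Matrix.single 1 0 1) + Matrix.single 1 0 (σ t) * (Matrix.single 0 1 1 - Matrix.single 1 0 1) +
        (Matrix.single 0 1 1 - Matrix.single 1 0 1) * Matrix.single 0 1 (σ t) +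
        Matrix.single 1 0 (σ t) * (Matrix.single 0 1 1 - Matrix.single 1 0 1) * Matrix.single 0 1 (σ t) =
        Matrix.single 0 1 1 - Matrix.single 1 0 (1 : k)
      simp [Matrix.mul_sub, Matrix.sub_mul, Matrix.single_mul_single_of_ne]
    · change (al σ (tv 3 2 t) (w k _)).1 = Matrix.single 0 1 1 - Matrix.single 1 0 1
      rw [al_tv σ (by decide)]
      change (Matrix.single 0 1 1 - Matrix.single 1 0 1) + Matrix.single 3 2 (σ t) * (Matrix.single 0 1 1 - Matrix.single 1 0 1) +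
        (Matrix.single 0 1 1 - Matrix.single 1 0 1) * Matrix.single 2 3 (σ t) +
        Matrix.single 3 2 (σ t) * (Matrix.single 0 1 1 - Matrix.single 1 0 1) * Matrix.single 2 3 (σ t) =
        Matrix.single 0 1 1 - Matrix.single 1 0 (1 : k)
      simp [Matrix.mul_sub, Matrix.sub_mul, Matrix.single_mul_single_of_ne]

end irr

/-! ### the Pfaffian -/

/-- the Pfaffian -/
def pf (X : A k) : k := X.1 0 1 * X.1 2 3 - X.1 0 2 * X.1 1 3 + X.1 0 3 * X.1 1 2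

theorem pf_al (g : SpecialLinearGroup (Fin 4) E) (X : A k) : pf (al σ g X) = pf X := by
  have hdet : (mp σ g).det = 1 := by
    have h1 : (mp σ g).det = σ (g.1.det) := (RingHom.map_det σ g.1).symm
    rw [h1, g.2, map_one]
  have hs := A_symm X
  have hd := X.2.2
  set G := mp σ g with hG
  have h1 : pf (al σ g X) = G.det * pf X := by
    unfold pf
    simp only [al_val, ← hG, Matrix.mul_apply, Fin.sum_univ_four, Matrix.transpose_apply]
    rw [Matrix.det_succ_row_zero]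
    simp only [Fin.sum_univ_four, Matrix.det_fin_three, Matrix.submatrix_apply, hd 0, hd 1, hd 2, hd 3, hs 0 1, hs 0 2, hs 0 3,
      hs 1 2, hs 1 3, hs 2 3]
    simp [Fin.succAbove]
    ring
  rw [h1, hdet, one_mul]

theorem pf_smul (a : k) (X : A k) : pf (a • X) = a ^ 2 * pf X := by
  unfold pf
  change a * X.1 0 1 * (a * X.1 2 3) - a * X.1 0 2 * (a * X.1 1 3) + a * X.1 0 3 * (a * X.1 1 2) = _
  ring

/-- the polar form -/
def bl (X Y : A k) : k := X.1 0 1 * Y.1 2 3 + Y.1 0 1 * X.1 2 3 - X.1 0 2 * Y.1 1 3 - Y.1 0 2 * X.1 1 3 +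
  X.1 0 3 * Y.1 1 2 + Y.1 0 3 * X.1 1 2

theorem polar_pf (X Y : A k) : pf (X + Y) - pf X - pf Y = bl X Y := by
  unfold pf bl
  change (X.1 0 1 + Y.1 0 1) * (X.1 2 3 + Y.1 2 3) - (X.1 0 2 + Y.1 0 2) * (X.1 1 3 + Y.1 1 3) +
    (X.1 0 3 + Y.1 0 3) * (X.1 1 2 + Y.1 1 2) - _ - _ = _
  ring

theorem bl_symm (X Y : A k) : bl X Y = bl Y X := by unfold bl; ring

theorem bl_add (X Y Z : A k) : bl (X + Y) Z = bl X Z + bl Y Z := by
  unfold bl
  change (X.1 0 1 + Y.1 0 1) * Z.1 2 3 + Z.1 0 1 * (X.1 2 3 + Y.1 2 3) - (X.1 0 2 + Y.1 0 2) * Z.1 1 3 -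
    Z.1 0 2 * (X.1 1 3 + Y.1 1 3) + (X.1 0 3 + Y.1 0 3) * Z.1 1 2 + Z.1 0 3 * (X.1 1 2 + Y.1 1 2) = _
  ring

theorem bl_smul (a : k) (X Z : A k) : bl (a • X) Z = a * bl X Z := by
  unfold bl
  change a * X.1 0 1 * Z.1 2 3 + Z.1 0 1 * (a * X.1 2 3) - a * X.1 0 2 * Z.1 1 3 - Z.1 0 2 * (a * X.1 1 3) +
    a * X.1 0 3 * Z.1 1 2 + Z.1 0 3 * (a * X.1 1 2) = _
  ring

theorem bl_nondeg {X : A k} (hX : X ≠ 0) : ∃ Y, bl X Y ≠ 0 := by
  by_contra hcon
  push Not at hcon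
  apply hX
  have h01 := hcon (w k (show (2 : Fin 4) ≠ 3 by decide))
  have h02 := hcon (w k (show (1 : Fin 4) ≠ 3 by decide))
  have h03 := hcon (w k (show (1 : Fin 4) ≠ 2 by decide))
  have h12 := hcon (w k (show (0 : Fin 4) ≠ 3 by decide))
  have h13 := hcon (w k (show (0 : Fin 4) ≠ 2 by decide))
  have h23 := hcon (w k (show (0 : Fin 4) ≠ 1 by decide))
  simp [bl, w] at h01 h02 h03 h12 h13 h23
  exact A_ext h01 h02 h03 h12 h13 h23

/-- the coordinates -/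
def cd (k : Type*) [Field k] : (Fin 6 → k) ≃ₗ[k] A k where
  toFun a := ⟨!![0, a 0, a 1, a 2; -a 0, 0, a 3, a 4; -a 1, -a 3, 0, a 5; -a 2, -a 4, -a 5, 0], by
    constructor
    · ext i j
      fin_cases i <;> fin_cases j <;> simp
    · intro i
      fin_cases i <;> rfl⟩
  map_add' a b := by
    refine A_ext ?_ ?_ ?_ ?_ ?_ ?_ <;> rfl
  map_smul' c a := by
    refine A_ext ?_ ?_ ?_ ?_ ?_ ?_ <;> rfl
  invFun X := ![X.1 0 1, X.1 0 2, X.1 0 3, X.1 1 2, X.1 1 3, X.1 2 3]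
  left_inv a := by
    funext i
    fin_cases i <;> rfl
  right_inv X := by
    refine A_ext ?_ ?_ ?_ ?_ ?_ ?_ <;> rfl

theorem finrank_A : Module.finrank k (A k) = 6 := by
  rw [← LinearEquiv.finrank_eq (cd k), Module.finrank_fintype_fun_eq_card, Fintype.card_fin]

end Cfsg.Agent.H911.Ad.Al

namespace Cfsg.Agent.H911.Ad

open Matrix CoxeterSystem Cfsg.Agent.ChevalleyStructure.CoxeterGeom Cfsg.Agent.Tits.Roots Cfsg.Agent.Tits.Core
  Cfsg.Agent.Tits.Exchange Cfsg.Agent.Nodes.Reps Cfsg.Agent.Nodes.BNOf Cfsg.Agent.Nodes.StabComb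
  Cfsg.Agent.Nodes.Bruhat Cfsg.Agent.Nodes.OppDec Cfsg.Agent.Nodes.LeviDec Cfsg.Agent.KFacts.RgdOpp
  Cfsg.Agent.Omega.CR Cfsg.Agent.Omega.FOne.Lift.Sd Cfsg.Agent.Nodes.RootsA Cfsg.Agent.H911 Cfsg.Agent.H905.Md
open Cfsg Cfsg.Geo Cfsg.Agent.H915.LD
open Cfsg.Agent.H911.SLTwo (U Lo hh ww hh00 hh01 hh10 hh11)
open Cfsg.Agent.LieRecognition.BNCox (cA cA_apply)
open Cfsg.Agent.Nodes.RGDTypeA (Mono mem_T rgd)
open scoped MatrixGroups Matrix

theorem fin_three_cases : ∀ j : Fin 3, j = 0 ∨ j = 1 ∨ j = 2 := by decide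

section frame

variable {W : Type*} [Group W] {cs : CoxeterSystem (cA 3) W} {A : Fin 3 → Fin 3 → ℤ} {h : IsCartan (cA 3) A}
  {E : Type*} [Field E] [Finite E] [Finite W] (p : ℕ) [hp : Fact p.Prime] [hEp : CharP E p]
  {k V : Type*} [Field k] [hkp : CharP k p]
  [AddCommGroup V] [Module k V] [FiniteDimensional k V] [Nontrivial V]
  {ρ : SpecialLinearGroup (Fin 4) E →* Module.End k V}
  (hirr : ∀ L : Submodule k V, Ivt ρ (GG cs h (Nodes.RGDTypeA.T (Fin 4) E) (Nodes.RGDTypeA.X E)) L → L = ⊥ ∨ L = ⊤)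
  {c : V} (hc : c ∈ D cs h (Nodes.RGDTypeA.X E) ρ) (hc0 : c ≠ 0)
  {χ : SpecialLinearGroup (Fin 4) E → k} (hχ : ∀ t ∈ Nodes.RGDTypeA.T (Fin 4) E, ρ t c = χ t • c)
  {B : V →ₗ[k] V →ₗ[k] k} (hB : ∀ g x y, B (ρ g x) (ρ g y) = B x y) (hB0 : ∀ x, (∀ y, B x y = 0) → x = 0)
include hp hEp hkp hirr hc hc0 hχ hB hB0

theorem finrank_D4 : Module.finrank k (D cs h (Nodes.RGDTypeA.X E) ρ) = 1 := by
  rw [D_eq (rgd cs h (F := E) (p := p)) hirr hc hc0 hχ]
  exact finrank_span_singleton hc0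

theorem Jx_four (hV : 2 ≤ Module.finrank k V) (hn : Module.finrank k V ≤ 11) (i : Fin 3) :
    i ∈ Jx cs h (Nodes.RGDTypeA.X E) ρ ↔ i ≠ 1 := by
  have R := rgd cs h (F := E) (p := p)
  have hD := finrank_D4 p hirr hc hc0 hχ hB hB0
  have h02 : (0 : Fin 3) ∈ Jx cs h (Nodes.RGDTypeA.X E) ρ ∧ (2 : Fin 3) ∈ Jx cs h (Nodes.RGDTypeA.X E) ρ := by
    have hr : ∀ i : Fin 3, i ∈ Jx cs h (Nodes.RGDTypeA.X E) ρ → i.rev ∈ Jx cs h (Nodes.RGDTypeA.X E) ρ :=
      fun i hi => Jx_rev (l := 3) p hirr hc hc0 hχ hB hB0 hi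
    have e0 : (0 : Fin 3).rev = 2 := by decide
    have e2 : (2 : Fin 3).rev = 0 := by decide
    by_contra hcon
    have h0 : (0 : Fin 3) ∉ Jx cs h (Nodes.RGDTypeA.X E) ρ := fun h0 => hcon ⟨h0, e0 ▸ hr 0 h0⟩
    have h2 : (2 : Fin 3) ∉ Jx cs h (Nodes.RGDTypeA.X E) ρ := fun h2 => hcon ⟨e2 ▸ hr 2 h2, h2⟩
    have h3 := two_ends R hirr (i := 0) (j := 2) rfl rfl h0 h2
    rw [hD] at h3
    omega
  constructor
  · rintro hi rfl
    obtain ⟨j, hj⟩ := exists_not_mem R hirr (by rw [hD]; omega)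
    apply hj
    rcases fin_three_cases j with rfl | rfl | rfl
    · exact h02.1
    · exact hi
    · exact h02.2
  · intro hi
    rcases fin_three_cases i with rfl | rfl | rfl
    · exact h02.1
    · exact (hi rfl).elim
    · exact h02.2

/-- **the character is `σ(t₁ t₂)`** -/
theorem exists_sigma4 (hV : 2 ≤ Module.finrank k V) (hn : Module.finrank k V ≤ 11) :
    ∃ σ : E →+* k, ∀ t ∈ Nodes.RGDTypeA.T (Fin 4) E, χ t = σ (t.1 0 0 * t.1 1 1) := by
  have R := rgd cs h (F := E) (p := p)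
  have hD := finrank_D4 p hirr hc hc0 hχ hB hB0
  have hJ := Jx_four p hirr hc hc0 hχ hB hB0 hV hn
  have h1 : (1 : Fin 3) ∉ Jx cs h (Nodes.RGDTypeA.X E) ρ := fun h1 => (hJ 1).1 h1 rfl
  have hIo : Module.finrank k (Io cs h (Nodes.RGDTypeA.T (Fin (3 + 1)) E) (Nodes.RGDTypeA.X E) ρ 1) = 0 := by
    have h2 := dim_ge_A R hirr h1
    rw [hD] at h2
    have h3 : (3 + 1).choose ((1 : Fin 3).val + 1) = 6 := rfl
    have h4 : (3 + 1).choose 2 = 6 := rfl
    rw [h3, h4] at h2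
    omega
  obtain ⟨σ, hσ⟩ := exists_sigma_A p hirr hc hc0 hχ h1 (edge_of_Io R hirr h1 hIo)
  have hσ0 := chi_bk_of_mem p hc hc0 hχ ((hJ 0).2 (by decide))
  have hσ2 := chi_bk_of_mem p hc hc0 hχ ((hJ 2).2 (by decide))
  refine ⟨σ, fun t ht => ?_⟩
  have h0 : ∀ j, t.1 j j ≠ 0 := fun j => (mem_T.1 ht).apply_ne_zero j
  have hdet : t.1 0 0 * t.1 1 1 * t.1 2 2 * t.1 3 3 = 1 := by
    have h1 := t.2
    rw [KFacts.MulOdd.TypeA.eq_diagonal ht, Matrix.det_diagonal, Fin.prod_univ_four] at h1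
    exact h1
  have e : t = bk E 0 (hh (Units.mk0 _ (h0 0))) * bk E 1 (hh (Units.mk0 _ (h0 0) * Units.mk0 _ (h0 1))) *
      bk E 2 (hh (Units.mk0 _ (h0 3))⁻¹) := by
    refine T_ext ht (mul_mem (mul_mem (bk_hh_mem _ _) (bk_hh_mem _ _)) (bk_hh_mem _ _)) fun j => ?_
    rw [T_mul_diag (mul_mem (bk_hh_mem _ _) (bk_hh_mem _ _)) (bk_hh_mem _ _),
      T_mul_diag (bk_hh_mem _ _) (bk_hh_mem _ _), bk_hh_diag, bk_hh_diag, bk_hh_diag]
    have h00 := h0 0
    have h11 := h0 1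
    have h33 := h0 3
    fin_cases j
    · simp
    · simp
      field_simp
    · simp
      field_simp
      linear_combination hdet
    · simp
  have hm := chi_mul' hc0 hχ (mul_mem (bk_hh_mem (0 : Fin 3) (Units.mk0 _ (h0 0)))
    (bk_hh_mem (1 : Fin 3) (Units.mk0 _ (h0 0) * Units.mk0 _ (h0 1)))) (bk_hh_mem (2 : Fin 3) (Units.mk0 _ (h0 3))⁻¹)
  rw [← e, chi_mul' hc0 hχ (bk_hh_mem (0 : Fin 3) (Units.mk0 _ (h0 0)))
    (bk_hh_mem (1 : Fin 3) (Units.mk0 _ (h0 0) * Units.mk0 _ (h0 1))), hσ, hσ0, hσ2, one_mul, mul_one] at hm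
  rw [hm, Units.val_mul, Units.val_mk0, Units.val_mk0]

end frame

section P

variable {F : Type*} [Field F] [Finite F] {ι : Type} [Fintype ι] [DecidableEq ι] {P : Subgroup (GL ι F)}
  {E : Type*} [Field E] [Finite E] (p : ℕ) [hp : Fact p.Prime] [hFp : CharP F p] [hEp : CharP E p]
include hp hFp hEp

/-- **Self-dual `PSL(4, E)` in the defining characteristic, `n ≤ 11`: the alternating square.** -/
theorem psl4_model (hC : Core P) (hsd : SD P) (Φ : Soc P ≃* ProjectiveSpecialLinearGroup (Fin 4) E)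
    (hn : Fintype.card ι ≤ 11) : ∃ (σ : E →+* F) (φ : SpecialLinearGroup (Fin 4) E →* GL ι F) (θ : (ι → F) ≃ₗ[F] Al.A F),
      Function.Bijective σ ∧ φ.range = P ∧ ∀ g v, θ ((φ g : Matrix ι ι F) *ᵥ v) = Al.al σ g (θ v) := by
  obtain ⟨φ, hφ, -, -⟩ := psl_cover (l := 3) p hC.perfect (by omega) (by omega) Φ
  have hne := hC.nonempty
  have h2 := hC.two_le
  have : Finite (cA 3).Group := finite_W (cA 3).toCoxeterSystem (isCartan 3)
  have R := rgd (cA 3).toCoxeterSystem (isCartan 3) (F := E) (p := p)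
  have hG : GG (cA 3).toCoxeterSystem (isCartan 3) (Nodes.RGDTypeA.T (Fin 4) E) (Nodes.RGDTypeA.X E) = ⊤ :=
    gg_eq_top (Nodes.RGDTypeA.G1_eq_top _ _)
  have hirr := mrep_irr hφ hC.absIrred hG
  obtain ⟨c, hc, hc0, χ, hχ⟩ := exists_chiF R hG slT_comm hφ hC.absIrred
  obtain ⟨B, hB, hB0⟩ := exists_B hφ hC.absIrred hsd
  have hfr : Module.finrank F (ι → F) = Fintype.card ι := Module.finrank_fintype_fun_eq_card F
  obtain ⟨σ, hσ⟩ := exists_sigma4 p hirr hc hc0 hχ hB hB0 (by omega) (by omega)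
  have hJ := Jx_four p hirr hc hc0 hχ hB hB0 (by omega) (by omega)
  obtain ⟨θ, hθ⟩ := iso_of_chi_J R (lin (mrep φ)) (Al.al σ) hirr (Al.mod_irr σ p) hc hc0 (Al.c₂_mem σ p) Al.c₂_ne hχ
    (fun t ht => by rw [Al.al_T σ ht, hσ t ht]) (fun i => (hJ i).trans (Al.mem_Jx_iff σ p i).symm)
  refine ⟨σ, φ, θ, ?_, hφ, fun g v => ?_⟩
  · have h3 : Nat.card E ≤ Nat.card F := Nat.card_le_card_of_injective _ σ.injective
    obtain ⟨j, hj, h4⟩ := psl_card (l := 3) p hC.absIrred hC.perfect (by omega) (by omega) Φ hC.no_subfield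
    have h5 : Nat.card F ≤ Nat.card F ^ j := Nat.le_self_pow (by omega) _
    rw [h4] at h5
    exact (Nat.bijective_iff_injective_and_card σ).2 ⟨σ.injective, le_antisymm h3 h5⟩
  · rw [← mrep_apply]
    exact hθ g (by rw [hG]; trivial) v

/-- **Self-dual `PSL(4, E)`, `char E = char F = p`, `n ≤ 11`.** -/
theorem sd_psl4 (hC : Core P) (hsd : SD P) (Φ : Soc P ≃* ProjectiveSpecialLinearGroup (Fin 4) E)
    (hn : Fintype.card ι ≤ 11) :
    Nat.card F = Nat.card E ∧ Fintype.card ι = 6 ∧ FixQ P ∧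
      (∀ Q : (ι → F) → F, IsNondegenerateQuadraticForm Q → FixesQuadForm (matrixSet P) Q → IsPlusTypeOn Q ⊤) := by
  obtain ⟨σ, φ, θ, hσ, hφ, hθ⟩ := psl4_model p hC hsd Φ hn
  have h1 : Module.finrank F (ι → F) = Fintype.card ι := Module.finrank_fintype_fun_eq_card F
  have hpol : ∀ u v, QuadraticMap.polar (fun v => Al.pf (θ v)) u v = Al.bl (θ u) (θ v) := by
    intro u v
    change Al.pf (θ (u + v)) - Al.pf (θ u) - Al.pf (θ v) = _
    rw [map_add, Al.polar_pf]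
  have hQ : IsNondegenerateQuadraticForm (fun v => Al.pf (θ v)) :=
    { smul := fun c v => by
        change Al.pf (θ (c • v)) = _
        rw [map_smul, Al.pf_smul]
      polar_bilinear :=
        { add_left := fun x y v => by rw [hpol, hpol, hpol, map_add, Al.bl_add]
          smul_left := fun c x v => by rw [hpol, hpol, map_smul, Al.bl_smul]
          add_right := fun v x y => by
            rw [hpol, hpol, hpol, map_add, Al.bl_symm, Al.bl_add, Al.bl_symm _ (θ v), Al.bl_symm _ (θ v)]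
          smul_right := fun c v x => by rw [hpol, hpol, map_smul, Al.bl_symm, Al.bl_smul, Al.bl_symm _ (θ v)] }
      nondegenerate := by
        intro v hv
        obtain ⟨Y, hY⟩ := Al.bl_nondeg (X := θ v) (fun h0 => hv (θ.map_eq_zero_iff.1 h0))
        refine ⟨⟨θ.symm Y, ?_⟩, ⟨θ.symm Y, ?_⟩⟩
        · rw [hpol, θ.apply_symm_apply, Al.bl_symm]
          exact hY
        · rw [hpol, θ.apply_symm_apply]
          exact hY }
  have hQP : FixesQuadForm (matrixSet P) (fun v => Al.pf (θ v)) := by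
    rintro s ⟨g, hg, rfl⟩ v
    rw [SetLike.mem_coe, ← hφ] at hg
    obtain ⟨y, rfl⟩ := hg
    change Al.pf (θ ((φ y : Matrix ι ι F) *ᵥ v)) = Al.pf (θ v)
    rw [hθ, Al.pf_al]
  have hcard : Fintype.card ι = 6 := by rw [← h1, LinearEquiv.finrank_eq θ, Al.finrank_A]
  refine ⟨(Nat.card_congr (Equiv.ofBijective σ hσ)).symm, hcard, ⟨_, hQ, hQP⟩, fun Q' hQ' hQP' => ?_⟩
  obtain ⟨a, -, ha⟩ := quad_unique hC hQ hQP hQ' hQP'
  refine plus_of_smul ha ?_
  let L : (Fin 3 → F) →ₗ[F] (ι → F) := θ.symm.toLinearMap.comp ((Al.cd F).toLinearMap.comp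
    (LinearMap.pi ![LinearMap.proj 0, LinearMap.proj 1, LinearMap.proj 2, 0, 0, 0]))
  have hL : ∀ a, θ (L a) = Al.cd F (fun i => (![LinearMap.proj 0, LinearMap.proj 1, LinearMap.proj 2, 0, 0, 0] i :
    (Fin 3 → F) →ₗ[F] F) a) := fun a => θ.apply_symm_apply _
  refine ⟨LinearMap.range L, le_top, ?_, ?_⟩
  · rintro _ ⟨a, rfl⟩
    change Al.pf (θ (L a)) = 0
    rw [hL]
    change _ * (0 : F) - _ * 0 + _ * 0 = 0
    ring
  · have hinj : Function.Injective L := by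
      rw [injective_iff_map_eq_zero]
      intro a ha
      have h3 := hL a
      rw [ha, map_zero] at h3
      have h4 := (Al.cd F).map_eq_zero_iff.1 h3.symm
      funext i
      fin_cases i
      · exact congrFun h4 0
      · exact congrFun h4 1
      · exact congrFun h4 2
    rw [LinearMap.finrank_range_of_inj hinj, finrank_top, h1, hcard, Module.finrank_fintype_fun_eq_card, Fintype.card_fin]

end P

end Cfsg.Agent.H911.Ad
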