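import Cfsg.Agent.H911.AdForm

/-!
# The alternating trilinear form of the adjoint module of `SL(3, E)` (helper911)

`f x y z = tr (x [y, z])`.
-/

set_option autoImplicit false
set_option linter.unusedSectionVars false
set_option linter.unusedVariables false

namespace Cfsg.Agent.H911.Ad.Mo

open Matrix

variable {k : Type*} [Field k] {E : Type*} [Field E] (σ : E →+* k)

/-- `tr (x [y, z])` -/
def tri (X Y Z : S k) : k := (X.1 * (Y.1 * Z.1 - Z.1 * Y.1)).trace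

theorem tri_shift {X X' Y Y' W W' : S k} (hX : mk X = mk X') (hY : mk Y = mk Y') (hW : mk W = mk W') :
    tri X Y W = tri X' Y' W' := by
  have key : ∀ {A B : S k}, mk A = mk B → ∃ a : k, A.1 = B.1 + a • (1 : Matrix (Fin 3) (Fin 3) k) := by
    intro A B h
    rw [← sub_eq_zero, ← map_sub, mk_eq_zero] at h
    obtain ⟨a, ha⟩ := h
    refine ⟨a, ?_⟩
    rw [ha]
    change A.1 = B.1 + (A.1 - B.1)
    rw [add_sub_cancel]
  obtain ⟨a, ha⟩ := key hX
  obtain ⟨b, hb⟩ := key hY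
  obtain ⟨c, hc⟩ := key hW
  unfold tri
  have h1 : Y.1 * W.1 - W.1 * Y.1 = Y'.1 * W'.1 - W'.1 * Y'.1 := by
    rw [hb, hc]
    simp only [Matrix.add_mul, Matrix.mul_add, Matrix.smul_mul, Matrix.mul_smul, Matrix.one_mul, Matrix.mul_one,
      smul_add, smul_smul, mul_comm b c]
    abel
  rw [h1, ha, Matrix.add_mul, Matrix.trace_add, Matrix.smul_mul, Matrix.one_mul, Matrix.trace_smul, Matrix.trace_sub,
    Matrix.trace_mul_comm Y'.1, sub_self, smul_zero, add_zero]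

theorem tri_ad (g : SpecialLinearGroup (Fin 3) E) (X Y W : S k) :
    tri (adS σ g X) (adS σ g Y) (adS σ g W) = tri X Y W := by
  have h1 : ∀ A B : Matrix (Fin 3) (Fin 3) k, (mp σ g * A * mp σ g⁻¹) * (mp σ g * B * mp σ g⁻¹) =
      mp σ g * (A * B) * mp σ g⁻¹ := by
    intro A B
    rw [Matrix.mul_assoc (mp σ g * A), ← Matrix.mul_assoc (mp σ g⁻¹), ← Matrix.mul_assoc (mp σ g⁻¹), mp_inv_mul,
      Matrix.one_mul, Matrix.mul_assoc, ← Matrix.mul_assoc A, ← Matrix.mul_assoc]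
  unfold tri
  rw [adS_val, adS_val, adS_val, h1, h1, ← Matrix.sub_mul, ← Matrix.mul_sub, h1, trace_conj]

theorem tri_self (X Y : S k) : tri X X Y = 0 := by
  unfold tri
  rw [Matrix.mul_sub, Matrix.trace_sub, ← Matrix.mul_assoc, ← Matrix.mul_assoc, Matrix.trace_mul_comm (X.1 * Y.1),
    ← Matrix.mul_assoc, sub_self]

theorem tri_self' (X Y : S k) : tri X Y Y = 0 := by
  unfold tri
  rw [sub_self, Matrix.mul_zero, Matrix.trace_zero]

theorem tri_add₁ (X X' Y W : S k) : tri (X + X') Y W = tri X Y W + tri X' Y W := by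
  unfold tri
  change ((X.1 + X'.1) * _).trace = _
  rw [Matrix.add_mul, Matrix.trace_add]

theorem tri_smul₁ (a : k) (X Y W : S k) : tri (a • X) Y W = a * tri X Y W := by
  unfold tri
  change ((a • X.1) * _).trace = _
  rw [Matrix.smul_mul, Matrix.trace_smul, smul_eq_mul]

theorem tri_add₂ (X Y Y' W : S k) : tri X (Y + Y') W = tri X Y W + tri X Y' W := by
  unfold tri
  change (X.1 * ((Y.1 + Y'.1) * W.1 - W.1 * (Y.1 + Y'.1))).trace = _
  rw [← Matrix.trace_add, ← Matrix.mul_add, Matrix.add_mul, Matrix.mul_add]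
  congr 2
  abel

theorem tri_smul₂ (a : k) (X Y W : S k) : tri X (a • Y) W = a * tri X Y W := by
  unfold tri
  change (X.1 * ((a • Y.1) * W.1 - W.1 * (a • Y.1))).trace = _
  rw [Matrix.smul_mul, Matrix.mul_smul, ← smul_sub, Matrix.mul_smul, Matrix.trace_smul, smul_eq_mul]

theorem tri_add₃ (X Y W W' : S k) : tri X Y (W + W') = tri X Y W + tri X Y W' := by
  unfold tri
  change (X.1 * (Y.1 * (W.1 + W'.1) - (W.1 + W'.1) * Y.1)).trace = _
  rw [← Matrix.trace_add, ← Matrix.mul_add, Matrix.add_mul, Matrix.mul_add]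
  congr 2
  abel

theorem tri_smul₃ (a : k) (X Y W : S k) : tri X Y (a • W) = a * tri X Y W := by
  unfold tri
  change (X.1 * (Y.1 * (a • W.1) - (a • W.1) * Y.1)).trace = _
  rw [Matrix.smul_mul, Matrix.mul_smul, ← smul_sub, Matrix.mul_smul, Matrix.trace_smul, smul_eq_mul]

end Cfsg.Agent.H911.Ad.Mo

namespace Cfsg.Agent.H911.Ad

open Matrix
open Cfsg Cfsg.Geo Cfsg.Agent.H915.LD

section tri

variable {F : Type*} [Field F] {V : Type*} [AddCommGroup V] [Module F V] (θ : V ≃ₗ[F] Mo.M F)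

/-- a representative -/
noncomputable def rp (v : V) : Mo.S F := Classical.choose (Mo.mk_surj (θ v))

theorem mk_rp (v : V) : Mo.mk (rp θ v) = θ v := Classical.choose_spec (Mo.mk_surj (θ v))

theorem tri_eq {x y z : V} {X Y Z : Mo.S F} (hX : Mo.mk X = θ x) (hY : Mo.mk Y = θ y) (hZ : Mo.mk Z = θ z) :
    Mo.tri (rp θ x) (rp θ y) (rp θ z) = Mo.tri X Y Z :=
  Mo.tri_shift ((mk_rp θ x).trans hX.symm) ((mk_rp θ y).trans hY.symm) ((mk_rp θ z).trans hZ.symm)

/-- the trilinear form -/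
noncomputable def triF : V →ₗ[F] V →ₗ[F] V →ₗ[F] F :=
  LinearMap.mk₂ F (fun x y =>
    { toFun := fun z => Mo.tri (rp θ x) (rp θ y) (rp θ z)
      map_add' := fun z z' => by
        rw [tri_eq θ (mk_rp θ x) (mk_rp θ y) (Z := rp θ z + rp θ z') (by rw [map_add, map_add, mk_rp, mk_rp]), Mo.tri_add₃]
      map_smul' := fun a z => by
        rw [tri_eq θ (mk_rp θ x) (mk_rp θ y) (Z := a • rp θ z) (by rw [map_smul, map_smul, mk_rp]), Mo.tri_smul₃]; rfl })
    (fun x x' y => LinearMap.ext fun z => by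
      change Mo.tri (rp θ (x + x')) (rp θ y) (rp θ z) = Mo.tri (rp θ x) (rp θ y) (rp θ z) + Mo.tri (rp θ x') (rp θ y) (rp θ z)
      rw [tri_eq θ (X := rp θ x + rp θ x') (by rw [map_add, map_add, mk_rp, mk_rp]) (mk_rp θ y) (mk_rp θ z), Mo.tri_add₁])
    (fun a x y => LinearMap.ext fun z => by
      change Mo.tri (rp θ (a • x)) (rp θ y) (rp θ z) = a * Mo.tri (rp θ x) (rp θ y) (rp θ z)
      rw [tri_eq θ (X := a • rp θ x) (by rw [map_smul, map_smul, mk_rp]) (mk_rp θ y) (mk_rp θ z), Mo.tri_smul₁])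
    (fun x y y' => LinearMap.ext fun z => by
      change Mo.tri (rp θ x) (rp θ (y + y')) (rp θ z) = Mo.tri (rp θ x) (rp θ y) (rp θ z) + Mo.tri (rp θ x) (rp θ y') (rp θ z)
      rw [tri_eq θ (mk_rp θ x) (Y := rp θ y + rp θ y') (by rw [map_add, map_add, mk_rp, mk_rp]) (mk_rp θ z), Mo.tri_add₂])
    (fun a x y => LinearMap.ext fun z => by
      change Mo.tri (rp θ x) (rp θ (a • y)) (rp θ z) = a * Mo.tri (rp θ x) (rp θ y) (rp θ z)
      rw [tri_eq θ (mk_rp θ x) (Y := a • rp θ y) (by rw [map_smul, map_smul, mk_rp]) (mk_rp θ z), Mo.tri_smul₂])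

theorem triF_apply (x y z : V) : triF θ x y z = Mo.tri (rp θ x) (rp θ y) (rp θ z) := rfl

theorem triF_eq {x y z : V} {X Y Z : Mo.S F} (hX : Mo.mk X = θ x) (hY : Mo.mk Y = θ y) (hZ : Mo.mk Z = θ z) :
    triF θ x y z = Mo.tri X Y Z := tri_eq θ hX hY hZ

theorem triF_self (x y : V) : triF θ x x y = 0 := Mo.tri_self _ _

theorem triF_self' (x y : V) : triF θ x y y = 0 := Mo.tri_self' _ _

theorem triF_ne : triF θ ≠ 0 := by
  intro h0
  have h1 := triF_eq θ (x := θ.symm (Mo.mk (Mo.e F (show (0 : Fin 3) ≠ 1 by decide))))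
    (y := θ.symm (Mo.mk (Mo.e F (show (1 : Fin 3) ≠ 2 by decide))))
    (z := θ.symm (Mo.mk (Mo.e F (show (2 : Fin 3) ≠ 0 by decide))))
    (θ.apply_symm_apply _).symm (θ.apply_symm_apply _).symm (θ.apply_symm_apply _).symm
  rw [h0] at h1
  have h2 : Mo.tri (Mo.e F (show (0 : Fin 3) ≠ 1 by decide)) (Mo.e F (show (1 : Fin 3) ≠ 2 by decide))
      (Mo.e F (show (2 : Fin 3) ≠ 0 by decide)) = 1 := by
    change (Matrix.single 0 1 1 * (Matrix.single 1 2 1 * Matrix.single 2 0 1 - Matrix.single 2 0 1 * Matrix.single 1 2 1) :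
      Matrix (Fin 3) (Fin 3) F).trace = 1
    rw [Matrix.single_mul_single_same, Matrix.single_mul_single_of_ne _ _ _ _ (by decide), sub_zero,
      Matrix.single_mul_single_same, Matrix.trace_single_eq_same, mul_one, mul_one]
  rw [h2] at h1
  exact zero_ne_one h1

theorem triF_inv {E : Type*} [Field E] {σ : E →+* F} {G : SpecialLinearGroup (Fin 3) E} {g : V → V}
    (hg : ∀ v, θ (g v) = Mo.ad σ G (θ v)) (x y z : V) : triF θ (g x) (g y) (g z) = triF θ x y z := by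
  rw [triF_eq θ (X := Mo.adS σ G (rp θ x)) (Y := Mo.adS σ G (rp θ y)) (Z := Mo.adS σ G (rp θ z)), Mo.tri_ad, triF_apply]
  · rw [hg, ← mk_rp, Mo.ad_mk]
  · rw [hg, ← mk_rp, Mo.ad_mk]
  · rw [hg, ← mk_rp, Mo.ad_mk]

end tri

section P

variable {F : Type*} [Field F] [Finite F] {ι : Type} [Fintype ι] [DecidableEq ι] {P : Subgroup (GL ι F)}
  {E : Type*} [Field E] [Finite E] (p : ℕ) [hp : Fact p.Prime] [hFp : CharP F p] [hEp : CharP E p]
include hp hFp hEp

/-- **The invariant alternating trilinear form.** -/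
theorem psl3_tri (hC : Core P) (hsd : SD P) (Φ : Soc P ≃* ProjectiveSpecialLinearGroup (Fin 3) E)
    (hn : Fintype.card ι ≤ 11) : ∃ f : (ι → F) →ₗ[F] (ι → F) →ₗ[F] (ι → F) →ₗ[F] F, f ≠ 0 ∧ (∀ x y, f x x y = 0) ∧
      (∀ x y, f x y y = 0) ∧ ∀ g ∈ P, ∀ x y z, f ((g : Matrix ι ι F) *ᵥ x) ((g : Matrix ι ι F) *ᵥ y)
        ((g : Matrix ι ι F) *ᵥ z) = f x y z := by
  obtain ⟨σ, φ, θ, hσ, hφ, hθ⟩ := psl3_model p hC hsd Φ hn
  refine ⟨triF θ, triF_ne θ, triF_self θ, triF_self' θ, fun g hg x y z => ?_⟩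
  rw [← hφ] at hg
  obtain ⟨G, rfl⟩ := hg
  exact triF_inv θ (G := G) (g := fun v => (φ G : Matrix ι ι F) *ᵥ v) (hθ G) x y z

end P

end Cfsg.Agent.H911.Ad
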