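import Cfsg.Agent.H911.AdForm

/-!
# The alternating square of `SL(4, E)` (helper911)

`A k` = the alternating matrices, the group `SL(4, E)` acts by `X ↦ g X gᵀ` through `σ : E → k`.
-/

set_option autoImplicit false
set_option linter.unusedSectionVars false
set_option linter.unusedVariables false

namespace Cfsg.Agent.H911.Ad.Al

open Matrix CoxeterSystem Cfsg.Agent.ChevalleyStructure.CoxeterGeom Cfsg.Agent.Tits.Roots Cfsg.Agent.Tits.Core
  Cfsg.Agent.Tits.Exchange Cfsg.Agent.Nodes.Reps Cfsg.Agent.Nodes.BNOf Cfsg.Agent.Nodes.StabComb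
  Cfsg.Agent.Nodes.Bruhat Cfsg.Agent.Nodes.OppDec Cfsg.Agent.Nodes.LeviDec Cfsg.Agent.KFacts.RgdOpp
  Cfsg.Agent.Omega.CR Cfsg.Agent.Omega.FOne.Lift.Sd Cfsg.Agent.Nodes.RootsA Cfsg.Agent.H911 Cfsg.Agent.H905.Md
  Cfsg.Agent.KFacts.MulOdd.TypeA
open Cfsg.Agent.LieRecognition.BNCox (cA cA_apply)
open Cfsg.Agent.Nodes.RGDTypeA (Mono mem_T tv_val XX tv_mem_XX nn mono_ns X_sr X_neg_sr nsys rgd)
open Cfsg.Agent.TitsThree.KSideA (tv tv_of_ne tv_add tv_zero tv_neg)

/-- the alternating matrices -/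
def A (k : Type*) [Field k] : Submodule k (Matrix (Fin 4) (Fin 4) k) where
  carrier := {X | Xᵀ = -X ∧ ∀ i, X i i = 0}
  zero_mem' := ⟨by rw [Matrix.transpose_zero, neg_zero], fun _ => rfl⟩
  add_mem' := by
    rintro X Y ⟨h1, h2⟩ ⟨h3, h4⟩
    refine ⟨?_, fun i => ?_⟩
    · rw [Matrix.transpose_add, h1, h3, neg_add]
    · rw [Matrix.add_apply, h2, h4, add_zero]
  smul_mem' := by
    rintro a X ⟨h1, h2⟩
    refine ⟨?_, fun i => ?_⟩
    · rw [Matrix.transpose_smul, h1, smul_neg]
    · rw [Matrix.smul_apply, h2, smul_zero]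

variable {k : Type*} [Field k] {E : Type*} [Field E]

theorem mem_A {X : Matrix (Fin 4) (Fin 4) k} : X ∈ A k ↔ Xᵀ = -X ∧ ∀ i, X i i = 0 := Iff.rfl

theorem A_symm (X : A k) (i j : Fin 4) : X.1 j i = -X.1 i j := by
  have h1 := congrFun (congrFun X.2.1 i) j
  rw [Matrix.transpose_apply, Matrix.neg_apply] at h1
  exact h1

theorem A_ext {X Y : A k} (h01 : X.1 0 1 = Y.1 0 1) (h02 : X.1 0 2 = Y.1 0 2) (h03 : X.1 0 3 = Y.1 0 3)
    (h12 : X.1 1 2 = Y.1 1 2) (h13 : X.1 1 3 = Y.1 1 3) (h23 : X.1 2 3 = Y.1 2 3) : X = Y := by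
  apply Subtype.ext
  ext i j
  fin_cases i <;> fin_cases j
  · exact (X.2.2 0).trans (Y.2.2 0).symm
  · exact h01
  · exact h02
  · exact h03
  · exact (A_symm X 0 1).trans ((congrArg Neg.neg h01).trans (A_symm Y 0 1).symm)
  · exact (X.2.2 1).trans (Y.2.2 1).symm
  · exact h12
  · exact h13
  · exact (A_symm X 0 2).trans ((congrArg Neg.neg h02).trans (A_symm Y 0 2).symm)
  · exact (A_symm X 1 2).trans ((congrArg Neg.neg h12).trans (A_symm Y 1 2).symm)
  · exact (X.2.2 2).trans (Y.2.2 2).symm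
  · exact h23
  · exact (A_symm X 0 3).trans ((congrArg Neg.neg h03).trans (A_symm Y 0 3).symm)
  · exact (A_symm X 1 3).trans ((congrArg Neg.neg h13).trans (A_symm Y 1 3).symm)
  · exact (A_symm X 2 3).trans ((congrArg Neg.neg h23).trans (A_symm Y 2 3).symm)
  · exact (X.2.2 3).trans (Y.2.2 3).symm

variable (σ : E →+* k)

/-- the matrix of `g` over `k` -/
def mp (g : SpecialLinearGroup (Fin 4) E) : Matrix (Fin 4) (Fin 4) k := g.1.map σ

theorem mp_one : mp σ 1 = 1 := Matrix.map_one σ (map_zero σ) (map_one σ)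

theorem mp_mul (g g' : SpecialLinearGroup (Fin 4) E) : mp σ (g * g') = mp σ g * mp σ g' := by
  unfold mp
  rw [show (g * g').1 = g.1 * g'.1 from rfl, Matrix.map_mul]

theorem conj_mem {X : Matrix (Fin 4) (Fin 4) k} (hX : X ∈ A k) (G : Matrix (Fin 4) (Fin 4) k) : G * X * Gᵀ ∈ A k := by
  obtain ⟨h1, h2⟩ := hX
  constructor
  · rw [Matrix.transpose_mul, Matrix.transpose_mul, Matrix.transpose_transpose, h1]
    simp only [Matrix.neg_mul, Matrix.mul_neg, Matrix.mul_assoc]
  · intro i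
    have hs : ∀ a b, X b a = -X a b := fun a b => by
      have h3 := congrFun (congrFun h1 a) b
      rwa [Matrix.transpose_apply, Matrix.neg_apply] at h3
    simp only [Matrix.mul_apply, Fin.sum_univ_four, Matrix.transpose_apply]
    rw [h2 0, h2 1, h2 2, h2 3, hs 0 1, hs 0 2, hs 0 3, hs 1 2, hs 1 3, hs 2 3]
    ring

/-- the representation -/
def al : SpecialLinearGroup (Fin 4) E →* Module.End k (A k) where
  toFun g :=
    { toFun := fun X => ⟨mp σ g * X.1 * (mp σ g)ᵀ, conj_mem X.2 _⟩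
      map_add' := fun X Y => by
        apply Subtype.ext
        change mp σ g * (X.1 + Y.1) * (mp σ g)ᵀ = mp σ g * X.1 * (mp σ g)ᵀ + mp σ g * Y.1 * (mp σ g)ᵀ
        rw [Matrix.mul_add, Matrix.add_mul]
      map_smul' := fun a X => by
        apply Subtype.ext
        change mp σ g * (a • X.1) * (mp σ g)ᵀ = a • (mp σ g * X.1 * (mp σ g)ᵀ)
        rw [Matrix.mul_smul, Matrix.smul_mul] }
  map_one' := by
    refine LinearMap.ext fun X => Subtype.ext ?_
    change mp σ 1 * X.1 * (mp σ 1)ᵀ = X.1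
    rw [mp_one, Matrix.transpose_one, Matrix.one_mul, Matrix.mul_one]
  map_mul' g g' := by
    refine LinearMap.ext fun X => Subtype.ext ?_
    change mp σ (g * g') * X.1 * (mp σ (g * g'))ᵀ = mp σ g * (mp σ g' * X.1 * (mp σ g')ᵀ) * (mp σ g)ᵀ
    rw [mp_mul, Matrix.transpose_mul]
    simp only [Matrix.mul_assoc]

theorem al_val (g : SpecialLinearGroup (Fin 4) E) (X : A k) : (al σ g X).1 = mp σ g * X.1 * (mp σ g)ᵀ := rfl

theorem mp_tv {i j : Fin 4} (hij : i ≠ j) (t : E) : mp σ (tv i j t) = 1 + Matrix.single i j (σ t) := by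
  unfold mp
  rw [tv_val hij]
  ext a b
  simp only [Matrix.map_apply, Matrix.add_apply, Matrix.one_apply, Matrix.single_apply, map_add]
  split_ifs <;> simp

theorem al_tv {i j : Fin 4} (hij : i ≠ j) (t : E) (X : A k) : (al σ (tv i j t) X).1 =
    X.1 + Matrix.single i j (σ t) * X.1 + X.1 * Matrix.single j i (σ t) +
      Matrix.single i j (σ t) * X.1 * Matrix.single j i (σ t) := by
  rw [al_val, mp_tv σ hij, Matrix.transpose_add, Matrix.transpose_one, Matrix.transpose_single]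
  noncomm_ring

/-- the vector `e_i ∧ e_j` -/
def w (k : Type*) [Field k] {i j : Fin 4} (hij : i ≠ j) : A k := ⟨Matrix.single i j 1 - Matrix.single j i 1, by
  constructor
  · rw [Matrix.transpose_sub, Matrix.transpose_single, Matrix.transpose_single, neg_sub]
  · intro a
    rw [Matrix.sub_apply, Matrix.single_apply_of_ne, Matrix.single_apply_of_ne, sub_zero]
    · rintro ⟨rfl, h⟩; exact hij h
    · rintro ⟨rfl, h⟩; exact hij h.symm⟩

theorem w_symm {i j : Fin 4} (hij : i ≠ j) : w k hij.symm = -w k hij := by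
  apply Subtype.ext
  change Matrix.single j i 1 - Matrix.single i j 1 = -(Matrix.single i j 1 - Matrix.single j i (1 : k))
  rw [neg_sub]

theorem al_w {i j b : Fin 4} (hij : i ≠ j) (hbi : b ≠ i) (hbj : b ≠ j) :
    al σ (tv b i 1) (w k hij) = w k hij + w k hbj := by
  apply Subtype.ext
  rw [al_tv σ hbi, map_one]
  change (Matrix.single i j 1 - Matrix.single j i 1) + Matrix.single b i 1 * (Matrix.single i j 1 - Matrix.single j i 1) +
    (Matrix.single i j 1 - Matrix.single j i 1) * Matrix.single i b 1 +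
    Matrix.single b i 1 * (Matrix.single i j 1 - Matrix.single j i 1) * Matrix.single i b 1 =
      (Matrix.single i j 1 - Matrix.single j i 1) + (Matrix.single b j 1 - Matrix.single j b (1 : k))
  rw [Matrix.mul_sub, Matrix.sub_mul, Matrix.sub_mul, Matrix.single_mul_single_same,
    Matrix.single_mul_single_of_ne _ _ _ _ hij, Matrix.single_mul_single_of_ne _ _ _ _ hij.symm,
    Matrix.single_mul_single_same, Matrix.single_mul_single_of_ne _ _ _ _ hij.symm, mul_one, Matrix.zero_mul]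
  abel

theorem w_ne {i j : Fin 4} (hij : i ≠ j) : w k hij ≠ 0 := by
  intro h0
  have h1 : (w k hij).1 i j = 0 := by rw [h0]; rfl
  change Matrix.single i j 1 i j - Matrix.single j i (1 : k) i j = 0 at h1
  rw [Matrix.single_apply_same, Matrix.single_apply_of_ne, sub_zero] at h1
  · exact one_ne_zero h1
  · rintro ⟨h, -⟩; exact hij h.symm

theorem gen_top {L : Submodule k (A k)} (hL : ∀ g, ∀ v ∈ L, al σ g v ∈ L)
    (h : w k (show (0 : Fin 4) ≠ 1 by decide) ∈ L) : L = ⊤ := by
  have step : ∀ {i j b : Fin 4} (hij : i ≠ j) (hbi : b ≠ i) (hbj : b ≠ j), w k hij ∈ L → w k hbj ∈ L := by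
    intro i j b hij hbi hbj h1
    have h2 := hL (tv b i 1) _ h1
    rw [al_w σ hij hbi hbj] at h2
    have h3 := L.sub_mem h2 h1
    rwa [add_sub_cancel_left] at h3
  have sym : ∀ {i j : Fin 4} (hij : i ≠ j), w k hij ∈ L → w k hij.symm ∈ L := by
    intro i j hij h1
    rw [w_symm hij]
    exact L.neg_mem h1
  have h10 := sym _ h
  have h20 := step (b := 2) _ (by decide) (by decide) h10
  have h30 := step (b := 3) _ (by decide) (by decide) h10
  have h21 := step (b := 2) _ (by decide) (by decide) h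
  have h31 := step (b := 3) _ (by decide) (by decide) h
  have h02 := sym _ h20
  have h03 := sym _ h30
  have h12 := sym _ h21
  have h13 := sym _ h31
  have h23 := step (b := 2) _ (by decide) (by decide) h03
  rw [eq_top_iff]
  rintro X -
  have e1 : X = X.1 0 1 • w k (show (0 : Fin 4) ≠ 1 by decide) + X.1 0 2 • w k (show (0 : Fin 4) ≠ 2 by decide) +
      X.1 0 3 • w k (show (0 : Fin 4) ≠ 3 by decide) + X.1 1 2 • w k (show (1 : Fin 4) ≠ 2 by decide) +
      X.1 1 3 • w k (show (1 : Fin 4) ≠ 3 by decide) + X.1 2 3 • w k (show (2 : Fin 4) ≠ 3 by decide) := by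
    refine A_ext ?_ ?_ ?_ ?_ ?_ ?_ <;>
    · simp [w]
  rw [e1]
  exact L.add_mem (L.add_mem (L.add_mem (L.add_mem (L.add_mem (L.smul_mem _ h) (L.smul_mem _ h02)) (L.smul_mem _ h03))
    (L.smul_mem _ h12)) (L.smul_mem _ h13)) (L.smul_mem _ h23)

/-- the fixed vectors of the unitriangular group -/
theorem fix_eq {X : A k} (h1 : al σ (tv 0 1 1) X = X) (h2 : al σ (tv 1 2 1) X = X) (h3 : al σ (tv 2 3 1) X = X) :
    X = X.1 0 1 • w k (show (0 : Fin 4) ≠ 1 by decide) := by
  have key : ∀ {i j : Fin 4} (hij : i ≠ j), al σ (tv i j 1) X = X → ∀ b, b ≠ i → X.1 j b = 0 := by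
    intro i j hij h b hb
    have h4 := congrArg Subtype.val h
    rw [al_tv σ hij, map_one] at h4
    have h5 := congrFun (congrFun h4 i) b
    rw [Matrix.add_apply, Matrix.add_apply, Matrix.add_apply, Matrix.mul_single_apply_of_ne _ _ _ _ _ hb,
      Matrix.mul_single_apply_of_ne _ _ _ _ _ hb, add_zero, add_zero, Matrix.single_mul_apply_same, one_mul] at h5
    exact left_eq_add.1 h5.symm
  have a := key (by decide) h1
  have b := key (by decide) h2
  have c := key (by decide) h3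
  refine A_ext ?_ ?_ ?_ ?_ ?_ ?_
  · simp [w]
  · rw [← neg_eq_iff_eq_neg.2 (A_symm X 0 2), b 0 (by decide)]; simp [w]
  · rw [← neg_eq_iff_eq_neg.2 (A_symm X 0 3), c 0 (by decide)]; simp [w]
  · rw [a 2 (by decide)]; simp [w]
  · rw [a 3 (by decide)]; simp [w]
  · rw [b 3 (by decide)]; simp [w]

end Cfsg.Agent.H911.Ad.Al
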