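import Cfsg.Agent.H911.AdA

/-!
# Absolutely irreducible linear groups covered by groups with a root group datum, over the field itself (helper911)

`φ : Y → GL(ι, F)` with image `P`, `P` absolutely irreducible: over `F` the space `V^U` is a line on which `T` acts by
a character `χ : Y → F`; a self-dual `P` has an invariant bilinear form.
-/

set_option autoImplicit false
set_option linter.unusedSectionVars false
set_option linter.unusedVariables false

namespace Cfsg.Agent.H911.Ad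

open CoxeterSystem Cfsg.Agent.ChevalleyStructure.CoxeterGeom Cfsg.Agent.Tits.Roots Cfsg.Agent.Tits.Core
  Cfsg.Agent.Tits.Exchange Cfsg.Agent.Nodes.Reps Cfsg.Agent.Nodes.BNOf Cfsg.Agent.Nodes.StabComb
  Cfsg.Agent.Nodes.Bruhat Cfsg.Agent.Nodes.OppDec Cfsg.Agent.Nodes.LeviDec Cfsg.Agent.KFacts.RgdOpp
  Cfsg.Agent.Omega.CR Cfsg.Agent.Omega.FOne.Lift.Sd Cfsg.Agent.H911 Cfsg.Agent.H905.Md
open Cfsg Cfsg.Geo Cfsg.Agent.H915.LD
open scoped MatrixGroups Matrix

section rep

variable {G F : Type*} {ι : Type} [Group G] [Fintype ι] [DecidableEq ι] [Field F]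

/-- the matrix representation over `F` -/
def mrep (φ : G →* GL ι F) : G →* Matrix ι ι F := (Units.coeHom (Matrix ι ι F)).comp φ

theorem mrep_apply (φ : G →* GL ι F) (g : G) (v : ι → F) :
    lin (mrep φ) g v = (φ g : Matrix ι ι F) *ᵥ v := lin_apply _ _ _

theorem mrep_irr {P : Subgroup (GL ι F)} {φ : G →* GL ι F} (hφ : φ.range = P)
    (hP : ActsAbsolutelyIrreducibly (matrixSet P)) {H : Subgroup G} (hH : H = ⊤)
    (L : Submodule F (ι → F)) (hL : Ivt (lin (mrep φ)) H L) : L = ⊥ ∨ L = ⊤ := by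
  refine hP.1 L ?_
  rintro s ⟨g, hg, rfl⟩
  rw [SetLike.mem_coe, ← hφ] at hg
  obtain ⟨y, rfl⟩ := hg
  rintro _ ⟨v, hv, rfl⟩
  exact hL y (by rw [hH]; trivial) v hv

theorem ac_map (φ : G →* GL ι F) (g : G) (v : ι → F) :
    lin (acRep φ) g (fun i => algebraMap F (AlgebraicClosure F) (v i)) =
      fun i => algebraMap F (AlgebraicClosure F) (lin (mrep φ) g v i) := by
  rw [lin_apply, acRep_apply, mrep_apply]
  funext i
  exact (RingHom.map_mulVec (algebraMap F (AlgebraicClosure F)) (φ g : Matrix ι ι F) v i).symm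

/-- the invariant form of a self-dual group -/
theorem exists_B [Nonempty ι] {P : Subgroup (GL ι F)} {φ : G →* GL ι F} (hφ : φ.range = P)
    (hP : ActsAbsolutelyIrreducibly (matrixSet P)) (hsd : SD P) :
    ∃ B : (ι → F) →ₗ[F] (ι → F) →ₗ[F] F, (∀ g x y, B (lin (mrep φ) g x) (lin (mrep φ) g y) = B x y) ∧
      ∀ x, (∀ y, B x y = 0) → x = 0 := by
  obtain ⟨f, hf, hn, hfix, -⟩ := H906.exists_bilinear_of_trace hP hsd
  refine ⟨LinearMap.mk₂ F f hf.add_left hf.smul_left hf.add_right hf.smul_right, ?_, ?_⟩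
  · intro g x y
    rw [LinearMap.mk₂_apply, LinearMap.mk₂_apply, mrep_apply, mrep_apply]
    exact hfix _ ⟨φ g, by rw [← hφ]; exact ⟨g, rfl⟩, rfl⟩ x y
  · intro x hx
    by_contra hx0
    obtain ⟨y, hy⟩ := (hn x hx0).2
    exact hy (hx y)

end rep

variable {I W Y : Type*} [Fintype I] [DecidableEq I] [Group W] [Group Y] {M : CoxeterMatrix I}
  {cs : CoxeterSystem M W} {A : I → I → ℤ} {h : IsCartan M A} {p : ℕ} {T : Subgroup Y} {n : I → Y}
  {X : (I → ℤ) → Subgroup Y} {F : Type*} [Field F] {ι : Type} [Fintype ι] [DecidableEq ι]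
  {P : Subgroup (GL ι F)}

/-- **The character over `F`.** -/
theorem exists_chiF (R : RGD cs h p T n X) [Finite Y] [Finite W] [Fact p.Prime] [CharP F p] [Nonempty ι]
    (hG : GG cs h T X = ⊤) (hT : ∀ s ∈ T, ∀ t ∈ T, s * t = t * s) {φ : Y →* GL ι F} (hφ : φ.range = P)
    (hP : ActsAbsolutelyIrreducibly (matrixSet P)) :
    ∃ c ∈ D cs h X (lin (mrep φ)), c ≠ 0 ∧ ∃ χ : Y → F, ∀ t ∈ T, lin (mrep φ) t c = χ t • c := by
  have hchar : CharP (AlgebraicClosure F) p := charP_of_injective_algebraMap (algebraMap F _).injective p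
  have hirrF := mrep_irr hφ hP hG
  have hirrK := ac_irr R hG hT hφ hP
  obtain ⟨c, hc, hc0⟩ := (Submodule.ne_bot_iff _).1 (simp_fx R (lin (mrep φ)) hirrF).ne
  refine ⟨c, hc, hc0, ?_⟩
  obtain ⟨i0, hi0⟩ : ∃ i, c i ≠ 0 := by
    by_contra hcon
    push Not at hcon
    exact hc0 (funext hcon)
  set ĉ : ι → AlgebraicClosure F := fun i => algebraMap F (AlgebraicClosure F) (c i) with hĉ
  have hinj := (algebraMap F (AlgebraicClosure F)).injective
  have hĉD : ĉ ∈ D cs h X (lin (acRep φ)) := by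
    intro u hu
    rw [hĉ, ac_map, hc u hu]
  have hĉ0 : ĉ ≠ 0 := by
    intro h0
    have h1 : algebraMap F (AlgebraicClosure F) (c i0) = 0 := congrFun h0 i0
    exact hi0 (hinj (h1.trans (map_zero _).symm))
  have h1 := finrank_D R hirrK hT
  refine ⟨fun t => lin (mrep φ) t c i0 * (c i0)⁻¹, fun t ht => ?_⟩
  have h2 : lin (acRep φ) t ĉ ∈ D cs h X (lin (acRep φ)) := D_ivt R hirrK t ht ĉ hĉD
  obtain ⟨a, ha⟩ := (finrank_eq_one_iff_of_nonzero' (⟨ĉ, hĉD⟩ : D cs h X (lin (acRep φ)))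
    (fun h0 => hĉ0 (congrArg Subtype.val h0))).1 h1 ⟨_, h2⟩
  have h3 : a • ĉ = lin (acRep φ) t ĉ := congrArg Subtype.val ha
  rw [hĉ, ac_map] at h3
  have h4 : a * algebraMap F (AlgebraicClosure F) (c i0) = algebraMap F (AlgebraicClosure F) (lin (mrep φ) t c i0) :=
    congrFun h3 i0
  funext i
  apply hinj
  have h5 : a * algebraMap F (AlgebraicClosure F) (c i) = algebraMap F (AlgebraicClosure F) (lin (mrep φ) t c i) :=
    congrFun h3 i
  have h6 : algebraMap F (AlgebraicClosure F) (c i0) ≠ 0 := fun h0 => hi0 (hinj (h0.trans (map_zero _).symm))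
  rw [← h5, Pi.smul_apply, smul_eq_mul, map_mul, map_mul, map_inv₀, ← h4, mul_assoc a, mul_inv_cancel₀ h6, mul_one]

end Cfsg.Agent.H911.Ad
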