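import Cfsg.Agent.H911.AdSigma
import Cfsg.Agent.H905.MdI
import Cfsg.Agent.H915.LD

/-!
# Simple modules in the defining characteristic: the vector `c` and the functional `φ` (helper911)

`R : RGD cs h p T n X`, `ρ` simple over any field of characteristic `p`, `c ∈ V^U`, `t c = χ(t) c` for `t ∈ T`.

* `exists_phi` : a `U⁻`-fixed functional `φ` with `φ c = 1`; `phi_n` : `φ (n_i c) = 0` for `i ∉ J`;
* `x_n` : `x n_i = y t b`; `phi_x_n` : `φ (x n_i c) = χ t`;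
* **`iso_of_chi_J`** : simple modules with the same `χ` and the same `J` are isomorphic;
* `form_c`, **`chi_symm`**, **`Jx_symm`** : an invariant form;
* `Xneg_c`, `Xpos_n` : the two-dimensional edges.
-/

set_option autoImplicit false
set_option linter.unusedSectionVars false
set_option linter.unusedVariables false

namespace Cfsg.Agent.H911.Ad

open CoxeterSystem Cfsg.Agent.ChevalleyStructure.CoxeterGeom Cfsg.Agent.Tits.Roots Cfsg.Agent.Tits.Core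
  Cfsg.Agent.Tits.Exchange Cfsg.Agent.Nodes.Reps Cfsg.Agent.Nodes.BNOf Cfsg.Agent.Nodes.StabComb
  Cfsg.Agent.Nodes.Bruhat Cfsg.Agent.Nodes.OppDec Cfsg.Agent.Nodes.LeviDec Cfsg.Agent.KFacts.RgdOpp
  Cfsg.Agent.Omega.CR Cfsg.Agent.Omega.FOne.Lift.Sd Cfsg.Agent.H911 Cfsg.Agent.H905.Md

variable {I W Y : Type*} [Fintype I] [DecidableEq I] [Group W] [Group Y] {M : CoxeterMatrix I}
  {cs : CoxeterSystem M W} {A : I → I → ℤ} {h : IsCartan M A} {p : ℕ} {T : Subgroup Y} {n : I → Y}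
  {X : (I → ℤ) → Subgroup Y}

/-- the two Bruhat cells of rank one -/
theorem x_n (R : RGD cs h p T n X) {i : I} {x : Y} (hx : x ∈ X (sr i)) (hx1 : x ≠ 1) :
    ∃ y ∈ X (-sr i), ∃ t ∈ T, ∃ b ∈ X (sr i), x * n i = y * t * b := by
  have hy' : (n i)⁻¹ * x * n i ∈ X (-sr i) := by
    have := R.conj_mem' (rp_simple cs R.nsys i) (isRoot_sr cs h i) hx
    rwa [inv_simple, rep_simple_sr] at this
  have hy1 : (n i)⁻¹ * x * n i ≠ 1 := by
    intro h0
    apply hx1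
    have e : x = n i * ((n i)⁻¹ * x * n i) * (n i)⁻¹ := by group
    rw [e, h0]; group
  obtain ⟨a, ha, t, ht, b, hb, e⟩ := R.rk1 i _ hy' hy1
  refine ⟨n i * a * (n i)⁻¹, ?_, n i * t * (n i)⁻¹ * (n i * n i), ?_, b, hb, ?_⟩
  · have := R.conj_mem' (rp_simple cs R.nsys i).inv (isRoot_sr cs h i) ha
    rwa [inv_inv, inv_inv, rep_simple_sr] at this
  · refine mul_mem ?_ (R.sq_mem_T i)
    exact (Subgroup.mem_normalizer_iff.1 (R.nsys.norm i) t).1 ht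
  · have e2 : x * n i = n i * ((n i)⁻¹ * x * n i) := by group
    rw [e2, e]
    group

section general

variable {k V : Type*} [Field k] [AddCommGroup V] [Module k V]
  (R : RGD cs h p T n X) [Finite Y] [Finite W] [Fact p.Prime] [CharP k p] [FiniteDimensional k V] [Nontrivial V]
  {ρ : Y →* Module.End k V}
  (hirr : ∀ L : Submodule k V, Ivt ρ (GG cs h T X) L → L = ⊥ ∨ L = ⊤)
  {c : V} (hc : c ∈ D cs h X ρ) (hc0 : c ≠ 0) {χ : Y → k} (hχ : ∀ t ∈ T, ρ t c = χ t • c)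

include R hirr hc hc0 hχ in
theorem D_eq : D cs h X ρ = Submodule.span k {c} := fx_eq_span R ρ hirr hc hc0 hχ

include R hirr hc hc0 in
theorem exists_phi : ∃ φ ∈ fx (dualRep ρ) (UN cs h X), φ c = 1 := by
  obtain ⟨φ, hφ, h1⟩ := exists_pair_D R hirr hc hc0
  refine ⟨(φ c)⁻¹ • φ, Submodule.smul_mem _ _ hφ, ?_⟩
  rw [LinearMap.smul_apply, smul_eq_mul, inv_mul_cancel₀ h1]

include R hirr hc in
theorem phi_n {φ : Module.Dual k V} (hφ : φ ∈ fx (dualRep ρ) (UN cs h X)) {i : I} (hi : i ∉ Jx cs h X ρ) :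
    φ (ρ (n i) c) = 0 := by
  by_contra hne
  exact hi (simple_mem_WJ h (mem_WJ_of_pair R hirr hφ (rp_simple cs R.nsys i) hc hne))

include R hirr hc in
theorem phi_n_inv {φ : Module.Dual k V} (hφ : φ ∈ fx (dualRep ρ) (UN cs h X)) {i : I} (hi : i ∉ Jx cs h X ρ) :
    φ (ρ (n i)⁻¹ c) = 0 := by
  by_contra hne
  have h1 := (rp_simple cs R.nsys i).inv
  rw [inv_simple] at h1
  exact hi (simple_mem_WJ h (mem_WJ_of_pair R hirr hφ h1 hc hne))

include R hc hχ in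
theorem phi_x_n {φ : Module.Dual k V} (hφ : φ ∈ fx (dualRep ρ) (UN cs h X)) (h1 : φ c = 1) {i : I} {x y t b : Y}
    (hy : y ∈ X (-sr i)) (ht : t ∈ T) (hb : b ∈ X (sr i)) (e : x * n i = y * t * b) :
    φ (ρ x (ρ (n i) c)) = χ t := by
  rw [← rho_mul, e, rho_mul, rho_mul, X_fix R ρ hc i hb,
    (mem_fx_dual ρ).1 hφ y (X_le_UN (isRoot_sr cs h i).neg (neg_nonpos.2 (sr_nonneg i)) hy), hχ t ht, map_smul, h1,
    smul_eq_mul, mul_one]

include R hirr hc hc0 hχ in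
/-- the value of `T_i` on `c` -/
theorem Ti_c {φ : Module.Dual k V} (hφ : φ ∈ fx (dualRep ρ) (UN cs h X)) (h1 : φ c = 1) (i : I) :
    Ti n X ρ i c = φ (Ti n X ρ i c) • c := by
  have h2 : Ti n X ρ i c ∈ Submodule.span k {c} := by
    rw [← D_eq R hirr hc hc0 hχ]
    exact Ti_fix R ρ hc i
  obtain ⟨a, ha⟩ := Submodule.mem_span_singleton.1 h2
  rw [← ha, map_smul, h1, smul_eq_mul, mul_one]

include R hirr hc hc0 hχ in
theorem Zi_iff {φ : Module.Dual k V} (hφ : φ ∈ fx (dualRep ρ) (UN cs h X)) (h1 : φ c = 1) (i : I) :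
    Zi cs h n X ρ i ↔ φ (Ti n X ρ i c) = 0 := by
  constructor
  · intro h0
    rw [h0 c hc, map_zero]
  · intro h0 v hv
    have h2 : v ∈ D cs h X ρ := hv
    rw [D_eq R hirr hc hc0 hχ] at h2
    obtain ⟨a, rfl⟩ := Submodule.mem_span_singleton.1 h2
    rw [map_smul, Ti_c R hirr hc hc0 hχ hφ h1 i, h0, zero_smul, smul_zero]

include R hirr in
theorem Zi_of_mem {i : I} (hi : i ∈ Jx cs h X ρ) : Zi cs h n X ρ i := by
  classical
  let _ := Fintype.ofFinite (X (sr i))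
  intro v hv
  have hX : ∀ x : X (sr i), ρ (x : Y) (ρ (n i) v) = ρ (n i) v := fun x =>
    X_fix R ρ (n_D R hirr hi hv) i x.2
  have hcard : ((Fintype.card (X (sr i)) : ℕ) : k) = 0 := by
    have h2 : p ∣ Fintype.card (X (sr i)) := by
      rw [← Nat.card_eq_fintype_card]
      have h3 := X_ne_bot R (isRoot_sr cs h i)
      obtain ⟨m, hm⟩ := IsPGroup.iff_card.1 (R.pgrp i)
      rw [hm]
      rcases Nat.eq_zero_or_pos m with h4 | h4
      · rw [h4, pow_zero] at hm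
        exact (h3 (Subgroup.card_eq_one.1 hm)).elim
      · exact dvd_pow_self p h4.ne'
    exact (CharP.cast_eq_zero_iff k p _).2 h2
  rw [Ti_apply, sg_def, Finset.sum_congr rfl fun x _ => hX x, Finset.sum_const, Finset.card_univ,
    ← Nat.cast_smul_eq_nsmul k, hcard, zero_smul]

end general

/-- **Simple modules with the same `χ` and the same `J` are isomorphic.** -/
theorem iso_of_chi_J {k V₁ V₂ : Type*} [Field k] [AddCommGroup V₁] [Module k V₁] [AddCommGroup V₂] [Module k V₂]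
    (R : RGD cs h p T n X) [Finite Y] [Finite W] [Fact p.Prime] [CharP k p]
    [FiniteDimensional k V₁] [FiniteDimensional k V₂] [Nontrivial V₁] [Nontrivial V₂]
    (ρ₁ : Y →* Module.End k V₁) (ρ₂ : Y →* Module.End k V₂)
    (hirr₁ : ∀ L : Submodule k V₁, Ivt ρ₁ (GG cs h T X) L → L = ⊥ ∨ L = ⊤)
    (hirr₂ : ∀ L : Submodule k V₂, Ivt ρ₂ (GG cs h T X) L → L = ⊥ ∨ L = ⊤)
    {c₁ : V₁} {c₂ : V₂} (hc₁ : c₁ ∈ D cs h X ρ₁) (h₁0 : c₁ ≠ 0)
    (hc₂ : c₂ ∈ D cs h X ρ₂) (h₂0 : c₂ ≠ 0) {χ : Y → k}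
    (hχ₁ : ∀ t ∈ T, ρ₁ t c₁ = χ t • c₁) (hχ₂ : ∀ t ∈ T, ρ₂ t c₂ = χ t • c₂)
    (hJ : ∀ i, i ∈ Jx cs h X ρ₁ ↔ i ∈ Jx cs h X ρ₂) :
    ∃ θ : V₁ ≃ₗ[k] V₂, ∀ g ∈ GG cs h T X, ∀ v, θ (ρ₁ g v) = ρ₂ g (θ v) := by
  refine iso_of_char R ρ₁ ρ₂ hirr₁ hirr₂ hc₁ h₁0 hc₂ h₂0 hχ₁ hχ₂ fun i => ?_
  by_cases hi : i ∈ Jx cs h X ρ₁
  · exact ⟨fun _ => Zi_of_mem R hirr₂ ((hJ i).1 hi), fun _ => Zi_of_mem R hirr₁ hi⟩
  · have hi2 : i ∉ Jx cs h X ρ₂ := fun h2 => hi ((hJ i).2 h2)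
    obtain ⟨φ₁, hφ₁, e₁⟩ := exists_phi R hirr₁ hc₁ h₁0
    obtain ⟨φ₂, hφ₂, e₂⟩ := exists_phi R hirr₂ hc₂ h₂0
    rw [Zi_iff R hirr₁ hc₁ h₁0 hχ₁ hφ₁ e₁ i, Zi_iff R hirr₂ hc₂ h₂0 hχ₂ hφ₂ e₂ i]
    have key : φ₁ (Ti n X ρ₁ i c₁) = φ₂ (Ti n X ρ₂ i c₂) := by
      classical
      let _ := Fintype.ofFinite (X (sr i))
      rw [Ti_apply, Ti_apply, sg_def, sg_def, map_sum, map_sum]
      refine Finset.sum_congr rfl fun x _ => ?_
      by_cases hx1 : (x : Y) = 1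
      · rw [hx1, map_one, map_one]
        change φ₁ (ρ₁ (n i) c₁) = φ₂ (ρ₂ (n i) c₂)
        rw [phi_n R hirr₁ hc₁ hφ₁ hi, phi_n R hirr₂ hc₂ hφ₂ hi2]
      · obtain ⟨y, hy, t, ht, b, hb, e⟩ := x_n R x.2 hx1
        rw [phi_x_n R hc₁ hχ₁ hφ₁ e₁ hy ht hb e, phi_x_n R hc₂ hχ₂ hφ₂ e₂ hy ht hb e]
    rw [key]

/-! ### the edges -/

section edge

variable {k V : Type*} [Field k] [AddCommGroup V] [Module k V]
  (R : RGD cs h p T n X) [Finite Y] [Finite W] [Fact p.Prime] [CharP k p] [FiniteDimensional k V] [Nontrivial V]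
  {ρ : Y →* Module.End k V}
  (hirr : ∀ L : Submodule k V, Ivt ρ (GG cs h T X) L → L = ⊥ ∨ L = ⊤)
  {c : V} (hc : c ∈ D cs h X ρ) (hc0 : c ≠ 0) {χ : Y → k} (hχ : ∀ t ∈ T, ρ t c = χ t • c)

include R hirr in
theorem Le_of_mem {i : I} (hi : i ∈ Jx cs h X ρ) : Le cs h T X ρ {i} = D cs h X ρ := by
  apply le_antisymm
  · refine Sp_le le_rfl ?_
    refine Ivt.mono ?_ (LJ_D R hirr)
    have h1 : sr i ∈ RootsJ cs h (Jx cs h X ρ) := PosJ_subset _ (sr_mem_PosJ hi)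
    refine LJ_single_le le_sup_left (X_le_LJ h1) (X_le_LJ (RootsJ.neg h1))
  · exact D_le_Le R _

include R hirr in
theorem Xpos_phi {i : I} (hi : i ∈ Jx cs h X ρ) {φ : Module.Dual k V} (hφ : φ ∈ fx (dualRep ρ) (UN cs h X)) {x : Y}
    (hx : x ∈ X (sr i)) : dualRep ρ x φ = φ := by
  have h1 : Les cs h T X ρ {i} = fx (dualRep ρ) (UN cs h X) := by
    symm
    refine Submodule.eq_of_le_of_finrank_le (D_le_Les R _) ?_
    rw [finrank_Les R hirr, Le_of_mem R hirr hi]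
    refine finrank_le_of_pair fun v hv h0 => ?_
    by_contra hv0
    obtain ⟨ψ, hψ, hne⟩ := exists_pair_D R hirr hv hv0
    exact hne (h0 ψ hψ)
  have h2 : dualRep ρ x φ ∈ fx (dualRep ρ) (UN cs h X) := by
    rw [← h1]
    exact Ivt_Les R {i} x (X_le_LJ (sr_mem_Roots i) hx) φ (by rw [h1]; exact hφ)
  rw [← sub_eq_zero]
  refine eq_zero_of_fx R ρ hirr (Submodule.sub_mem _ h2 hφ) fun v hv => ?_
  rw [LinearMap.sub_apply, dualRep_apply, X_fix R ρ hv i (inv_mem hx), sub_self]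

include R hirr hc hc0 hχ in
theorem mem_edge {i : I} (hle : Le cs h T X ρ {i} ≤ D cs h X ρ ⊔ (D cs h X ρ).map (ρ (n i))) {v : V}
    (hv : v ∈ Le cs h T X ρ {i}) : ∃ a b : k, v = a • c + b • ρ (n i) c := by
  have h1 := hle hv
  rw [D_eq R hirr hc hc0 hχ, Submodule.map_span, Set.image_singleton, Submodule.mem_sup] at h1
  obtain ⟨y, hy, z, hz, e⟩ := h1
  obtain ⟨a, rfl⟩ := Submodule.mem_span_singleton.1 hy
  obtain ⟨b, rfl⟩ := Submodule.mem_span_singleton.1 hz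
  exact ⟨a, b, e.symm⟩

include R hirr hc hc0 hχ in
theorem Xneg_c {i : I} (hi : i ∉ Jx cs h X ρ)
    (hle : Le cs h T X ρ {i} ≤ D cs h X ρ ⊔ (D cs h X ρ).map (ρ (n i))) {x : Y}
    (hx : x ∈ X (-sr i)) : ∃ b : k, ρ x c = c + b • ρ (n i) c := by
  obtain ⟨φ, hφ, h1⟩ := exists_phi R hirr hc hc0
  obtain ⟨a, b, e⟩ := mem_edge R hirr hc hc0 hχ hle
    (Ivt_Le R {i} x (X_le_LJ (RootsJ.neg (sr_mem_Roots i)) hx) c (D_le_Le R _ hc))
  have h2 := congrArg φ e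
  rw [(mem_fx_dual ρ).1 hφ x (X_le_UN (isRoot_sr cs h i).neg (neg_nonpos.2 (sr_nonneg i)) hx), map_add, map_smul,
    map_smul, phi_n R hirr hc hφ hi, h1, smul_zero, add_zero, smul_eq_mul, mul_one] at h2
  refine ⟨b, ?_⟩
  rw [e, ← h2, one_smul]

include R hirr hc hc0 hχ in
theorem Xpos_n {i : I} (hi : i ∉ Jx cs h X ρ)
    (hle : Le cs h T X ρ {i} ≤ D cs h X ρ ⊔ (D cs h X ρ).map (ρ (n i))) {x : Y}
    (hx : x ∈ X (sr i)) : ∃ a : k, ρ x (ρ (n i) c) = ρ (n i) c + a • c := by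
  have hy : (n i)⁻¹ * x * n i ∈ X (-sr i) := by
    have := R.conj_mem' (rp_simple cs R.nsys i) (isRoot_sr cs h i) hx
    rwa [inv_simple, rep_simple_sr] at this
  obtain ⟨b, hb⟩ := Xneg_c R hirr hc hc0 hχ hi hle hy
  refine ⟨b * χ (n i * n i), ?_⟩
  have e : x * n i = n i * ((n i)⁻¹ * x * n i) := by group
  rw [← rho_mul, e, rho_mul, hb, map_add, map_smul, ← rho_mul, hχ _ (R.sq_mem_T i), smul_smul]

include R hirr in
theorem edge_of_Io {i : I} (hi : i ∉ Jx cs h X ρ) (h0 : Module.finrank k (Io cs h T X ρ i) = 0) :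
    Le cs h T X ρ {i} ≤ D cs h X ρ ⊔ (D cs h X ρ).map (ρ (n i)) := by
  refine edge_le R hirr hi ?_
  have := finrank_Io R hirr i
  omega

end edge

/-! ### an invariant form -/

section form

variable {k V : Type*} [Field k] [AddCommGroup V] [Module k V]
  (R : RGD cs h p T n X) [Finite Y] [Finite W] [Fact p.Prime] [CharP k p] [FiniteDimensional k V] [Nontrivial V]
  {ρ : Y →* Module.End k V}
  (hirr : ∀ L : Submodule k V, Ivt ρ (GG cs h T X) L → L = ⊥ ∨ L = ⊤)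
  {c : V} (hc : c ∈ D cs h X ρ) (hc0 : c ≠ 0) {χ : Y → k} (hχ : ∀ t ∈ T, ρ t c = χ t • c)
  {B : V →ₗ[k] V →ₗ[k] k} (hB : ∀ g x y, B (ρ g x) (ρ g y) = B x y) (hB0 : ∀ x, (∀ y, B x y = 0) → x = 0)
  {w0 : W} {m : Y} (hm : Rp cs R.nsys w0 m) {ν : I → I} (hw : ∀ i, rep cs h w0⁻¹ (sr i) = -sr (ν i))

theorem nonneg_of_nonpos {w : W} {ν : I → I} (hw : ∀ i, rep cs h w (sr i) = -sr (ν i)) {z : I → ℤ} (hz : z ≤ 0) :
    0 ≤ rep cs h w z := by
  have e : z = ∑ i, z i • sr i := by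
    funext j
    rw [Finset.sum_apply, Finset.sum_eq_single j]
    · rw [Pi.smul_apply, sr_self, smul_eq_mul, mul_one]
    · intro i _ hij
      rw [Pi.smul_apply, sr_ne hij.symm, smul_zero]
    · intro h0
      exact (h0 (Finset.mem_univ j)).elim
  intro j
  rw [e, map_sum, Finset.sum_apply]
  refine Finset.sum_nonneg fun i _ => ?_
  rw [map_smul, hw, Pi.smul_apply, Pi.neg_apply, smul_eq_mul]
  have h1 := hz i
  have h2 := (sr_nonneg (ν i) : (0 : I → ℤ) ≤ sr (ν i)) j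
  simp only [Pi.zero_apply] at h1 h2
  nlinarith

include R hm hw in
theorem conj_UN_mem {u : Y} (hu : u ∈ UN cs h X) : m⁻¹ * u * m ∈ RGD.Sup X (RGD.Pos cs h) :=
  conj_mem_Sup' R hm (S := Neg cs h) (fun _ hx => hx.1)
    (S' := RGD.Pos cs h) (fun x hx => ⟨hx.1.act _, nonneg_of_nonpos hw hx.2⟩) hu

include R hc hB hm hw in
theorem phiB_mem : B (ρ m c) ∈ fx (dualRep ρ) (UN cs h X) := by
  rw [mem_fx_dual]
  intro u hu v
  have h1 : ρ u (ρ m c) = ρ m c := by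
    have e : u * m = m * (m⁻¹ * u * m) := by group
    rw [← rho_mul, e, rho_mul, hc _ (conj_UN_mem R hm hw hu)]
  conv_lhs => rw [← h1]
  exact hB _ _ _

include R hirr hc hc0 hχ hB hB0 hm hw in
theorem form_c : B (ρ m c) c ≠ 0 := by
  intro h0
  have h1 : B (ρ m c) = 0 := by
    refine eq_zero_of_fx R ρ hirr (phiB_mem R hc hB hm hw) fun v hv => ?_
    have h2 : v ∈ D cs h X ρ := hv
    rw [D_eq R hirr hc hc0 hχ] at h2
    obtain ⟨a, rfl⟩ := Submodule.mem_span_singleton.1 h2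
    rw [map_smul, h0, smul_zero]
  have h2 : ρ m c = 0 := hB0 _ fun y => by rw [h1, LinearMap.zero_apply]
  apply hc0
  rw [← rho_inv_rho ρ m c, h2, map_zero]

include R hirr hc hc0 hχ hB hB0 hm hw in
/-- **self-dual modules: the character** -/
theorem chi_symm {t : Y} (ht : t ∈ T) : χ t * χ (m⁻¹ * t * m) = 1 := by
  have h1 := form_c R hirr hc hc0 hχ hB hB0 hm hw
  have ht' : m⁻¹ * t * m ∈ T := by
    have := (Subgroup.mem_normalizer_iff.1 (inv_mem hm.mem_normalizer) t).1 ht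
    rwa [inv_inv] at this
  have h2 := hB t (ρ m c) c
  have e : t * m = m * (m⁻¹ * t * m) := by group
  rw [← rho_mul, e, rho_mul, hχ _ ht', hχ t ht, map_smul, map_smul, map_smul, LinearMap.smul_apply, smul_eq_mul,
    smul_eq_mul, ← mul_assoc] at h2
  exact mul_right_cancel₀ h1 (h2.trans (one_mul _).symm)

include R hirr hc hB hB0 hm hw in
/-- **self-dual modules: the set `J`** -/
theorem Jx_symm {i : I} (hi : i ∈ Jx cs h X ρ) (hcD : D cs h X ρ ≤ Submodule.span k {c}) : ν i ∈ Jx cs h X ρ := by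
  intro x hx v hv
  have hy : m * x * m⁻¹ ∈ X (sr i) := by
    have := R.conj_mem hm (isRoot_sr cs h (ν i)).neg hx
    rwa [← hw, ← rep_mul_apply, mul_inv_cancel, map_one, Module.End.one_apply] at this
  obtain ⟨a, rfl⟩ := Submodule.mem_span_singleton.1 (hcD hv)
  have h1 := Xpos_phi R hirr hi (phiB_mem R hc hB hm hw) hy
  have h2 : ρ (m * x * m⁻¹) (ρ m c) = ρ m c := by
    rw [← sub_eq_zero]
    refine hB0 _ fun y => ?_
    rw [map_sub, LinearMap.sub_apply, sub_eq_zero]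
    have h3 := LinearMap.congr_fun h1 y
    rw [dualRep_apply] at h3
    rw [← h3, ← hB (m * x * m⁻¹) (ρ m c), rho_rho_inv]
  rw [map_smul]
  congr 1
  have e : m * x * m⁻¹ * m = m * x := by group
  rw [← rho_mul, e, rho_mul] at h2
  rw [← rho_inv_rho ρ m (ρ x c), h2, rho_inv_rho]

end form

end Cfsg.Agent.H911.Ad
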