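import Cfsg.Agent.H911.AdMod

/-!
# The adjoint module of `SL(3, E)` is simple (helper911)
-/

set_option autoImplicit false
set_option linter.unusedSectionVars false
set_option linter.unusedVariables false

namespace Cfsg.Agent.H911.Ad.Mo

open Matrix CoxeterSystem Cfsg.Agent.ChevalleyStructure.CoxeterGeom Cfsg.Agent.Tits.Roots Cfsg.Agent.Tits.Core
  Cfsg.Agent.Tits.Exchange Cfsg.Agent.Nodes.Reps Cfsg.Agent.Nodes.BNOf Cfsg.Agent.Nodes.StabComb
  Cfsg.Agent.Nodes.Bruhat Cfsg.Agent.Nodes.OppDec Cfsg.Agent.Nodes.LeviDec Cfsg.Agent.KFacts.RgdOpp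
  Cfsg.Agent.Omega.CR Cfsg.Agent.Omega.FOne.Lift.Sd Cfsg.Agent.Nodes.RootsA Cfsg.Agent.H911 Cfsg.Agent.H905.Md
  Cfsg.Agent.KFacts.MulOdd.TypeA
open Cfsg.Agent.LieRecognition.BNCox (cA cA_apply)
open Cfsg.Agent.Nodes.RGDTypeA (Mono mem_T tv_val XX tv_mem_XX nn mono_ns X_sr X_neg_sr nsys rgd)
open Cfsg.Agent.TitsThree.KSideA (tv tv_of_ne tv_add tv_zero tv_neg)

variable {k : Type*} [Field k] {E : Type*} [Field E] (σ : E →+* k)

/-- the vector `c` -/
def c₂ (k : Type*) [Field k] : M k := mk (e k (show (0 : Fin 3) ≠ 2 by decide))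

theorem mk_e_ne {i j : Fin 3} (hij : i ≠ j) : mk (e k hij) ≠ 0 := by
  intro h0
  obtain ⟨a, ha⟩ := mk_eq_zero.1 h0
  have h1 := congrFun (congrFun ha i) j
  rw [Matrix.smul_apply, Matrix.one_apply_ne hij, smul_zero] at h1
  have h2 : (e k hij).1 i j = 1 := Matrix.single_apply_same _ _ _
  exact zero_ne_one (h1.trans h2)

theorem c₂_ne : c₂ k ≠ 0 := mk_e_ne _

theorem tv_mem (i : Fin 2) (t : E) : tv i.castSucc i.succ t ∈ Nodes.RGDTypeA.X E (sr i) := by
  rw [X_sr]; exact tv_mem_XX _ _ _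

theorem tv_mem_neg (i : Fin 2) (t : E) : tv i.succ i.castSucc t ∈ Nodes.RGDTypeA.X E (-sr i) := by
  rw [X_neg_sr]; exact tv_mem_XX _ _ _

variable {W : Type*} [Group W] {cs : CoxeterSystem (cA 2) W} {A : Fin 2 → Fin 2 → ℤ} {h : IsCartan (cA 2) A}
  [Finite E] [Finite W] (p : ℕ) [hp : Fact p.Prime] [hEp : CharP E p] [hkp : CharP k p]
include hp hEp hkp

theorem exists_fix {L : Submodule k (M k)} (hL : Ivt (ad σ) (GG cs h (Nodes.RGDTypeA.T (Fin 3) E) (Nodes.RGDTypeA.X E)) L)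
    (h0 : L ≠ ⊥) : ∃ a : k, a ≠ 0 ∧ a • c₂ k ∈ L ∧ a • c₂ k ∈ D cs h (Nodes.RGDTypeA.X E) (ad σ) := by
  have R := rgd cs h (F := E) (p := p)
  have hU : RGD.Sup (Nodes.RGDTypeA.X E) (RGD.Pos cs h) ≤ GG cs h (Nodes.RGDTypeA.T (Fin 3) E) (Nodes.RGDTypeA.X E) :=
    RGD.Sup_le fun x hx => X_le_GG hx.1
  obtain ⟨v, hvL, hv0, hv⟩ := exists_fixed (ad σ) R.isPGroup_Upos L (fun a ha v hv => hL a (hU ha) v hv) h0
  have hvD : v ∈ D cs h (Nodes.RGDTypeA.X E) (ad σ) := hv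
  obtain ⟨X, rfl⟩ := mk_surj v
  have h1 : mk X = X.1 0 2 • c₂ k :=
    fix_eq σ (X_fix R (ad σ) hvD 0 (tv_mem 0 1)) (X_fix R (ad σ) hvD 1 (tv_mem 1 1))
  refine ⟨X.1 0 2, ?_, h1 ▸ hvL, h1 ▸ hvD⟩
  intro h2
  apply hv0
  rw [h1, h2, zero_smul]

/-- **The adjoint module is simple.** -/
theorem mod_irr (L : Submodule k (M k))
    (hL : Ivt (ad σ) (GG cs h (Nodes.RGDTypeA.T (Fin 3) E) (Nodes.RGDTypeA.X E)) L) : L = ⊥ ∨ L = ⊤ := by
  by_cases h0 : L = ⊥
  · exact Or.inl h0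
  right
  obtain ⟨a, ha, h1, -⟩ := exists_fix (σ := σ) p hL h0
  refine gen_top σ (fun g v hv => hL g ?_ v hv) ?_
  · rw [gg_eq_top (Nodes.RGDTypeA.G1_eq_top cs h)]; trivial
  · have h2 := L.smul_mem a⁻¹ h1
    rwa [smul_smul, inv_mul_cancel₀ ha, one_smul] at h2

theorem c₂_mem : c₂ k ∈ D cs h (Nodes.RGDTypeA.X E) (ad σ) := by
  have : Nontrivial (M k) := ⟨⟨_, _, c₂_ne⟩⟩
  obtain ⟨a, ha, -, h2⟩ := exists_fix (σ := σ) (cs := cs) (h := h) p (L := ⊤) (fun _ _ _ _ => trivial) top_ne_bot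
  have h3 := (D cs h (Nodes.RGDTypeA.X E) (ad σ)).smul_mem a⁻¹ h2
  rwa [smul_smul, inv_mul_cancel₀ ha, one_smul] at h3

omit hp hEp hkp in
theorem ad_T {t : SpecialLinearGroup (Fin 3) E} (ht : t ∈ Nodes.RGDTypeA.T (Fin 3) E) :
    ad σ t (c₂ k) = σ (t.1 0 0 * (t.1 2 2)⁻¹) • c₂ k := by
  unfold c₂
  rw [ad_mk, ← map_smul]
  congr 1
  apply Subtype.ext
  rw [adS_val]
  change mp σ t * Matrix.single 0 2 1 * mp σ t⁻¹ = σ (t.1 0 0 * (t.1 2 2)⁻¹) • Matrix.single 0 2 (1 : k)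
  have h1 : mp σ t = Matrix.diagonal fun i => σ (t.1 i i) := by
    unfold mp
    conv_lhs => rw [slT_diag ht]
    rw [Matrix.diagonal_map (map_zero σ)]
  have h2 : mp σ t⁻¹ = Matrix.diagonal fun i => σ ((t⁻¹).1 i i) := by
    unfold mp
    conv_lhs => rw [slT_diag (inv_mem ht)]
    rw [Matrix.diagonal_map (map_zero σ)]
  have h3 : (t⁻¹).1 2 2 = (t.1 2 2)⁻¹ := (mem_T.1 ht).inv_apply 2
  rw [h1, h2]
  ext i j
  rw [Matrix.mul_diagonal, Matrix.diagonal_mul, Matrix.smul_apply, smul_eq_mul]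
  by_cases hij : (0 : Fin 3) = i ∧ (2 : Fin 3) = j
  · obtain ⟨rfl, rfl⟩ := hij
    rw [Matrix.single_apply_same, mul_one, mul_one, map_mul]
    exact congrArg (fun x => σ (t.1 0 0) * σ x) h3
  · rw [Matrix.single_apply, if_neg hij, mul_zero, zero_mul, mul_zero]

/-- `J` is empty -/
theorem not_mem_Jx (i : Fin 2) : i ∉ Jx cs h (Nodes.RGDTypeA.X E) (ad σ : _ →* Module.End k (M k)) := by
  have key : ∀ (i : Fin 2) {a b : Fin 3} (hab : a ≠ b), adS σ (tv i.succ i.castSucc 1) (e k (show (0 : Fin 3) ≠ 2 by decide)) -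
      e k (show (0 : Fin 3) ≠ 2 by decide) = e k hab ∨ adS σ (tv i.succ i.castSucc 1) (e k (show (0 : Fin 3) ≠ 2 by decide)) -
      e k (show (0 : Fin 3) ≠ 2 by decide) = -e k hab →
      i ∉ Jx cs h (Nodes.RGDTypeA.X E) (ad σ : _ →* Module.End k (M k)) := by
    intro i a b hab h1 h2
    have h3 := h2 _ (tv_mem_neg i 1) (c₂ k) (c₂_mem σ p)
    unfold c₂ at h3
    rw [ad_mk, ← sub_eq_zero, ← map_sub] at h3
    rcases h1 with h1 | h1
    · rw [h1] at h3; exact mk_e_ne hab h3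
    · rw [h1, map_neg, neg_eq_zero] at h3; exact mk_e_ne hab h3
  fin_cases i
  · refine key 0 (a := 1) (b := 2) (by decide) (Or.inl ?_)
    apply Subtype.ext
    change (adS σ (tv 1 0 1) (e k _)).1 - Matrix.single 0 2 1 = Matrix.single 1 2 1
    rw [adS_tv σ (by decide)]
    change Matrix.single 0 2 1 + Matrix.single 1 0 1 * Matrix.single 0 2 1 - Matrix.single 0 2 1 * Matrix.single 1 0 1 -
      Matrix.single 1 0 1 * Matrix.single 0 2 1 * Matrix.single 1 0 1 - Matrix.single 0 2 1 = Matrix.single 1 2 (1 : k)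
    simp [Matrix.single_mul_single_same, Matrix.single_mul_single_of_ne]
  · refine key 1 (a := 0) (b := 1) (by decide) (Or.inr ?_)
    apply Subtype.ext
    change (adS σ (tv 2 1 1) (e k _)).1 - Matrix.single 0 2 1 = -Matrix.single 0 1 1
    rw [adS_tv σ (by decide)]
    change Matrix.single 0 2 1 + Matrix.single 2 1 1 * Matrix.single 0 2 1 - Matrix.single 0 2 1 * Matrix.single 2 1 1 -
      Matrix.single 2 1 1 * Matrix.single 0 2 1 * Matrix.single 2 1 1 - Matrix.single 0 2 1 = -Matrix.single 0 1 (1 : k)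
    simp [Matrix.single_mul_single_same, Matrix.single_mul_single_of_ne]

omit [Finite E] [Finite W] hp hEp hkp in
theorem finrank_S : Module.finrank k (S k) = 8 := by
  have h1 := LinearMap.finrank_range_add_finrank_ker (Matrix.traceLinearMap (Fin 3) k k)
  have h2 : LinearMap.range (Matrix.traceLinearMap (Fin 3) k k) = ⊤ := by
    rw [LinearMap.range_eq_top]
    intro a
    refine ⟨Matrix.single 0 0 a, ?_⟩
    rw [Matrix.traceLinearMap_apply, Matrix.trace_single_eq_same]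
  have h3 : Module.finrank k (Matrix (Fin 3) (Fin 3) k) = 9 := by
    rw [Module.finrank_matrix]
    simp
  rw [h2, finrank_top, Module.finrank_self, h3] at h1
  change Module.finrank k (LinearMap.ker (Matrix.traceLinearMap (Fin 3) k k)) = 8
  omega

omit [Finite E] [Finite W] hp hEp hkp in
theorem finrank_M (h3 : (3 : k) ≠ 0) : Module.finrank k (M k) = 8 := by
  have h1 := Submodule.finrank_quotient_add_finrank (Z k)
  have h2 : Z k = ⊥ := by
    rw [eq_bot_iff]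
    intro X hX
    obtain ⟨a, ha⟩ := mem_Z.1 hX
    have h4 := X.2
    rw [mem_S, ← ha, Matrix.trace_smul, Matrix.trace_one, Fintype.card_fin, smul_eq_mul] at h4
    have h5 : a = 0 := (mul_eq_zero.1 h4).resolve_right (by exact_mod_cast h3)
    rw [Submodule.mem_bot]
    apply Subtype.ext
    rw [← ha, h5, zero_smul]
    rfl
  have h4 : Module.finrank k (Z k) = 0 := by rw [h2, finrank_bot]
  rw [finrank_S, h4] at h1
  exact h1

omit [Finite E] [Finite W] hp hEp hkp in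
theorem finrank_M' (h3 : (3 : k) = 0) : Module.finrank k (M k) = 7 := by
  have h1 := Submodule.finrank_quotient_add_finrank (Z k)
  have h0 : (1 : Matrix (Fin 3) (Fin 3) k) ∈ S k := by
    rw [mem_S, Matrix.trace_one, Fintype.card_fin]
    exact_mod_cast h3
  have h2 : Z k = Submodule.span k {⟨1, h0⟩} := by
    ext X
    rw [mem_Z, Submodule.mem_span_singleton]
    constructor
    · rintro ⟨a, ha⟩
      exact ⟨a, Subtype.ext ha⟩
    · rintro ⟨a, rfl⟩
      exact ⟨a, rfl⟩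
  have h4 : Module.finrank k (Z k) = 1 := by
    rw [h2]
    refine finrank_span_singleton ?_
    intro h5
    have h6 := congrFun (congrFun (congrArg Subtype.val h5) 0) 0
    exact one_ne_zero h6
  rw [finrank_S, h4] at h1
  have h5 : Module.finrank k (M k) + 1 = 8 := h1
  omega

end Cfsg.Agent.H911.Ad.Mo
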