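import Cfsg.Agent.H911.AdA

/-!
# The adjoint module of `SL(3, E)` (helper911)

`M k = sl_3(k) / (scalars)`, the group `SL(3, E)` acts by conjugation through `σ : E → k`.
-/

set_option autoImplicit false
set_option linter.unusedSectionVars false
set_option linter.unusedVariables false

namespace Cfsg.Agent.H911.Ad.Mo

open Matrix

section defs

variable (k : Type*) [Field k]

/-- the matrices of trace zero -/
def S : Submodule k (Matrix (Fin 3) (Fin 3) k) := LinearMap.ker (Matrix.traceLinearMap (Fin 3) k k)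

/-- the scalars of trace zero -/
def Z : Submodule k (S k) := (Submodule.span k {(1 : Matrix (Fin 3) (Fin 3) k)}).comap (S k).subtype

/-- the adjoint module -/
abbrev M := S k ⧸ Z k

end defs

variable {k : Type*} [Field k] {E : Type*} [Field E]

theorem mem_S {X : Matrix (Fin 3) (Fin 3) k} : X ∈ S k ↔ X.trace = 0 := Iff.rfl

theorem mem_Z {X : S k} : X ∈ Z k ↔ ∃ a : k, a • (1 : Matrix (Fin 3) (Fin 3) k) = X := by
  unfold Z
  rw [Submodule.mem_comap, Submodule.mem_span_singleton]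
  rfl

/-- the class -/
def mk : S k →ₗ[k] M k := (Z k).mkQ

theorem mk_surj (v : M k) : ∃ X, mk X = v := Submodule.Quotient.mk_surjective _ v

theorem mk_eq_zero {X : S k} : mk X = 0 ↔ ∃ a : k, a • (1 : Matrix (Fin 3) (Fin 3) k) = X := by
  rw [← mem_Z]
  exact Submodule.Quotient.mk_eq_zero _

variable (σ : E →+* k)

/-- the matrix of `g` over `k` -/
def mp (g : SpecialLinearGroup (Fin 3) E) : Matrix (Fin 3) (Fin 3) k := g.1.map σ

theorem mp_one : mp σ 1 = 1 := Matrix.map_one σ (map_zero σ) (map_one σ)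

theorem mp_mul (g g' : SpecialLinearGroup (Fin 3) E) : mp σ (g * g') = mp σ g * mp σ g' := by
  unfold mp
  rw [show (g * g').1 = g.1 * g'.1 from rfl, Matrix.map_mul]

theorem mp_inv_mul (g : SpecialLinearGroup (Fin 3) E) : mp σ g⁻¹ * mp σ g = 1 := by
  rw [← mp_mul, inv_mul_cancel, mp_one]

theorem mp_mul_inv (g : SpecialLinearGroup (Fin 3) E) : mp σ g * mp σ g⁻¹ = 1 := by
  rw [← mp_mul, mul_inv_cancel, mp_one]

theorem trace_conj (g : SpecialLinearGroup (Fin 3) E) (X : Matrix (Fin 3) (Fin 3) k) :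
    (mp σ g * X * mp σ g⁻¹).trace = X.trace := by
  rw [Matrix.trace_mul_comm, ← Matrix.mul_assoc, mp_inv_mul, Matrix.one_mul]

/-- conjugation on `sl_3` -/
def adS (g : SpecialLinearGroup (Fin 3) E) : S k →ₗ[k] S k where
  toFun X := ⟨mp σ g * X.1 * mp σ g⁻¹, by
    rw [mem_S, trace_conj]; exact X.2⟩
  map_add' X Y := by
    apply Subtype.ext
    change mp σ g * (X.1 + Y.1) * mp σ g⁻¹ = mp σ g * X.1 * mp σ g⁻¹ + mp σ g * Y.1 * mp σ g⁻¹
    rw [Matrix.mul_add, Matrix.add_mul]
  map_smul' a X := by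
    apply Subtype.ext
    change mp σ g * (a • X.1) * mp σ g⁻¹ = a • (mp σ g * X.1 * mp σ g⁻¹)
    rw [Matrix.mul_smul, Matrix.smul_mul]

theorem adS_val (g : SpecialLinearGroup (Fin 3) E) (X : S k) : (adS σ g X).1 = mp σ g * X.1 * mp σ g⁻¹ := rfl

theorem adS_Z (g : SpecialLinearGroup (Fin 3) E) : Z k ≤ (Z k).comap (adS σ g) := by
  intro X hX
  rw [Submodule.mem_comap, mem_Z]
  obtain ⟨a, ha⟩ := mem_Z.1 hX
  refine ⟨a, ?_⟩
  rw [adS_val, ← ha, Matrix.mul_smul, Matrix.smul_mul, Matrix.mul_one, mp_mul_inv]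

/-- the adjoint representation -/
def ad : SpecialLinearGroup (Fin 3) E →* Module.End k (M k) where
  toFun g := (Z k).mapQ (Z k) (adS σ g) (adS_Z σ g)
  map_one' := by
    refine LinearMap.ext fun v => ?_
    obtain ⟨X, rfl⟩ := mk_surj v
    change mk (adS σ 1 X) = mk X
    congr 1
    apply Subtype.ext
    rw [adS_val, inv_one, mp_one, Matrix.one_mul, Matrix.mul_one]
  map_mul' g g' := by
    refine LinearMap.ext fun v => ?_
    obtain ⟨X, rfl⟩ := mk_surj v
    change mk (adS σ (g * g') X) = mk (adS σ g (adS σ g' X))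
    congr 1
    apply Subtype.ext
    rw [adS_val, adS_val, adS_val, _root_.mul_inv_rev, mp_mul, mp_mul]
    simp only [Matrix.mul_assoc]

theorem ad_mk (g : SpecialLinearGroup (Fin 3) E) (X : S k) : ad σ g (mk X) = mk (adS σ g X) := rfl

/-! ### elementary matrices -/

/-- the elementary matrix `E_ij`, `i ≠ j`, in `sl_3` -/
def e (k : Type*) [Field k] {i j : Fin 3} (hij : i ≠ j) : S k := ⟨Matrix.single i j 1, by
  rw [mem_S, Matrix.trace_single_eq_of_ne _ _ _ hij]⟩

/-- `E_jj - E_ii` -/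
def d (k : Type*) [Field k] (i j : Fin 3) : S k := ⟨Matrix.single j j 1 - Matrix.single i i 1, by
  rw [mem_S, Matrix.trace_sub, Matrix.trace_single_eq_same, Matrix.trace_single_eq_same, sub_self]⟩

open Cfsg.Agent.TitsThree.KSideA (tv tv_of_ne tv_add tv_zero tv_neg)
open Cfsg.Agent.Nodes.RGDTypeA (tv_val)

theorem mp_tv {i j : Fin 3} (hij : i ≠ j) (t : E) : mp σ (tv i j t) = 1 + Matrix.single i j (σ t) := by
  unfold mp
  rw [tv_val hij]
  ext a b
  simp only [Matrix.map_apply, Matrix.add_apply, Matrix.one_apply, Matrix.single_apply, map_add]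
  split_ifs <;> simp

theorem mp_tv_inv {i j : Fin 3} (hij : i ≠ j) (t : E) : mp σ (tv i j t)⁻¹ = 1 - Matrix.single i j (σ t) := by
  have h1 : (tv i j t)⁻¹ = tv i j (-t) := by
    rw [inv_eq_iff_mul_eq_one, ← tv_add, add_neg_cancel, tv_zero]
  rw [h1, mp_tv σ hij, map_neg, sub_eq_add_neg]
  congr 1
  ext a b
  simp only [Matrix.single_apply, Matrix.neg_apply]
  split_ifs <;> simp

/-- the action of `1 + E_ij` -/
theorem adS_tv {i j : Fin 3} (hij : i ≠ j) (X : S k) : (adS σ (tv i j 1) X).1 =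
    X.1 + Matrix.single i j 1 * X.1 - X.1 * Matrix.single i j 1 - Matrix.single i j 1 * X.1 * Matrix.single i j 1 := by
  rw [adS_val, mp_tv σ hij, mp_tv_inv σ hij, map_one]
  noncomm_ring

theorem adS_e {i j : Fin 3} (hij : i ≠ j) : adS σ (tv j i 1) (e k hij) = e k hij + d k i j - e k hij.symm := by
  apply Subtype.ext
  rw [adS_tv σ hij.symm]
  change _ = Matrix.single i j 1 + (Matrix.single j j 1 - Matrix.single i i 1) - Matrix.single j i 1
  change Matrix.single i j 1 + Matrix.single j i 1 * Matrix.single i j 1 - Matrix.single i j 1 * Matrix.single j i 1 -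
    Matrix.single j i 1 * Matrix.single i j 1 * Matrix.single j i 1 = _
  simp only [Matrix.single_mul_single_same, mul_one]
  abel

theorem adS_d {i j : Fin 3} (hij : i ≠ j) : adS σ (tv i j 1) (d k i j) = d k i j + (2 : k) • e k hij := by
  apply Subtype.ext
  rw [adS_tv σ hij]
  change (Matrix.single j j 1 - Matrix.single i i 1) + Matrix.single i j 1 * (Matrix.single j j 1 - Matrix.single i i 1) -
    (Matrix.single j j 1 - Matrix.single i i 1) * Matrix.single i j 1 -
    Matrix.single i j 1 * (Matrix.single j j 1 - Matrix.single i i 1) * Matrix.single i j 1 =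
      (Matrix.single j j 1 - Matrix.single i i 1) + (2 : k) • Matrix.single i j (1 : k)
  rw [Matrix.mul_sub, Matrix.sub_mul, Matrix.sub_mul]
  simp only [Matrix.single_mul_single_same, mul_one, Matrix.single_mul_single_of_ne _ _ _ _ hij.symm, sub_zero, zero_sub]
  rw [two_smul, Matrix.zero_mul]
  abel

theorem adS_e' {i j : Fin 3} (hij : i ≠ j) : adS σ (tv i j 1) (e k hij.symm) = e k hij.symm - d k i j - e k hij := by
  have h1 := adS_e (k := k) σ hij.symm
  have h2 : d k j i = - d k i j := by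
    apply Subtype.ext
    change Matrix.single i i 1 - Matrix.single j j 1 = -(Matrix.single j j 1 - Matrix.single i i (1 : k))
    abel
  rw [h1, h2]
  abel

theorem mk_eq_of {X Y : S k} (a : k) (h : X.1 = Y.1 + a • (1 : Matrix (Fin 3) (Fin 3) k)) : mk X = mk Y := by
  rw [← sub_eq_zero, ← map_sub, mk_eq_zero]
  refine ⟨a, ?_⟩
  change a • (1 : Matrix (Fin 3) (Fin 3) k) = X.1 - Y.1
  rw [h, add_sub_cancel_left]

/-- a submodule with `ε_ij` contains `δ_ij`, `ε_ji` -/
theorem pair_mem {L : Submodule k (M k)} (hL : ∀ g, ∀ v ∈ L, ad σ g v ∈ L) {i j : Fin 3} (hij : i ≠ j)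
    (h : mk (e k hij) ∈ L) : mk (d k i j) ∈ L ∧ mk (e k hij.symm) ∈ L := by
  have h1 : mk (d k i j) - mk (e k hij.symm) ∈ L := by
    have h2 := hL (tv j i 1) _ h
    rw [ad_mk, adS_e σ hij, map_sub, map_add] at h2
    have h3 := L.sub_mem h2 h
    have e1 : mk (e k hij) + mk (d k i j) - mk (e k hij.symm) - mk (e k hij) = mk (d k i j) - mk (e k hij.symm) := by
      abel
    rwa [e1] at h3
  have h4 : mk (d k i j) ∈ L := by
    have h2 := hL (tv i j 1) _ h1
    rw [map_sub, ad_mk, ad_mk, adS_d σ hij, adS_e' σ hij, map_sub, map_sub, map_add, map_smul] at h2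
    have h3 := L.sub_mem (L.sub_mem h2 h1) (L.smul_mem (3 : k) h)
    have e1 : mk (d k i j) + (2 : k) • mk (e k hij) - (mk (e k hij.symm) - mk (d k i j) - mk (e k hij)) -
        (mk (d k i j) - mk (e k hij.symm)) - (3 : k) • mk (e k hij) = mk (d k i j) := by
      module
    rwa [e1] at h3
  refine ⟨h4, ?_⟩
  have h5 := L.sub_mem h4 h1
  rwa [sub_sub_cancel] at h5

theorem gen_top {L : Submodule k (M k)} (hL : ∀ g, ∀ v ∈ L, ad σ g v ∈ L)
    (h : mk (e k (show (0 : Fin 3) ≠ 2 by decide)) ∈ L) : L = ⊤ := by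
  have h01 : mk (e k (show (0 : Fin 3) ≠ 1 by decide)) ∈ L := by
    have h2 := hL (tv 2 1 1) _ h
    have e1 : adS σ (tv 2 1 1) (e k (show (0 : Fin 3) ≠ 2 by decide)) =
        e k (show (0 : Fin 3) ≠ 2 by decide) - e k (show (0 : Fin 3) ≠ 1 by decide) := by
      apply Subtype.ext
      rw [adS_tv σ (by decide)]
      change Matrix.single 0 2 1 + Matrix.single 2 1 1 * Matrix.single 0 2 1 - Matrix.single 0 2 1 * Matrix.single 2 1 1 -
        Matrix.single 2 1 1 * Matrix.single 0 2 1 * Matrix.single 2 1 1 = Matrix.single 0 2 (1 : k) - Matrix.single 0 1 1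
      simp [Matrix.single_mul_single_same, Matrix.single_mul_single_of_ne]
    rw [ad_mk, e1, map_sub] at h2
    have h3 := L.sub_mem h h2
    rwa [sub_sub_cancel] at h3
  have h12 : mk (e k (show (1 : Fin 3) ≠ 2 by decide)) ∈ L := by
    have h2 := hL (tv 1 0 1) _ h
    have e1 : adS σ (tv 1 0 1) (e k (show (0 : Fin 3) ≠ 2 by decide)) =
        e k (show (0 : Fin 3) ≠ 2 by decide) + e k (show (1 : Fin 3) ≠ 2 by decide) := by
      apply Subtype.ext
      rw [adS_tv σ (by decide)]
      change Matrix.single 0 2 1 + Matrix.single 1 0 1 * Matrix.single 0 2 1 - Matrix.single 0 2 1 * Matrix.single 1 0 1 -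
        Matrix.single 1 0 1 * Matrix.single 0 2 1 * Matrix.single 1 0 1 = Matrix.single 0 2 (1 : k) + Matrix.single 1 2 1
      simp [Matrix.single_mul_single_same, Matrix.single_mul_single_of_ne]
    rw [ad_mk, e1, map_add] at h2
    have h3 := L.sub_mem h2 h
    rwa [add_sub_cancel_left] at h3
  obtain ⟨d01, e10⟩ := pair_mem σ hL _ h01
  obtain ⟨d12, e21⟩ := pair_mem σ hL _ h12
  obtain ⟨d02, e20⟩ := pair_mem σ hL _ h
  rw [eq_top_iff]
  rintro v -
  obtain ⟨X, rfl⟩ := mk_surj v
  have htr : X.1 0 0 + X.1 1 1 + X.1 2 2 = 0 := by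
    have := X.2
    rw [mem_S, Matrix.trace_fin_three] at this
    exact this
  have e1 : X = X.1 0 1 • e k (show (0 : Fin 3) ≠ 1 by decide) + X.1 0 2 • e k (show (0 : Fin 3) ≠ 2 by decide) +
      X.1 1 2 • e k (show (1 : Fin 3) ≠ 2 by decide) + X.1 1 0 • e k (show (1 : Fin 3) ≠ 0 by decide) +
      X.1 2 0 • e k (show (2 : Fin 3) ≠ 0 by decide) + X.1 2 1 • e k (show (2 : Fin 3) ≠ 1 by decide) +
      (-X.1 0 0) • d k 0 1 + (X.1 2 2) • d k 1 2 := by
    apply Subtype.ext
    change X.1 = X.1 0 1 • Matrix.single 0 1 1 + X.1 0 2 • Matrix.single 0 2 1 + X.1 1 2 • Matrix.single 1 2 1 +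
      X.1 1 0 • Matrix.single 1 0 1 + X.1 2 0 • Matrix.single 2 0 1 + X.1 2 1 • Matrix.single 2 1 1 +
      (-X.1 0 0) • (Matrix.single 1 1 1 - Matrix.single 0 0 1) + X.1 2 2 • (Matrix.single 2 2 1 - Matrix.single 1 1 1)
    ext i j
    fin_cases i <;> fin_cases j <;> simp
    linear_combination htr
  rw [e1]
  simp only [map_add, map_smul]
  exact L.add_mem (L.add_mem (L.add_mem (L.add_mem (L.add_mem (L.add_mem (L.add_mem (L.smul_mem _ h01)
    (L.smul_mem _ h)) (L.smul_mem _ h12)) (L.smul_mem _ e10)) (L.smul_mem _ e20)) (L.smul_mem _ e21))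
    (L.smul_mem _ d01)) (L.smul_mem _ d12)

/-- the fixed vectors of the unitriangular group -/
theorem fix_eq {X : S k} (h1 : ad σ (tv 0 1 1) (mk X) = mk X) (h2 : ad σ (tv 1 2 1) (mk X) = mk X) :
    mk X = X.1 0 2 • mk (e k (show (0 : Fin 3) ≠ 2 by decide)) := by
  have key : ∀ {i j : Fin 3} (hij : i ≠ j), ad σ (tv i j 1) (mk X) = mk X →
      ∃ a : k, Matrix.single i j 1 * X.1 - X.1 * Matrix.single i j 1 = a • (1 + Matrix.single i j 1) := by
    intro i j hij h
    rw [ad_mk, ← sub_eq_zero, ← map_sub, mk_eq_zero] at h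
    obtain ⟨a, ha⟩ := h
    refine ⟨a, ?_⟩
    have h3 : a • (1 : Matrix (Fin 3) (Fin 3) k) = (1 + Matrix.single i j 1) * X.1 * (1 - Matrix.single i j 1) - X.1 := by
      rw [ha]
      change mp σ (tv i j 1) * X.1 * mp σ (tv i j 1)⁻¹ - X.1 = _
      rw [mp_tv σ hij, mp_tv_inv σ hij, map_one]
    have h4 : (1 - Matrix.single i j (1 : k)) * (1 + Matrix.single i j 1) = 1 := by
      rw [Matrix.sub_mul, Matrix.one_mul, Matrix.mul_add, Matrix.mul_one,
        Matrix.single_mul_single_of_ne _ _ _ _ hij.symm, add_zero, add_sub_cancel_right]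
    have h5 : a • (1 + Matrix.single i j (1 : k)) = (a • (1 : Matrix (Fin 3) (Fin 3) k)) * (1 + Matrix.single i j 1) := by
      rw [Matrix.smul_mul, Matrix.one_mul]
    rw [h5, h3, Matrix.sub_mul, Matrix.mul_assoc ((1 + Matrix.single i j 1) * X.1), h4]
    noncomm_ring
  obtain ⟨a, ha⟩ := key (by decide) h1
  obtain ⟨b, hb⟩ := key (by decide) h2
  have a22 := congrFun (congrFun ha 2) 2
  have a00 := congrFun (congrFun ha 0) 0
  have a01 := congrFun (congrFun ha 0) 1
  have a02 := congrFun (congrFun ha 0) 2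
  have a21 := congrFun (congrFun ha 2) 1
  have b00 := congrFun (congrFun hb 0) 0
  have b02 := congrFun (congrFun hb 0) 2
  have b12 := congrFun (congrFun hb 1) 2
  have b11 := congrFun (congrFun hb 1) 1
  have b10 := congrFun (congrFun hb 1) 0
  simp [Matrix.mul_apply, Matrix.single_apply] at a22 a00 a01 a02 a21 b00 b02 b12 b11 b10
  rw [← map_smul]
  apply mk_eq_of (X.1 0 0)
  change X.1 = X.1 0 2 • Matrix.single 0 2 (1 : k) + X.1 0 0 • (1 : Matrix (Fin 3) (Fin 3) k)
  ext i j
  fin_cases i <;> fin_cases j <;> simp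
  · exact b02
  · linear_combination a00 - a22
  · linear_combination a01 - a22
  · exact a02
  · exact a21
  · linear_combination b11 - b00
  · linear_combination b12 - b00 + a01 - a22

end Cfsg.Agent.H911.Ad.Mo
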