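import Cfsg.Agent.H911.AdF
import Cfsg.Agent.H911.AdIrr

/-!
# Self-dual `PSL(3, E)` in the defining characteristic, `n ≤ 11` (helper911)
-/

set_option autoImplicit false
set_option linter.unusedSectionVars false
set_option linter.unusedVariables false

namespace Cfsg.Agent.H911.Ad

open Matrix CoxeterSystem Cfsg.Agent.ChevalleyStructure.CoxeterGeom Cfsg.Agent.Tits.Roots Cfsg.Agent.Tits.Core
  Cfsg.Agent.Tits.Exchange Cfsg.Agent.Nodes.Reps Cfsg.Agent.Nodes.BNOf Cfsg.Agent.Nodes.StabComb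
  Cfsg.Agent.Nodes.Bruhat Cfsg.Agent.Nodes.OppDec Cfsg.Agent.Nodes.LeviDec Cfsg.Agent.KFacts.RgdOpp
  Cfsg.Agent.Omega.CR Cfsg.Agent.Omega.FOne.Lift.Sd Cfsg.Agent.Nodes.RootsA Cfsg.Agent.H911 Cfsg.Agent.H905.Md
open Cfsg Cfsg.Geo Cfsg.Agent.H915.LD
open Cfsg.Agent.H911.SLTwo (U Lo hh ww hh00 hh01 hh10 hh11)
open Cfsg.Agent.LieRecognition.BNCox (cA cA_apply)
open Cfsg.Agent.Nodes.RGDTypeA (Mono mem_T rgd)
open scoped MatrixGroups Matrix

theorem perm_sep : ∀ a a' : Equiv.Perm (Fin 3), a ≠ a' → ∃ i : Fin 2, ∃ c, (a⁻¹ c).val ≤ i.val ∧ ¬ (a'⁻¹ c).val ≤ i.val := by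
  decide

theorem fin_two_rev : ∀ i j : Fin 2, j = i ∨ j = i.rev := by decide

theorem bk_hh_diag {l : ℕ} {E : Type*} [Field E] (i : Fin l) (s : Eˣ) (j : Fin (l + 1)) :
    (bk E i (hh s)).1 j j = if j = i.castSucc then (s : E) else if j = i.succ then ((s⁻¹ : Eˣ) : E) else 1 := by
  rw [bk_apply, hh00, hh11]
  by_cases h1 : j = i.castSucc
  · rw [if_pos h1, if_pos h1, if_pos h1]
  · by_cases h2 : j = i.succ
    · rw [if_neg h1, if_pos h2, if_neg h1, if_pos h2, if_neg h1, if_pos h2]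
    · rw [if_neg h1, if_neg h2, if_pos rfl, if_neg h1, if_neg h2]

theorem T_mul_diag {m : ℕ} {E : Type*} [Field E] {s t : SpecialLinearGroup (Fin m) E}
    (hs : s ∈ Nodes.RGDTypeA.T (Fin m) E) (ht : t ∈ Nodes.RGDTypeA.T (Fin m) E) (j : Fin m) :
    (s * t).1 j j = s.1 j j * t.1 j j := by
  have h1 : (s * t).1 = s.1 * t.1 := rfl
  rw [h1, KFacts.MulOdd.TypeA.eq_diagonal hs, KFacts.MulOdd.TypeA.eq_diagonal ht, Matrix.diagonal_mul_diagonal,
    Matrix.diagonal_apply_eq, Matrix.diagonal_apply_eq, Matrix.diagonal_apply_eq]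

/-- the three positive roots -/
def prs : Fin 3 → Fin 3 × Fin 3 := ![(0, 1), (0, 2), (1, 2)]

theorem prs_lt : ∀ b, (prs b).1 < (prs b).2 := by decide

theorem prs_inj : ∀ b b', prs b = prs b' → b = b' := by decide

section frame

variable {W : Type*} [Group W] {cs : CoxeterSystem (cA 2) W} {A : Fin 2 → Fin 2 → ℤ} {h : IsCartan (cA 2) A}
  {E : Type*} [Field E] [Finite E] [Finite W] (p : ℕ) [hp : Fact p.Prime] [hEp : CharP E p]
  {k V : Type*} [Field k] [hkp : CharP k p]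
  [AddCommGroup V] [Module k V] [FiniteDimensional k V] [Nontrivial V]
  {ρ : SpecialLinearGroup (Fin 3) E →* Module.End k V}
  (hirr : ∀ L : Submodule k V, Ivt ρ (GG cs h (Nodes.RGDTypeA.T (Fin 3) E) (Nodes.RGDTypeA.X E)) L → L = ⊥ ∨ L = ⊤)
  {c : V} (hc : c ∈ D cs h (Nodes.RGDTypeA.X E) ρ) (hc0 : c ≠ 0)
  {χ : SpecialLinearGroup (Fin 3) E → k} (hχ : ∀ t ∈ Nodes.RGDTypeA.T (Fin 3) E, ρ t c = χ t • c)
  {B : V →ₗ[k] V →ₗ[k] k} (hB : ∀ g x y, B (ρ g x) (ρ g y) = B x y) (hB0 : ∀ x, (∀ y, B x y = 0) → x = 0)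
include hp hEp hkp hirr hc hc0 hχ hB hB0

theorem finrank_D' : Module.finrank k (D cs h (Nodes.RGDTypeA.X E) ρ) = 1 := by
  rw [D_eq (rgd cs h (F := E) (p := p)) hirr hc hc0 hχ]
  exact finrank_span_singleton hc0

theorem Jx_empty (hV : 2 ≤ Module.finrank k V) (i : Fin 2) : i ∉ Jx cs h (Nodes.RGDTypeA.X E) ρ := by
  have R := rgd cs h (F := E) (p := p)
  intro hi
  have h1 := Jx_rev p hirr hc hc0 hχ hB hB0 hi
  obtain ⟨j, hj⟩ := exists_not_mem R hirr (by rw [finrank_D' p hirr hc hc0 hχ hB hB0]; omega)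
  apply hj
  rcases fin_two_rev i j with rfl | rfl
  · exact hi
  · exact h1

/-- some edge is two-dimensional -/
theorem exists_edge (hV : 2 ≤ Module.finrank k V) (hn : Module.finrank k V ≤ 11) :
    ∃ i : Fin 2, Module.finrank k (Io cs h (Nodes.RGDTypeA.T (Fin 3) E) (Nodes.RGDTypeA.X E) ρ i) = 0 := by
  have R := rgd cs h (F := E) (p := p)
  have hJ := Jx_empty p hirr hc hc0 hχ hB hB0 hV
  have h1 := dim_ge_perm R hirr (α := Equiv.Perm (Fin 3)) (β := Fin 3 × Fin 2) id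
    (fun a a' haa => by
      obtain ⟨i, c, h1, h2⟩ := perm_sep a a' haa
      exact ⟨i, hJ i, c, h1, h2⟩) (fun b => prs b.1) (fun b => prs_lt b.1) (fun b => b.2) (fun b => hJ _)
    (fun b b' e1 e2 => Prod.ext (prs_inj _ _ e2) e1)
  rw [finrank_D' p hirr hc hc0 hχ hB hB0, Fintype.card_perm, Fintype.card_fin, Fintype.sum_prod_type] at h1
  simp only [Fin.sum_univ_two, Fin.sum_univ_three] at h1
  have h3 : Nat.factorial 3 = 6 := rfl
  rw [h3] at h1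
  by_contra hcon
  push Not at hcon
  have h4 : Module.finrank k (Io cs h (Nodes.RGDTypeA.T (Fin (2 + 1)) E) (Nodes.RGDTypeA.X E) ρ 0) ≠ 0 := hcon 0
  have h5 : Module.finrank k (Io cs h (Nodes.RGDTypeA.T (Fin (2 + 1)) E) (Nodes.RGDTypeA.X E) ρ 1) ≠ 0 := hcon 1
  omega

/-- **the character is `σ(t₁ / t₃)`** -/
theorem exists_sigma3 (hV : 2 ≤ Module.finrank k V) (hn : Module.finrank k V ≤ 11) :
    ∃ σ : E →+* k, ∀ t ∈ Nodes.RGDTypeA.T (Fin 3) E, χ t = σ (t.1 0 0 * (t.1 2 2)⁻¹) := by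
  have R := rgd cs h (F := E) (p := p)
  have hJ := Jx_empty p hirr hc hc0 hχ hB hB0 hV
  obtain ⟨i, hi⟩ := exists_edge p hirr hc hc0 hχ hB hB0 hV hn
  obtain ⟨σ, hσ⟩ := exists_sigma_A p hirr hc hc0 hχ (hJ i) (edge_of_Io R hirr (hJ i) hi)
  have hσ' : ∀ (j : Fin 2) (s : Eˣ), χ (bk E j (hh s)) = σ s := by
    intro j s
    rcases fin_two_rev i j with rfl | rfl
    · exact hσ s
    · rw [← chi_bk_rev p hirr hc hc0 hχ hB hB0]; exact hσ s
  refine ⟨σ, fun t ht => ?_⟩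
  have h0 : ∀ j, t.1 j j ≠ 0 := fun j => (mem_T.1 ht).apply_ne_zero j
  have hdet : t.1 0 0 * t.1 1 1 * t.1 2 2 = 1 := by
    have h1 := t.2
    rw [slT_diag ht, Matrix.det_diagonal, Fin.prod_univ_three] at h1
    exact h1
  have e : t = bk E 0 (hh (Units.mk0 _ (h0 0))) * bk E 1 (hh (Units.mk0 _ (h0 2))⁻¹) := by
    refine T_ext ht (mul_mem (bk_hh_mem _ _) (bk_hh_mem _ _)) fun j => ?_
    rw [T_mul_diag (bk_hh_mem _ _) (bk_hh_mem _ _), bk_hh_diag, bk_hh_diag]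
    fin_cases j
    · simp
    · simp
      have h00 := h0 0
      have h22 := h0 2
      field_simp
      linear_combination hdet
    · simp
  have hm := chi_mul' hc0 hχ (bk_hh_mem (0 : Fin 2) (Units.mk0 _ (h0 0))) (bk_hh_mem (1 : Fin 2) (Units.mk0 _ (h0 2))⁻¹)
  rw [← e, hσ', hσ', ← map_mul] at hm
  rw [hm, Units.val_mk0, Units.val_inv_eq_inv_val, Units.val_mk0]

end frame

/-! ### linear groups -/

section P

variable {F : Type*} [Field F] [Finite F] {ι : Type} [Fintype ι] [DecidableEq ι] {P : Subgroup (GL ι F)}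
  {E : Type*} [Field E] [Finite E] (p : ℕ) [hp : Fact p.Prime] [hFp : CharP F p] [hEp : CharP E p]
include hp hFp hEp

/-- **Self-dual `PSL(3, E)` in the defining characteristic, `n ≤ 11`: the adjoint module.** -/
theorem psl3_model (hC : Core P) (hsd : SD P) (Φ : Soc P ≃* ProjectiveSpecialLinearGroup (Fin 3) E)
    (hn : Fintype.card ι ≤ 11) : ∃ (σ : E →+* F) (φ : SpecialLinearGroup (Fin 3) E →* GL ι F) (θ : (ι → F) ≃ₗ[F] Mo.M F),
      Function.Bijective σ ∧ φ.range = P ∧ ∀ g v, θ ((φ g : Matrix ι ι F) *ᵥ v) = Mo.ad σ g (θ v) := by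
  obtain ⟨φ, hφ, -, -⟩ := psl_cover (l := 2) p hC.perfect (by omega) (by omega) Φ
  have hne := hC.nonempty
  have h2 := hC.two_le
  haveI : Finite (cA 2).Group := finite_W (cA 2).toCoxeterSystem (isCartan 2)
  have R := rgd (cA 2).toCoxeterSystem (isCartan 2) (F := E) (p := p)
  have hG : GG (cA 2).toCoxeterSystem (isCartan 2) (Nodes.RGDTypeA.T (Fin 3) E) (Nodes.RGDTypeA.X E) = ⊤ :=
    gg_eq_top (Nodes.RGDTypeA.G1_eq_top _ _)
  have hirr := mrep_irr hφ hC.absIrred hG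
  obtain ⟨c, hc, hc0, χ, hχ⟩ := exists_chiF R hG slT_comm hφ hC.absIrred
  obtain ⟨B, hB, hB0⟩ := exists_B hφ hC.absIrred hsd
  have hfr : Module.finrank F (ι → F) = Fintype.card ι := Module.finrank_fintype_fun_eq_card F
  obtain ⟨σ, hσ⟩ := exists_sigma3 p hirr hc hc0 hχ hB hB0 (by omega) (by omega)
  have hJ := Jx_empty p hirr hc hc0 hχ hB hB0 (by omega)
  have hnt : Nontrivial (Mo.M F) := ⟨⟨_, _, Mo.c₂_ne⟩⟩
  obtain ⟨θ, hθ⟩ := iso_of_chi_J R (lin (mrep φ)) (Mo.ad σ) hirr (Mo.mod_irr σ p) hc hc0 (Mo.c₂_mem σ p) Mo.c₂_ne hχ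
    (fun t ht => by rw [Mo.ad_T σ ht, hσ t ht]) (fun i => ⟨fun hi => (hJ i hi).elim, fun hi => (Mo.not_mem_Jx σ p i hi).elim⟩)
  refine ⟨σ, φ, θ, ?_, hφ, fun g v => ?_⟩
  · have h3 : Nat.card E ≤ Nat.card F := Nat.card_le_card_of_injective _ σ.injective
    obtain ⟨j, hj, h4⟩ := psl_card (l := 2) p hC.absIrred hC.perfect (by omega) (by omega) Φ hC.no_subfield
    have h5 : Nat.card F ≤ Nat.card F ^ j := Nat.le_self_pow (by omega) _
    rw [h4] at h5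
    exact (Nat.bijective_iff_injective_and_card σ).2 ⟨σ.injective, le_antisymm h3 h5⟩
  · rw [← mrep_apply]
    exact hθ g (by rw [hG]; trivial) v

end P

end Cfsg.Agent.H911.Ad
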