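import Cfsg.Agent.H911.SLTwoGen

/-!
# The character of the torus of `SL_2(E)` on a two-dimensional edge is a field embedding (helper911)

`ψ : SL_2(E) → Y`, `ρ` a representation of `Y` on `V`, `v : V`, `φ : V → k`:
`φ` is fixed by the lower unitriangular group, `v` by the upper one, `φ v = 1`, `φ (w v) = 0`, the torus acts on `v` by
`χ`, and the upper unitriangular group moves `x_-(1) v - v` by multiples of `v`.  Then `χ` extends to a ring
homomorphism `E → k`.
-/

set_option autoImplicit false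
set_option linter.unusedSectionVars false
set_option linter.unusedSimpArgs false

namespace Cfsg.Agent.H911.Ad

open Cfsg.Agent.H911.SLTwo Matrix

variable {E : Type*} [Field E] {k V : Type*} [Field k] [AddCommGroup V] [Module k V]

theorem decomp_ne {b : E} (hb : 1 + b ≠ 0) :
    U b * Lo 1 = Lo (1 + b)⁻¹ * hh (Units.mk0 (1 + b) hb) * U (b / (1 + b)) := by
  have h1 : (1 + b) * (1 + b)⁻¹ = 1 := mul_inv_cancel₀ hb
  apply ext' <;> simp only [m00, m01, m10, m11, U00, U01, U10, U11, Lo00, Lo01, Lo10, Lo11, hh00, hh01, hh10, hh11,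
    Units.val_mk0, Units.val_inv_eq_inv_val, div_eq_mul_inv]
  · ring
  · linear_combination (-b) * h1
  · linear_combination (-1 : E) * h1
  · linear_combination (-(1 + b) * (1 + b)⁻¹ - 1 + (1 + b)⁻¹ * b + 1 - (1 + b)⁻¹ * b) * h1 * 0 +
      (-b * (1 + b)⁻¹ * 1 - 1) * h1

theorem decomp_neg_one : U (-1 : E) * Lo 1 = Lo (-1) * ww⁻¹ := by
  apply ext' <;> simp only [m00, m01, m10, m11, U00, U01, U10, U11, Lo00, Lo01, Lo10, Lo11, i00, i01, i10, i11,
    ww00, ww01, ww10, ww11] <;> ring

/-- **The character of the torus is a field embedding.** -/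
theorem exists_sigma (ψ : SpecialLinearGroup (Fin 2) E →* Module.End k V) {v : V} {φ : V →ₗ[k] k} {χ : Eˣ → k}
    (hLo : ∀ (a : E) (x : V), φ (ψ (Lo a) x) = φ x) (hU : ∀ b : E, ψ (U b) v = v)
    (hh' : ∀ s : Eˣ, ψ (hh s) v = χ s • v) (h1 : φ v = 1) (h0 : φ (ψ ww⁻¹ v) = 0)
    (hedge : ∀ b : E, ∃ a : k, ψ (U b) (ψ (Lo 1) v - v) = (ψ (Lo 1) v - v) + a • v) :
    ∃ σ : E →+* k, ∀ s : Eˣ, χ s = σ s := by
  have hv0 : v ≠ 0 := by
    rintro rfl
    rw [map_zero] at h1
    exact zero_ne_one h1
  choose f hf using hedge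
  set w := ψ (Lo 1) v - v with hw
  have hmul : ∀ (g g' : SpecialLinearGroup (Fin 2) E) (x : V), ψ (g * g') x = ψ g (ψ g' x) := fun g g' x => by
    rw [map_mul]; rfl
  have hinj : ∀ {a b : k}, a • v = b • v → a = b := fun {a b} h => smul_left_injective k hv0 h
  have hadd : ∀ b b', f (b + b') = f b + f b' := by
    intro b b'
    apply hinj
    have h2 := hf (b + b')
    rw [← U_mul, hmul, hf b', map_add, map_smul, hU, hf b, add_assoc] at h2
    have h3 := add_left_cancel h2
    rw [add_smul]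
    exact h3.symm
  have hφw : φ w = 0 := by rw [hw, map_sub, hLo, sub_self]
  have hA : ∀ b, φ (ψ (U b * Lo 1) v) = 1 + f b := by
    intro b
    have h2 : ψ (Lo 1) v = v + w := by rw [hw]; abel
    rw [hmul, h2, map_add, hU, hf, map_add, map_add, h1, hφw, map_smul, h1, smul_eq_mul, mul_one, zero_add]
  have hm1 : f (-1) = -1 := by
    have h2 := hA (-1)
    rw [decomp_neg_one, hmul, hLo, h0] at h2
    linear_combination -h2
  have hzero : f 0 = 0 := by
    have h2 := hadd 0 0
    rw [add_zero] at h2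
    linear_combination -h2
  have hone : f 1 = 1 := by
    have h2 := hadd 1 (-1)
    rw [add_neg_cancel, hzero, hm1] at h2
    linear_combination -h2
  have hχ : ∀ s : Eˣ, χ s = f s := by
    intro s
    have hs : 1 + ((s : E) - 1) ≠ 0 := by
      rw [add_sub_cancel]
      exact s.ne_zero
    have h2 := hA ((s : E) - 1)
    rw [decomp_ne hs, hmul, hmul, hU, hLo] at h2
    have h3 : Units.mk0 (1 + ((s : E) - 1)) hs = s := Units.ext (by rw [Units.val_mk0, add_sub_cancel])
    rw [h3, hh', map_smul, h1, smul_eq_mul, mul_one] at h2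
    rw [h2]
    have h4 := hadd 1 ((s : E) - 1)
    rw [add_sub_cancel, hone] at h4
    exact h4.symm
  have hmulf : ∀ a b : E, f (a * b) = f a * f b := by
    intro a b
    by_cases ha : a = 0
    · rw [ha, zero_mul, hzero, zero_mul]
    by_cases hb : b = 0
    · rw [hb, mul_zero, hzero, mul_zero]
    have h2 := hχ (Units.mk0 a ha * Units.mk0 b hb)
    have h3 : χ (Units.mk0 a ha * Units.mk0 b hb) = χ (Units.mk0 a ha) * χ (Units.mk0 b hb) := by
      apply hinj
      rw [← hh', ← hh_mul, hmul, hh', map_smul, hh', smul_smul, mul_comm]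
    rw [h3, hχ, hχ, Units.val_mul] at h2
    exact h2.symm
  exact ⟨{ toFun := f, map_one' := hone, map_mul' := hmulf, map_zero' := hzero, map_add' := hadd }, hχ⟩

end Cfsg.Agent.H911.Ad
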