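import Cfsg.Agent.H911.TwoPt

/-!
# `SL_2(7)` has no irreducible representation of degree 5 in characteristic `≠ 7` (helper911)
-/

set_option autoImplicit false
set_option linter.unusedSectionVars false
set_option linter.unusedVariables false

namespace Cfsg.Agent.H911

open Module

variable {K : Type*} [Field K] {V : Type*} [AddCommGroup V] [Module K V] {L : Type*} [Group L]
  [FiniteDimensional K V] (ρ : L →* Module.End K V)

/-- the fixed space of a cyclic group -/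
theorem fix_zpowers (u : L) : fix ρ (Subgroup.zpowers u) = (ρ u).eigenspace 1 := by
  ext v
  rw [mem_fix, Module.End.mem_eigenspace_iff, one_smul]
  constructor
  · intro h
    exact h u (Subgroup.mem_zpowers u)
  · rintro h b ⟨k, rfl⟩
    have hn : ∀ n : ℕ, ρ (u ^ n) v = v := by
      intro n
      induction n with
      | zero => rw [pow_zero, map_one]; rfl
      | succ n ih => rw [pow_succ, ρ_mul_apply, h, ih]
    change ρ (u ^ k) v = v
    rcases Int.eq_nat_or_neg k with ⟨n, rfl | rfl⟩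
    · rw [zpow_natCast]; exact hn n
    · rw [zpow_neg, zpow_natCast]
      conv_lhs => rw [← hn n]
      rw [ρ_inv_apply]

/-- a fixed functional of `u` which is an eigenvector of `y` -/
theorem exists_functional [IsAlgClosed K] {u y : L} {k : ℕ} (hyu : y * u = u ^ k * y)
    (h0 : (ρ u).eigenspace 1 ≠ ⊥) :
    ∃ φ : V →ₗ[K] K, φ ≠ 0 ∧ (∀ v, φ (ρ u v) = φ v) ∧ ∃ μ : K, ∀ v, φ (ρ y v) = μ * φ v := by
  let W : Submodule K (V →ₗ[K] K) :=
    { carrier := {φ | ∀ v, φ (ρ u v) = φ v}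
      zero_mem' := fun v => rfl
      add_mem' := fun {a b} ha hb v => by rw [LinearMap.add_apply, LinearMap.add_apply, ha v, hb v]
      smul_mem' := fun c x hx v => by rw [LinearMap.smul_apply, LinearMap.smul_apply, hx v] }
  have hW : W ≠ ⊥ := by
    intro hbot
    apply h0
    have h1 : LinearMap.range (ρ u - 1) = ⊤ := by
      by_contra hne
      obtain ⟨φ, hφ, hφ2⟩ := Submodule.exists_le_ker_of_lt_top _ (lt_top_iff_ne_top.2 hne)
      apply hφ
      have h2 : φ ∈ W := by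
        intro v
        have h3 := hφ2 (LinearMap.mem_range_self (ρ u - 1) v)
        rw [LinearMap.mem_ker, LinearMap.sub_apply, Module.End.one_apply, map_sub, sub_eq_zero] at h3
        exact h3
      rw [hbot, Submodule.mem_bot] at h2
      exact h2
    have h2 := LinearMap.injective_iff_surjective.2 (LinearMap.range_eq_top.1 h1)
    rw [eq_bot_iff]
    intro v hv
    rw [Module.End.mem_eigenspace_iff, one_smul] at hv
    rw [Submodule.mem_bot]
    apply h2
    rw [map_zero, LinearMap.sub_apply, hv, Module.End.one_apply, sub_self]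
  let f : Module.End K (V →ₗ[K] K) :=
    { toFun := fun φ => φ.comp (ρ y)
      map_add' := fun a b => LinearMap.add_comp _ _ _
      map_smul' := fun c a => rfl }
  have hf : ∀ φ ∈ W, f φ ∈ W := by
    intro φ hφ v
    have hn : ∀ n : ℕ, ∀ v, φ (ρ (u ^ n) v) = φ v := by
      intro n
      induction n with
      | zero => intro v; rw [pow_zero, map_one]; rfl
      | succ n ih => intro v; rw [pow_succ, ρ_mul_apply, ih, hφ]
    change φ (ρ y (ρ u v)) = φ (ρ y v)
    rw [← ρ_mul_apply, hyu, ρ_mul_apply, hn]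
  obtain ⟨φ, hφ, hφ0, μ, hμ⟩ := exists_eigen f W hW hf
  exact ⟨φ, hφ0, hφ, μ, fun v => LinearMap.congr_fun hμ v⟩

/-! ### `SL_2(7)` -/

namespace SLTwoSeven

open Matrix

/-- the group -/
abbrev G := Matrix.SpecialLinearGroup (Fin 2) (ZMod 7)

/-- upper unipotent -/
def U (x : ZMod 7) : G := ⟨!![1, x; 0, 1], by rw [Matrix.det_fin_two_of]; ring⟩

/-- lower unipotent -/
def Lo (x : ZMod 7) : G := ⟨!![1, 0; x, 1], by rw [Matrix.det_fin_two_of]; ring⟩

/-- torus -/
def hh : G := ⟨!![3, 0; 0, 5], by decide⟩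

/-- Weyl element -/
def ww : G := ⟨!![0, 1; -1, 0], by decide⟩

theorem ext' {g k : G} (h00 : g.1 0 0 = k.1 0 0) (h01 : g.1 0 1 = k.1 0 1) (h10 : g.1 1 0 = k.1 1 0)
    (h11 : g.1 1 1 = k.1 1 1) : g = k := by
  apply Subtype.ext
  ext i j
  fin_cases i <;> fin_cases j <;> assumption

theorem mul_00 (g k : G) : (g * k).1 0 0 = g.1 0 0 * k.1 0 0 + g.1 0 1 * k.1 1 0 := by
  rw [Matrix.SpecialLinearGroup.coe_mul, Matrix.mul_apply, Fin.sum_univ_two]
theorem mul_01 (g k : G) : (g * k).1 0 1 = g.1 0 0 * k.1 0 1 + g.1 0 1 * k.1 1 1 := by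
  rw [Matrix.SpecialLinearGroup.coe_mul, Matrix.mul_apply, Fin.sum_univ_two]
theorem mul_10 (g k : G) : (g * k).1 1 0 = g.1 1 0 * k.1 0 0 + g.1 1 1 * k.1 1 0 := by
  rw [Matrix.SpecialLinearGroup.coe_mul, Matrix.mul_apply, Fin.sum_univ_two]
theorem mul_11 (g k : G) : (g * k).1 1 1 = g.1 1 0 * k.1 0 1 + g.1 1 1 * k.1 1 1 := by
  rw [Matrix.SpecialLinearGroup.coe_mul, Matrix.mul_apply, Fin.sum_univ_two]

theorem det_eq (g : G) : g.1 0 0 * g.1 1 1 - g.1 0 1 * g.1 1 0 = 1 := by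
  have := g.2
  rwa [Matrix.det_fin_two] at this

theorem U00 (x : ZMod 7) : (U x).1 0 0 = 1 := rfl
theorem U01 (x : ZMod 7) : (U x).1 0 1 = x := rfl
theorem U10 (x : ZMod 7) : (U x).1 1 0 = 0 := rfl
theorem U11 (x : ZMod 7) : (U x).1 1 1 = 1 := rfl
theorem Lo00 (x : ZMod 7) : (Lo x).1 0 0 = 1 := rfl
theorem Lo01 (x : ZMod 7) : (Lo x).1 0 1 = 0 := rfl
theorem Lo10 (x : ZMod 7) : (Lo x).1 1 0 = x := rfl
theorem Lo11 (x : ZMod 7) : (Lo x).1 1 1 = 1 := rfl
theorem hh00 : hh.1 0 0 = 3 := rfl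
theorem hh01 : hh.1 0 1 = 0 := rfl
theorem hh10 : hh.1 1 0 = 0 := rfl
theorem hh11 : hh.1 1 1 = 5 := rfl
theorem ww00 : ww.1 0 0 = 0 := rfl
theorem ww01 : ww.1 0 1 = 1 := rfl
theorem ww10 : ww.1 1 0 = -1 := rfl
theorem ww11 : ww.1 1 1 = 0 := rfl
theorem one00 : (1 : G).1 0 0 = 1 := rfl
theorem one01 : (1 : G).1 0 1 = 0 := rfl
theorem one10 : (1 : G).1 1 0 = 0 := rfl
theorem one11 : (1 : G).1 1 1 = 1 := rfl

/-- inverse of the Weyl element -/
def wi : G := ⟨!![0, -1; 1, 0], by decide⟩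
theorem wi00 : wi.1 0 0 = 0 := rfl
theorem wi01 : wi.1 0 1 = -1 := rfl
theorem wi10 : wi.1 1 0 = 1 := rfl
theorem wi11 : wi.1 1 1 = 0 := rfl

/-- compute entries -/
macro "ent" : tactic => `(tactic| (apply ext' <;> simp only [mul_00, mul_01, mul_10, mul_11, U00, U01, U10, U11,
  Lo00, Lo01, Lo10, Lo11, hh00, hh01, hh10, hh11, ww00, ww01, ww10, ww11, one00, one01, one10, one11,
  wi00, wi01, wi10, wi11]))

theorem U_add (x y : ZMod 7) : U x * U y = U (x + y) := by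
  ent <;> ring

theorem U_zero : U 0 = 1 := by ent

theorem U_inv (x : ZMod 7) : (U x)⁻¹ = U (-x) := by
  rw [inv_eq_iff_mul_eq_one, U_add, add_neg_cancel, U_zero]

theorem ww_inv : ww⁻¹ = wi := by
  rw [inv_eq_iff_mul_eq_one]
  ent <;> ring

theorem Lo_inv (x : ZMod 7) : (Lo x)⁻¹ = Lo (-x) := by
  rw [inv_eq_iff_mul_eq_one]
  ent <;> ring

theorem U_pow (n : ℕ) : U 1 ^ n = U (n : ZMod 7) := by
  induction n with
  | zero => rw [pow_zero, Nat.cast_zero, U_zero]
  | succ n ih => rw [pow_succ, ih, U_add, Nat.cast_succ]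

theorem hU : hh * U 1 = U 1 ^ 2 * hh := by
  rw [U_pow]
  ent <;> decide

instance factSeven911 : Fact (Nat.Prime 7) := ⟨by norm_num⟩

/-- the Borel subgroup -/
def B : Subgroup G where
  carrier := {g | g.1 1 0 = 0}
  one_mem' := rfl
  mul_mem' {a b} (ha : a.1 1 0 = 0) (hb : b.1 1 0 = 0) := by
    change (a * b).1 1 0 = 0
    rw [mul_10, ha, hb]; ring
  inv_mem' {a} (ha : a.1 1 0 = 0) := by
    change (a⁻¹).1 1 0 = 0
    rw [Matrix.SpecialLinearGroup.SL2_inv_expl]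
    change -a.1 1 0 = 0
    rw [ha, neg_zero]

theorem mem_B {g : G} : g ∈ B ↔ g.1 1 0 = 0 := Iff.rfl

theorem U_mem (x : ZMod 7) : U x ∈ B := U10 x

theorem U_mem_zpowers (x : ZMod 7) : U x ∈ Subgroup.zpowers (U 1) := by
  refine ⟨(x.val : ℤ), ?_⟩
  change U 1 ^ ((x.val : ℕ) : ℤ) = _
  rw [zpow_natCast, U_pow, ZMod.natCast_val, ZMod.cast_id]

theorem bruhat (g : G) : g ∈ B ∨ ∃ u ∈ Subgroup.zpowers (U 1), ∃ b ∈ B, g = u * ww * b := by
  by_cases h : g.1 1 0 = 0
  · exact Or.inl h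
  right
  refine ⟨U (g.1 0 0 / g.1 1 0), U_mem_zpowers _, ww⁻¹ * (U (g.1 0 0 / g.1 1 0))⁻¹ * g, ?_, by group⟩
  rw [mem_B, U_inv, ww_inv, mul_10, mul_10, mul_11]
  simp only [U00, U01, U10, U11, wi00, wi01, wi10, wi11]
  field_simp
  ring

theorem hpow (i : ℕ) : (hh ^ i).1 0 0 = 3 ^ i ∧ (hh ^ i).1 0 1 = 0 ∧ (hh ^ i).1 1 0 = 0 ∧ (hh ^ i).1 1 1 = 5 ^ i := by
  induction i with
  | zero => exact ⟨rfl, rfl, rfl, rfl⟩
  | succ i ih =>
    obtain ⟨h1, h2, h3, h4⟩ := ih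
    refine ⟨?_, ?_, ?_, ?_⟩ <;>
      simp only [pow_succ, mul_00, mul_01, mul_10, mul_11, h1, h2, h3, h4, hh00, hh01, hh10, hh11] <;> ring

/-- the elements of the Borel subgroup -/
theorem B_form (g : G) (hg : g ∈ B) : ∃ i j : ℕ, g = hh ^ i * U 1 ^ j := by
  rw [mem_B] at hg
  have hdet := det_eq g
  rw [hg, mul_zero, sub_zero] at hdet
  have hgen : ∀ a : ZMod 7, a ≠ 0 → ∃ i : ℕ, i < 6 ∧ a = 3 ^ i := by decide
  have ha0 : g.1 0 0 ≠ 0 := by
    intro h; rw [h, zero_mul] at hdet; exact absurd hdet (by decide)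
  obtain ⟨i, -, hi⟩ := hgen _ ha0
  have h35 : (3 : ZMod 7) ^ i * 5 ^ i = 1 := by
    rw [← mul_pow, show (3 * 5 : ZMod 7) = 1 by decide, one_pow]
  have h30 : (3 : ZMod 7) ^ i ≠ 0 := hi ▸ ha0
  have h11 : g.1 1 1 = 5 ^ i := by
    apply mul_left_cancel₀ h30
    rw [h35, ← hi, hdet]
  obtain ⟨p1, p2, p3, p4⟩ := hpow i
  refine ⟨i, (5 ^ i * g.1 0 1).val, ?_⟩
  rw [U_pow, ZMod.natCast_val, ZMod.cast_id]
  apply ext' <;> simp only [mul_00, mul_01, mul_10, mul_11, U00, U01, U10, U11, p1, p2, p3, p4]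
  · rw [hi]; ring
  · rw [← mul_assoc, h35]; ring
  · rw [hg]; ring
  · rw [h11]; ring

theorem Lo_coset (i j : Fin 6) (hij : i ≠ j) : (Lo (i : ℕ))⁻¹ * Lo (j : ℕ) ∉ B := by
  rw [mem_B, Lo_inv, mul_10]
  simp only [Lo00, Lo01, Lo10, Lo11]
  revert i j
  decide

theorem eq_top_of_U {N : Subgroup G} [N.Normal] (hN : U 1 ∈ N) : N = ⊤ := by
  have hU : ∀ x, U x ∈ N := fun x => by
    have h1 := pow_mem hN x.val
    rwa [U_pow, ZMod.natCast_val, ZMod.cast_id] at h1
  have hLo : ∀ x, Lo x ∈ N := by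
    intro x
    have h1 := (inferInstance : N.Normal).conj_mem _ (hU (-x)) ww
    have h2 : ww * U (-x) * ww⁻¹ = Lo x := by
      rw [mul_inv_eq_iff_eq_mul]
      ent <;> ring
    rwa [h2] at h1
  have key : ∀ g : G, g.1 1 0 ≠ 0 → g ∈ N := by
    intro g hg
    have h1 : g = U ((g.1 0 0 - 1) / g.1 1 0) * Lo (g.1 1 0) * U ((g.1 1 1 - 1) / g.1 1 0) := by
      have hdet := det_eq g
      ent
      · field_simp
        ring
      · field_simp
        linear_combination (-1 : ZMod 7) * hdet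
      · ring
      · field_simp
        ring
    rw [h1]
    exact mul_mem (mul_mem (hU _) (hLo _)) (hU _)
  rw [eq_top_iff]
  intro g _
  by_cases hg : g.1 1 0 = 0
  · have h2 : g * Lo 1 ∈ N := by
      apply key
      rw [mul_10, hg, Lo00, Lo10, mul_one, mul_one, zero_add]
      intro h3
      have hdet := det_eq g
      rw [hg, h3, mul_zero, mul_zero, sub_zero] at hdet
      exact absurd hdet (by decide)
    exact (N.mul_mem_cancel_right (hLo 1)).1 h2
  · exact key g hg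

theorem U_seven : U 1 ^ (7 : ℕ) = 1 := by
  rw [U_pow, ZMod.natCast_self, U_zero]

variable {K : Type*} [Field K] [IsAlgClosed K] {V : Type*} [AddCommGroup V] [Module K V] [FiniteDimensional K V]

theorem not_irr (h7 : (7 : K) ≠ 0) (ρ : G →* Module.End K V) (hirr : Irr ρ) (h5 : finrank K V = 5) : False := by
  have h7' : ((7 : ℕ) : K) ≠ 0 := by exact_mod_cast h7
  have hp7 : Nat.Prime 7 := by norm_num
  obtain ⟨ζ, hζ⟩ := Eig.exists_root (K := K) hp7 h7'
  have hA : ρ (U 1) ^ 7 = 1 := by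
    rw [← map_pow, U_seven, map_one]
  have hA1 : ρ (U 1) ≠ 1 := by
    intro h1
    have h2 : ρ.ker = ⊤ := eq_top_of_U (N := ρ.ker) (MonoidHom.mem_ker.2 h1)
    have hpos : 0 < finrank K V := by omega
    obtain ⟨v, hv⟩ : ∃ v : V, v ≠ 0 := by
      have : Nontrivial V := Module.finrank_pos_iff.1 hpos
      exact exists_ne 0
    rcases hirr (Submodule.span K {v}) (fun g w hw => by
      have hg : ρ g = 1 := MonoidHom.mem_ker.1 (by rw [h2]; trivial)
      rw [hg]; exact hw) with h3 | h3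
    · exact hv (by simpa using h3)
    · have h4 := finrank_span_singleton (K := K) hv
      rw [h3, finrank_top] at h4
      omega
  have hsum := Eig.sum_d hp7 h7' hζ hA
  have hlt := Eig.d_lt (r := 7) (ζ := ζ) hA1
  have hconj : ρ hh * ρ (U 1) * ρ hh⁻¹ = ρ (U 1) ^ 2 := by
    rw [← map_mul, ← map_mul, ← map_pow, hU, mul_inv_cancel_right]
  have hB : ρ hh⁻¹ * ρ hh = 1 := by rw [← map_mul, inv_mul_cancel, map_one]
  have hle := fun j : ZMod 7 => Eig.d_le (A := ρ (U 1)) hp7 hζ hB hconj j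
  have h1 := hle 1; have h2 := hle 2; have h4 := hle 4
  have h3 := hle 3; have h6 := hle 6; have h5' := hle 5
  have e1 : ((2 : ℕ) : ZMod 7) * 1 = 2 := by decide
  have e2 : ((2 : ℕ) : ZMod 7) * 2 = 4 := by decide
  have e4 : ((2 : ℕ) : ZMod 7) * 4 = 1 := by decide
  have e3 : ((2 : ℕ) : ZMod 7) * 3 = 6 := by decide
  have e6 : ((2 : ℕ) : ZMod 7) * 6 = 5 := by decide
  have e5 : ((2 : ℕ) : ZMod 7) * 5 = 3 := by decide
  rw [e1] at h1; rw [e2] at h2; rw [e4] at h4; rw [e3] at h3; rw [e6] at h6; rw [e5] at h5'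
  have hs : Eig.d (ρ (U 1)) ζ (0 : ZMod 7) + Eig.d (ρ (U 1)) ζ (1 : ZMod 7) + Eig.d (ρ (U 1)) ζ (2 : ZMod 7) +
      Eig.d (ρ (U 1)) ζ (3 : ZMod 7) + Eig.d (ρ (U 1)) ζ (4 : ZMod 7) + Eig.d (ρ (U 1)) ζ (5 : ZMod 7) +
      Eig.d (ρ (U 1)) ζ (6 : ZMod 7) = 5 := by
    have h0 := hsum.trans h5
    rw [show (Finset.univ : Finset (ZMod 7)) = {0, 1, 2, 3, 4, 5, 6} by decide] at h0
    rw [Finset.sum_insert (by decide), Finset.sum_insert (by decide), Finset.sum_insert (by decide),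
      Finset.sum_insert (by decide), Finset.sum_insert (by decide), Finset.sum_insert (by decide),
      Finset.sum_singleton] at h0
    omega
  have hd0 : Eig.d (ρ (U 1)) ζ (0 : ZMod 7) = 2 := by omega
  have hfix : finrank K (fix ρ (Subgroup.zpowers (U 1))) = 2 := by
    rw [fix_zpowers]
    refine Eq.trans ?_ hd0
    unfold Eig.d Eig.E
    rw [ZMod.val_zero, pow_zero]
  obtain ⟨φ, hφ, hφU, μ, hμ⟩ := exists_functional ρ (u := U 1) (y := hh) (k := 2) hU (by
    intro h0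
    rw [fix_zpowers, h0, finrank_bot] at hfix
    omega)
  have hφUn : ∀ n : ℕ, ∀ v, φ (ρ (U 1 ^ n) v) = φ v := by
    intro n
    induction n with
    | zero => intro v; rw [pow_zero, map_one]; rfl
    | succ n ih => intro v; rw [pow_succ, ρ_mul_apply, ih, hφU]
  have hφh : ∀ n : ℕ, ∀ v, φ (ρ (hh ^ n) v) = μ ^ n * φ v := by
    intro n
    induction n with
    | zero => intro v; rw [pow_zero, map_one, pow_zero, one_mul]; rfl
    | succ n ih => intro v; rw [pow_succ, ρ_mul_apply, ih, hμ, pow_succ, mul_assoc]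
  have hl : ∀ b : G, ∃ c : K, b ∈ B → ∀ v, φ (ρ b v) = c * φ v := by
    intro b
    by_cases hb : b ∈ B
    · obtain ⟨i, j, rfl⟩ := B_form b hb
      exact ⟨μ ^ i, fun _ v => by rw [ρ_mul_apply, hφh, hφUn]⟩
    · exact ⟨0, fun h => absurd h hb⟩
  choose l hl using hl
  have := card_le_of_double ρ hirr (U := Subgroup.zpowers (U 1)) (B := B) (w := ww)
    (by rw [Subgroup.zpowers_le]; exact U_mem 1) bruhat hφ (by
      rintro u ⟨k, rfl⟩ v
      have h8 : ∃ n : ℕ, U 1 ^ k = U 1 ^ n := by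
        have h9 := U_seven
        refine ⟨(k % 7).toNat, ?_⟩
        rw [← zpow_natCast, Int.toNat_of_nonneg (Int.emod_nonneg k (by norm_num))]
        conv_lhs => rw [← Int.mul_ediv_add_emod k 7]
        rw [_root_.zpow_add, _root_.zpow_mul]
        have h10 : U 1 ^ (7 : ℤ) = 1 := by exact_mod_cast h9
        rw [h10, _root_.one_zpow, one_mul]
      obtain ⟨n, hn⟩ := h8
      change φ (ρ (U 1 ^ k) v) = φ v
      rw [hn, hφUn]) (l := l) (fun b hb v => hl b hb v) (by rw [hfix]) (N := 6)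
    (fun i => Lo (i : ℕ)) Lo_coset
  omega

end SLTwoSeven

end Cfsg.Agent.H911
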