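import Cfsg.Agent.H911.SLTwoGen

/-!
# Real elements of `SL_2(K)` and `L_2(7)` (helper911)
-/

set_option autoImplicit false
set_option linter.unusedSectionVars false

namespace Cfsg.Agent.H911.SLTwo

open Matrix

variable {K : Type*} [Field K]

theorem isConj_inv' {G : Type*} [Group G] {a b : G} (h : IsConj a b) : IsConj a⁻¹ b⁻¹ := by
  obtain ⟨c, hc⟩ := isConj_iff.1 h
  exact isConj_iff.2 ⟨c, by rw [← hc]; group⟩

theorem conj_hhU (s : Kˣ) (x : K) (hs : (s : K) ^ 2 ≠ 1) : ∃ y, U y * (hh s * U x) * (U y)⁻¹ = hh s := by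
  have h0 : ((s⁻¹ : Kˣ) : K) ^ 2 - 1 ≠ 0 := by
    intro h
    apply hs
    have h1 := Units.mul_inv s
    linear_combination (-(s : K) ^ 2) * h + ((s : K) * ((s⁻¹ : Kˣ) : K) + 1) * h1
  refine ⟨-x / (((s⁻¹ : Kˣ) : K) ^ 2 - 1), ?_⟩
  have h2 : ∀ y, U y * hh s = hh s * U (((s⁻¹ : Kˣ) : K) ^ 2 * y) := by
    intro y
    have h3 := hU s (((s⁻¹ : Kˣ) : K) ^ 2 * y)
    have h4 : (s : K) ^ 2 * (((s⁻¹ : Kˣ) : K) ^ 2 * y) = y := by
      rw [← mul_assoc, ← mul_pow, Units.mul_inv, one_pow, one_mul]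
    rw [h4] at h3
    rw [← h3, inv_mul_cancel_right]
  rw [← mul_assoc, h2, U_inv, mul_assoc, mul_assoc, U_mul, U_mul]
  have h5 : ∀ a : K, a = 0 → hh s * U a = hh s := by
    intro a ha
    rw [ha, U_zero, mul_one]
  apply h5
  field_simp
  ring

theorem real_hhU (s : Kˣ) (x : K) (hs : (s : K) ^ 2 ≠ 1) : IsConj (hh s * U x) (hh s * U x)⁻¹ := by
  obtain ⟨y, hy⟩ := conj_hhU s x hs
  have h1 : IsConj (hh s * U x) (hh s) := isConj_iff.2 ⟨_, hy⟩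
  have h2 : IsConj (hh s) (hh s)⁻¹ := isConj_iff.2 ⟨ww, by rw [wh, hh_inv]⟩
  exact (h1.trans h2).trans (isConj_inv' h1.symm)

theorem mk_conj' {A B : SpecialLinearGroup (Fin 2) K} (h : IsConj A B) : IsConj (mk A) (mk B) := by
  obtain ⟨c, hc⟩ := isConj_iff.1 h
  exact isConj_iff.2 ⟨mk c, by rw [← hc]; rfl⟩

theorem tr_hhU (s : Kˣ) (x : K) : tr (hh s * U x) = (s : K) + ((s⁻¹ : Kˣ) : K) := by
  simp only [tr, m00, m11, hh00, hh01, hh10, hh11, U00, U01, U10, U11]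
  ring

theorem real_of_tr (M : SpecialLinearGroup (Fin 2) K) (h2 : tr M ^ 2 ≠ 4) (hxy : ∃ x y : K, -(x ^ 2 - tr M * x * y + y ^ 2) = 1) :
    IsConj M M⁻¹ := by
  obtain ⟨x, y, hxy⟩ := hxy
  by_cases h0 : M.1 1 0 = 0
  · have hdet := det_eq M
    have hz : (M.1 0 0) ^ 2 - tr M * M.1 0 0 + 1 = 0 := by
      rw [tr]
      rw [h0, mul_zero, sub_zero] at hdet
      linear_combination hdet * (-1)
    obtain ⟨c, s, a, hc⟩ := tri M hz
    have htr : tr M = (s : K) + ((s⁻¹ : Kˣ) : K) := by rw [← tr_conj c M, hc, tr_hhU]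
    have hs : (s : K) ^ 2 ≠ 1 := by
      intro h
      apply h2
      have h3 : (s : K) * ((s⁻¹ : Kˣ) : K) = 1 := Units.mul_inv s
      have h4 : ((s⁻¹ : Kˣ) : K) = (s : K) := by
        linear_combination (-((s⁻¹ : Kˣ) : K)) * h + (s : K) * h3
      rw [htr, h4]
      linear_combination 4 * h
    have h5 : IsConj M (hh s * U a) := isConj_iff.2 ⟨c, hc⟩
    exact (h5.trans (real_hhU s a hs)).trans (isConj_inv' h5.symm)
  · obtain ⟨w, hw⟩ := real M hxy h0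
    exact isConj_iff.2 ⟨w, hw⟩

instance fact7' : Fact (Nat.Prime 7) := ⟨by norm_num⟩

theorem dec7 : ∀ t : ZMod 7, t = 2 ∨ t = -2 ∨ (t ^ 2 ≠ 4 ∧ ∃ x y, -(x ^ 2 - t * x * y + y ^ 2) = 1) := by decide

theorem dec7s : ∀ s : (ZMod 7)ˣ, ((s : ZMod 7) + ((s⁻¹ : (ZMod 7)ˣ) : ZMod 7) = 2 → s = 1) ∧
    ((s : ZMod 7) + ((s⁻¹ : (ZMod 7)ˣ) : ZMod 7) = -2 → s = -1) := by decide

theorem hh_neg_one : (hh (-1 : Kˣ) : SpecialLinearGroup (Fin 2) K) = -1 := by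
  apply ext'
  · rfl
  · change (0 : K) = -0
    rw [neg_zero]
  · change (0 : K) = -0
    rw [neg_zero]
  · change (((-1 : Kˣ)⁻¹ : Kˣ) : K) = -1
    rw [inv_neg_one]
    rfl

/-- Elements of order prime to seven of `L_2(7)` are real. -/
theorem real_seven (g : ProjectiveSpecialLinearGroup (Fin 2) (ZMod 7)) (hg : ¬ 7 ∣ orderOf g) : IsConj g g⁻¹ := by
  obtain ⟨M, rfl⟩ := mk_surj g
  have hord : ∀ x : ZMod 7, IsConj (mk M) (mk (U x)) → IsConj (mk M) (mk M)⁻¹ := by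
    intro x hx
    have h1 : orderOf (mk M) ∣ 7 := by
      obtain ⟨c, hc⟩ := isConj_iff.1 hx
      rw [← (MulAut.conj c).orderOf_eq (mk M), MulAut.conj_apply, hc]
      apply orderOf_dvd_of_pow_eq_one
      have h2 : (mk (U x) : ProjectiveSpecialLinearGroup (Fin 2) (ZMod 7)) ^ 7 = mk ((U x) ^ 7) := rfl
      have h5 : ((7 : ℕ) : ZMod 7) = 0 := ZMod.natCast_self 7
      rw [h2, U_pow, h5, zero_mul, U_zero]
      rfl
    rcases (Nat.dvd_prime (by norm_num : Nat.Prime 7)).1 h1 with h2 | h2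
    · rw [orderOf_eq_one_iff] at h2
      rw [h2, inv_one]
    · exact absurd (dvd_of_eq h2.symm) hg
  rcases dec7 (tr M) with h | h | ⟨h4, hxy⟩
  · obtain ⟨c, s, a, hc⟩ := tri M (z := 1) (by rw [h]; decide)
    have htr : tr M = (s : ZMod 7) + ((s⁻¹ : (ZMod 7)ˣ) : ZMod 7) := by rw [← tr_conj c M, hc, tr_hhU]
    have hs := (dec7s s).1 (htr.symm.trans h)
    rw [hs, hh_one, one_mul] at hc
    exact hord a (mk_conj' (isConj_iff.2 ⟨c, hc⟩))
  · obtain ⟨c, s, a, hc⟩ := tri M (z := -1) (by rw [h]; decide)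
    have htr : tr M = (s : ZMod 7) + ((s⁻¹ : (ZMod 7)ˣ) : ZMod 7) := by rw [← tr_conj c M, hc, tr_hhU]
    have hs := (dec7s s).2 (htr.symm.trans h)
    rw [hs, hh_neg_one, neg_one_mul] at hc
    have h1 := mk_conj' (isConj_iff.2 ⟨c, hc⟩ : IsConj M (-U a))
    rw [mk_neg] at h1
    exact hord a h1
  · have h1 := mk_conj' (real_of_tr M h4 hxy)
    exact h1

end Cfsg.Agent.H911.SLTwo
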