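import Cfsg.Agent.H911.L211
import Cfsg.Agent.H911.L27
import Cfsg.Agent.H911.AltReal
import Cfsg.Agent.H911.SLTwoReal
import Cfsg.Agent.H180.AltFiveFinal
import Cfsg.Agent.H180.KM11Cube
import Cfsg.Agent.LargeExtra.WCEndPSU
import Cfsg.Agent.OddHalf.D6.QThree.PumpOrd.Small5
import Cfsg.Prelude.Def_Spor_Mathieu

/-!
# Residual cores in dimension five: the end analysis (helper911)
-/

set_option autoImplicit false
set_option linter.unusedSectionVars false

namespace Cfsg.Agent.H911.End5

open Cfsg Cfsg.Geo Matrix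
open scoped MatrixGroups

variable {F : Type*} [Field F] [Finite F] {H P : Subgroup (GL (Fin 5) F)}

/-- `P` fixes a non-degenerate quadratic form. -/
def Quad (P : Subgroup (GL (Fin 5) F)) : Prop :=
  ∃ Q : (Fin 5 → F) → F, IsNondegenerateQuadraticForm Q ∧ FixesQuadForm (matrixSet P) Q

/-- `P` fixes a unitary form. -/
def Unit (P : Subgroup (GL (Fin 5) F)) : Prop :=
  ∃ (σ : F ≃+* F) (f : (Fin 5 → F) → (Fin 5 → F) → F), IsUnitaryForm σ f ∧ FixesForm (matrixSet P) f

theorem card_le_of_pow (p : ℕ) [hp : Fact p.Prime] {k : ℕ} (hk : k ≠ 0) (h : ∀ x : F, x ^ p ^ k = x) :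
    Nat.card F ≤ p ^ k := by
  classical
  have := Fintype.ofFinite F
  rw [Nat.card_eq_fintype_card]
  have hlt : 1 < p ^ k := Nat.one_lt_pow hk hp.out.one_lt
  have h1 := FiniteField.X_pow_card_sub_X_natDegree_eq F hlt
  have h2 : (Polynomial.X ^ p ^ k - Polynomial.X : Polynomial F) ≠ 0 := by
    intro h0
    rw [h0, Polynomial.natDegree_zero] at h1
    omega
  have h4 : (Finset.univ : Finset F).val ≤ (Polynomial.X ^ p ^ k - Polynomial.X : Polynomial F).roots := by
    rw [Finset.val_le_iff_val_subset]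
    intro x _
    rw [Polynomial.mem_roots h2]
    simp [h x]
  have h5 := Multiset.card_le_card h4
  exact h5.trans ((Polynomial.card_roots' _).trans h1.le)

theorem card_p (p : ℕ) [hp : Fact p.Prime] [CharP F p] (h : ∀ x : F, x ^ p ^ 1 = x) : Nat.card F = p := by
  have := Fintype.ofFinite F
  rw [Nat.card_eq_fintype_card]
  exact Five.card_eq_of_pow p (fun x => by have := h x; rwa [pow_one] at this)

theorem card_p2 (p : ℕ) [hp : Fact p.Prime] [CharP F p] (h : ∀ x : F, x ^ p ^ (2 * 1) = x)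
    (h1 : ¬ ∀ x : F, x ^ p ^ 1 = x) : Nat.card F = p ^ 2 := by
  have := Fintype.ofFinite F
  have h2 := card_le_of_pow p (by norm_num) h
  rw [Nat.card_eq_fintype_card] at h2 ⊢
  obtain ⟨n, hpr, hn⟩ := FiniteField.card F p
  rw [hn] at h2 ⊢
  have h3 : (n : ℕ) ≤ 2 := (Nat.pow_le_pow_iff_right hp.out.one_lt).1 h2
  have h4 : (n : ℕ) ≠ 1 := by
    intro h4
    apply h1
    intro x
    have h5 := FiniteField.pow_card x
    rwa [hn, h4] at h5
  have h5 := n.pos
  have h6 : (n : ℕ) = 2 := by omega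
  rw [h6]

theorem end_lin (hc : IsResidualCore H P) (p : ℕ) [hp : Fact p.Prime] [CharP F p]
    (h : ∀ g : P, (((g : GL (Fin 5) F) : Matrix (Fin 5) (Fin 5) F).trace) ^ p ^ 1 =
      ((g : GL (Fin 5) F) : Matrix (Fin 5) (Fin 5) F).trace) : Nat.card F = p :=
  card_p p (Five.pow_eq_of_trace hc.absIrred hc.no_subfield p 1 h)

theorem end_unit (hc : IsResidualCore H P) (p : ℕ) [hp : Fact p.Prime] [CharP F p]
    (h : ∀ g : P, (((g : GL (Fin 5) F) : Matrix (Fin 5) (Fin 5) F).trace) ^ p ^ 1 =
      ((((g : P)⁻¹ : P) : GL (Fin 5) F) : Matrix (Fin 5) (Fin 5) F).trace) :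
    Quad P ∨ (Nat.card F = p ^ 2 ∧ Unit P) := by
  rcases Five.form_of_trace (by rw [Fintype.card_fin]; decide) (by rw [Fintype.card_fin]; decide) hc.absIrred
    hc.no_subfield p 1 h with h1 | ⟨h1, h2, h3⟩
  · exact Or.inl h1
  · exact Or.inr ⟨card_p2 p h1 h2, h3⟩

theorem end_real (hc : IsResidualCore H P) (p : ℕ) [hp : Fact p.Prime] [CharP F p]
    (h : ∀ g : P, ¬ p ∣ orderOf g → IsConj g g⁻¹) : Quad P := by
  refine OddForm.quad_of_real (by rw [Fintype.card_fin]; decide) (by rw [Fintype.card_fin]; decide) hc.absIrred ?_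
  intro g hg
  have key := Five.trace_reg (P := P) p (RingHom.id F) (fun g => g⁻¹) (fun g k => (inv_pow g k).symm)
    (fun g hg => by
      rw [RingHom.id_apply]
      exact Five.trace_conj (h g hg)) ⟨g, hg⟩
  exact key.symm

theorem conj_of_equiv {T : Type*} [Group T] (f : P ≃* T) {a b : P} (h : IsConj (f a) (f b)) : IsConj a b := by
  have := f.symm.toMonoidHom.map_isConj h
  simpa using this

theorem core_equiv {T : Type*} [Group T] (hc : IsResidualCore H P)
    (e : (P ⧸ (scalars (Fin 5) F).subgroupOf P) ≃* T) (h25 : ¬ 25 ∣ Nat.card T) : Nonempty (P ≃* T) :=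
  ⟨(Five.coreEquiv hc (by rwa [Nat.card_congr e.toEquiv])).trans e⟩

theorem irr_comp {L : Type*} [Group L] {T : Type*} [Group T] {K : Type*} [Field K] {V : Type*} [AddCommGroup V]
    [Module K V] {ρ : T →* Module.End K V} (hρ : Irr ρ) (f : L →* T) (hf : Function.Surjective f) : Irr (ρ.comp f) := by
  intro W hW
  refine hρ W fun g w hw => ?_
  obtain ⟨l, rfl⟩ := hf g
  exact hW l w hw

theorem seven_ne {p : ℕ} [hp : Fact p.Prime] [CharP F p] (h7 : p ≠ 7) : (7 : AlgebraicClosure F) ≠ 0 := by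
  have hCP : CharP (AlgebraicClosure F) p := charP_of_injective_algebraMap (algebraMap F (AlgebraicClosure F)).injective p
  intro h0
  have h1 : ((7 : ℕ) : AlgebraicClosure F) = 0 := by exact_mod_cast h0
  rw [CharP.cast_eq_zero_iff (AlgebraicClosure F) p] at h1
  exact h7 ((Nat.prime_dvd_prime_iff_eq hp.out (by norm_num)).1 h1)

/-- `A_5` and `A_6`. -/
theorem end_alt56 (hc : IsResidualCore H P) (p : ℕ) [hp : Fact p.Prime] [CharP F p] {n : ℕ} (hn : n = 5 ∨ n = 6)
    (e : (P ⧸ (scalars (Fin 5) F).subgroupOf P) ≃* alternatingGroup (Fin n)) : Quad P := by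
  obtain ⟨f⟩ := core_equiv hc e (by
    rcases hn with rfl | rfl
    · rw [nat_card_alternatingGroup, Nat.card_eq_fintype_card, Fintype.card_fin]
      decide
    · rw [nat_card_alternatingGroup, Nat.card_eq_fintype_card, Fintype.card_fin]
      decide)
  refine end_real hc p fun g _ => conj_of_equiv f ?_
  rw [map_inv]
  exact AltReal.alt_real (by omega) _ (by omega)

/-- `A_7`. -/
theorem end_alt7 (hc : IsResidualCore H P) (p : ℕ) [hp : Fact p.Prime] [CharP F p]
    (e : (P ⧸ (scalars (Fin 5) F).subgroupOf P) ≃* alternatingGroup (Fin 7)) : Quad P := by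
  obtain ⟨f⟩ := core_equiv hc e (by
    rw [nat_card_alternatingGroup, Nat.card_eq_fintype_card, Fintype.card_fin]
    decide)
  by_cases h7 : p = 7
  · refine end_real hc p fun g hg => conj_of_equiv f ?_
    rw [map_inv]
    refine AltReal.alt_real (by omega) _ (fun _ ho => hg ?_)
    rw [f.orderOf_eq] at ho
    rw [ho, h7]
  · exfalso
    exact H180.alt_five (n := 7) (Or.inl rfl) (seven_ne h7) (Or.inl rfl) ((Five.rep P).comp f.symm.toMonoidHom)
      (irr_comp (Five.rep_irr hc.absIrred) _ f.symm.surjective) (by rw [Module.finrank_fin_fun])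

/-- `A_8` in characteristic two. -/
theorem end_alt8 (hc : IsResidualCore H P) (p : ℕ) [hp : Fact p.Prime] [CharP F p] (h2 : p = 2)
    (e : (P ⧸ (scalars (Fin 5) F).subgroupOf P) ≃* alternatingGroup (Fin 8)) : False := by
  obtain ⟨f⟩ := core_equiv hc e (by
    rw [nat_card_alternatingGroup, Nat.card_eq_fintype_card, Fintype.card_fin]
    decide)
  subst h2
  have hCP : CharP (AlgebraicClosure F) 2 := charP_of_injective_algebraMap (algebraMap F (AlgebraicClosure F)).injective 2
  exact H180.alt_five (n := 8) (Or.inr rfl) (seven_ne (p := 2) (by norm_num)) (Or.inr (CharTwo.two_eq_zero))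
    ((Five.rep P).comp f.symm.toMonoidHom)
    (irr_comp (Five.rep_irr hc.absIrred) _ f.symm.surjective) (by rw [Module.finrank_fin_fun])

/-- `L_2(7)`. -/
theorem end_l27 (hc : IsResidualCore H P) (p : ℕ) [hp : Fact p.Prime] [CharP F p]
    (e : (P ⧸ (scalars (Fin 5) F).subgroupOf P) ≃* ProjectiveSpecialLinearGroup (Fin 2) (ZMod 7)) : Quad P := by
  obtain ⟨f⟩ := core_equiv hc e (by
    have h := ClassicalGeometry.PSL2Basic.card_PSL2_odd (F := ZMod 7) (by rw [ZMod.card]; decide)
    rw [ZMod.card] at h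
    have : Nat.card (ProjectiveSpecialLinearGroup (Fin 2) (ZMod 7)) = 168 := by omega
    rw [this]
    decide)
  by_cases h7 : p = 7
  · refine end_real hc p fun g hg => conj_of_equiv f ?_
    rw [map_inv]
    refine SLTwo.real_seven _ (fun ho => hg ?_)
    rw [f.orderOf_eq] at ho
    rw [h7]
    exact ho
  · exfalso
    exact SLTwoSeven.not_irr (seven_ne h7)
      ((Five.rep P).comp (f.symm.toMonoidHom.comp (QuotientGroup.mk' _)))
      (irr_comp (Five.rep_irr hc.absIrred) _ (f.symm.surjective.comp (QuotientGroup.mk'_surjective _)))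
      (by rw [Module.finrank_fin_fun])

/-- `L_2(11)`. -/
theorem end_l211 (hc : IsResidualCore H P) (p : ℕ) [hp : Fact p.Prime] [CharP F p]
    (e : (P ⧸ (scalars (Fin 5) F).subgroupOf P) ≃* ProjectiveSpecialLinearGroup (Fin 2) (ZMod 11)) :
    Quad P ∨
    (Nat.card F = p ^ 2 ∧ Unit P ∧ (p % 11 = 2 ∨ p % 11 = 6 ∨ p % 11 = 7 ∨ p % 11 = 8 ∨ p % 11 = 10)) ∨
    (Nat.card F = p ∧ (p % 11 = 1 ∨ p % 11 = 3 ∨ p % 11 = 4 ∨ p % 11 = 5 ∨ p % 11 = 9)) := by
  obtain ⟨h1, h2⟩ := L211.core_traces hc e p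
  by_cases hr : L211.res p
  · exact Or.inr (Or.inr ⟨end_lin hc p (h1 hr), hr⟩)
  · by_cases h0 : p % 11 = 0
    · left
      have h11 : p = 11 := ((Nat.prime_dvd_prime_iff_eq (by norm_num) hp.out).1 (Nat.dvd_of_mod_eq_zero h0)).symm
      obtain ⟨f⟩ := L211.exists_equiv hc e
      refine end_real hc p fun g hg => conj_of_equiv f ?_
      rw [map_inv]
      refine L211.real_eleven _ (fun ho => hg ?_)
      rw [f.orderOf_eq] at ho
      rw [h11]
      exact ho
    · rcases end_unit hc p (h2 hr) with h | ⟨h, h'⟩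
      · exact Or.inl h
      · refine Or.inr (Or.inl ⟨h, h', ?_⟩)
        unfold L211.res at hr
        have := Nat.mod_lt p (show 0 < 11 by norm_num)
        omega

/-- `M_11` in characteristic three. -/
theorem end_m11 (hc : IsResidualCore H P) (p : ℕ) [hp : Fact p.Prime] [CharP F p] (h3 : p = 3)
    (e : Cfsg.Spor.IsoM11 (P ⧸ (scalars (Fin 5) F).subgroupOf P)) : Nat.card F = p := by
  obtain ⟨f⟩ := core_equiv hc (MulEquiv.refl _) (by
    rw [OddHalf.D6.QThree.PumpOrd.m11 e]
    decide)
  apply end_lin hc p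
  intro g
  have hfr : ∀ g : P, (((g : GL (Fin 5) F) : Matrix (Fin 5) (Fin 5) F).trace) ^ p ^ 1 =
      (((g ^ p : P) : GL (Fin 5) F) : Matrix (Fin 5) (Fin 5) F).trace := by
    intro g
    have := Five.trace_frob p g 1
    rw [← this, pow_one]
  have key := Five.trace_reg (P := P) p (iterateFrobenius F p 1) id (fun g k => rfl) (fun g hg => by
    rw [iterateFrobenius_def, hfr, id]
    apply Five.trace_conj
    apply conj_of_equiv f
    rw [map_pow, h3]
    refine (H180.KM11.m11_conj_cube e _ ?_).symm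
    rw [f.orderOf_eq, ← h3]
    exact hg) g
  rw [iterateFrobenius_def] at key
  exact key

/-- `U_4(2)` in characteristic at least five. -/
theorem end_u42 (hc : IsResidualCore H P) (p : ℕ) [hp : Fact p.Prime] [CharP F p] (h2 : p ≠ 2) (h3 : p ≠ 3)
    {K : Type} [Field K] [Fintype K] (hK : Fintype.card K = 4)
    (hconj : ∀ (g : Cfsg.PSU 4 K 2) (k : ℕ), k % 3 = 1 → Nat.Coprime k (orderOf g) → IsConj g (g ^ k))
    (e : (P ⧸ (scalars (Fin 5) F).subgroupOf P) ≃* Cfsg.PSU 4 K 2) :
    Quad P ∨ (Nat.card F = p ^ 2 ∧ Unit P ∧ p % 6 = 5) ∨ (Nat.card F = p ∧ p % 6 = 1) := by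
  have hcard : Nat.card (Cfsg.PSU 4 K 2) = 25920 := LargeExtra.WCEnd.card_psu_four hK
  obtain ⟨f⟩ := core_equiv hc e (by
    rw [hcard]
    decide)
  have hfr : ∀ g : P, (((g : GL (Fin 5) F) : Matrix (Fin 5) (Fin 5) F).trace) ^ p ^ 1 =
      (((g ^ p : P) : GL (Fin 5) F) : Matrix (Fin 5) (Fin 5) F).trace := by
    intro g
    have := Five.trace_frob p g 1
    rw [← this, pow_one]
  have hodd : p % 2 = 1 := by
    rcases hp.out.eq_two_or_odd with h | h
    · exact absurd h h2
    · exact h
  have hp3 : p % 3 ≠ 0 := by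
    intro h
    exact h3 ((Nat.prime_dvd_prime_iff_eq Nat.prime_three hp.out).1 (Nat.dvd_of_mod_eq_zero h)).symm
  have hcop : ∀ g : P, ¬ p ∣ orderOf g → Nat.Coprime p (orderOf (f g)) := by
    intro g hg
    rw [f.orderOf_eq]
    exact (Nat.Prime.coprime_iff_not_dvd hp.out).2 hg
  by_cases h1 : p % 3 = 1
  · right; right
    refine ⟨end_lin hc p fun g => ?_, by omega⟩
    have key := Five.trace_reg (P := P) p (iterateFrobenius F p 1) id (fun g k => rfl) (fun g hg => by
      rw [iterateFrobenius_def, hfr, id]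
      apply Five.trace_conj
      apply conj_of_equiv f
      rw [map_pow]
      exact (hconj (f g) p h1 (hcop g hg)).symm) g
    rw [iterateFrobenius_def] at key
    exact key
  · have hp2 : p % 3 = 2 := by omega
    rcases end_unit hc p (fun g => by
      have key := Five.trace_reg (P := P) p (iterateFrobenius F p 1) (fun g => g⁻¹) (fun g k => (inv_pow g k).symm)
        (fun g hg => by
        rw [iterateFrobenius_def, hfr]
        apply Five.trace_conj
        apply conj_of_equiv f
        rw [map_pow, map_inv]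
        have hpos : 1 ≤ p := hp.out.one_le
        have h25 : f g ^ 25920 = 1 := by rw [← hcard]; exact pow_card_eq_one'
        have h4 := hconj (f g) (p * 25919) (by omega) (by
          refine Nat.Coprime.mul_left (hcop g hg) ?_
          have h5 : orderOf (f g) ∣ 25920 := orderOf_dvd_of_pow_eq_one h25
          exact (Nat.Coprime.coprime_dvd_right h5 (by norm_num)))
        have h6 : f g ^ (p * 25919) = (f g ^ p)⁻¹ := by
          rw [eq_inv_iff_mul_eq_one, ← pow_add]
          have : p * 25919 + p = 25920 * p := by ring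
          rw [this, pow_mul, h25, one_pow]
        rw [h6] at h4
        have h7 := L211.isConj_inv' h4
        rw [inv_inv] at h7
        exact h7.symm) g
      rw [iterateFrobenius_def] at key
      exact key) with h | ⟨h, h'⟩
    · exact Or.inl h
    · exact Or.inr (Or.inl ⟨h, h', by omega⟩)

end Cfsg.Agent.H911.End5
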