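import Cfsg.Agent.H911.End5
import Cfsg.Agent.H180.U42Conj
import Cfsg.Agent.H912.FiveList

/-!
# Dimension five: the conclusion for the small groups (helper911)
-/

set_option autoImplicit false
set_option linter.unusedSectionVars false

namespace Cfsg.Agent.H911.End5

open Cfsg Cfsg.Geo Matrix
open scoped MatrixGroups

variable {F : Type*} [Field F] [Finite F] {H P : Subgroup (GL (Fin 5) F)}

/-- The common conclusion: quadratic form; or the unitary rows; or the linear rows. -/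
def Concl (p : ℕ) (P : Subgroup (GL (Fin 5) F)) : Prop :=
  Quad P ∨
  (Nat.card F = p ^ 2 ∧ Unit P ∧
    ((Nonempty ((P ⧸ (scalars (Fin 5) F).subgroupOf P) ≃* ProjectiveSpecialLinearGroup (Fin 2) (ZMod 11)) ∧
      (p % 11 = 2 ∨ p % 11 = 6 ∨ p % 11 = 7 ∨ p % 11 = 8 ∨ p % 11 = 10)) ∨
     (H912.Five.IsU42 (P ⧸ (scalars (Fin 5) F).subgroupOf P) ∧ p % 6 = 5))) ∨
  (Nat.card F = p ∧
    ((Nonempty ((P ⧸ (scalars (Fin 5) F).subgroupOf P) ≃* ProjectiveSpecialLinearGroup (Fin 2) (ZMod 11)) ∧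
      (p % 11 = 1 ∨ p % 11 = 3 ∨ p % 11 = 4 ∨ p % 11 = 5 ∨ p % 11 = 9)) ∨
     (Cfsg.Spor.IsoM11 (P ⧸ (scalars (Fin 5) F).subgroupOf P) ∧ p = 3) ∨
     (H912.Five.IsU42 (P ⧸ (scalars (Fin 5) F).subgroupOf P) ∧ p % 6 = 1)))

theorem concl_small (hc : IsResidualCore H P) (p : ℕ) [hp : Fact p.Prime] [CharP F p]
    (h : H912.Five.Small5 p (P ⧸ (scalars (Fin 5) F).subgroupOf P)) : Concl p P := by
  rcases h with ⟨⟨e⟩⟩ | ⟨⟨e⟩⟩ | ⟨⟨e⟩⟩ | ⟨h2, ⟨e⟩⟩ | ⟨-, ⟨e⟩⟩ | ⟨-, ⟨e⟩⟩ | ⟨h2, h3, K, i1, i2, hK, ⟨e⟩⟩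
  · exact Or.inl (end_alt56 hc p (Or.inl rfl) e)
  · exact Or.inl (end_alt56 hc p (Or.inr rfl) e)
  · exact Or.inl (end_alt7 hc p e)
  · exact (end_alt8 hc p h2 e).elim
  · exact Or.inl (end_l27 hc p e)
  · rcases end_l211 hc p e with h | ⟨h1, h2, h3⟩ | ⟨h1, h2⟩
    · exact Or.inl h
    · exact Or.inr (Or.inl ⟨h1, h2, Or.inl ⟨⟨e⟩, h3⟩⟩)
    · exact Or.inr (Or.inr ⟨h1, Or.inl ⟨⟨e⟩, h2⟩⟩)
  · rcases end_u42 hc p h2 h3 hK (H180.u42_conj_pow hK) e with h | ⟨h1, h4, h5⟩ | ⟨h1, h4⟩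
    · exact Or.inl h
    · exact Or.inr (Or.inl ⟨h1, h4, Or.inr ⟨⟨K, i1, i2, hK, ⟨e⟩⟩, h5⟩⟩)
    · exact Or.inr (Or.inr ⟨h1, Or.inr (Or.inr ⟨⟨K, i1, i2, hK, ⟨e⟩⟩, h4⟩)⟩)

theorem concl_m11 (hc : IsResidualCore H P) (p : ℕ) [hp : Fact p.Prime] [CharP F p] (h3 : p = 3)
    (e : Cfsg.Spor.IsoM11 (P ⧸ (scalars (Fin 5) F).subgroupOf P)) : Concl p P :=
  Or.inr (Or.inr ⟨end_m11 hc p h3 e, Or.inr (Or.inl ⟨e, h3⟩)⟩)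

end Cfsg.Agent.H911.End5
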