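import Cfsg.Agent.H911.SLTwoGen
import Cfsg.Agent.H911.Base5
import Cfsg.Agent.ClassicalGeometry.PSL2Basic

/-!
# `L_2(11)` in dimension five (helper911)
-/

set_option autoImplicit false
set_option linter.unusedSectionVars false
set_option maxRecDepth 100000

namespace Cfsg.Agent.H911.L211

open Matrix Cfsg.Agent.H911.SLTwo

instance fact11 : Fact (Nat.Prime 11) := ⟨by norm_num⟩

abbrev T := ProjectiveSpecialLinearGroup (Fin 2) (ZMod 11)

theorem dec1 : ∀ t : ZMod 11, (∃ z, z ^ 2 - t * z + 1 = 0) ∨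
    (t * (t ^ 2 - 1) * (t ^ 2 - 3) = 0 ∧ (∀ z, z ^ 2 - t * z + 1 ≠ 0) ∧ ∃ x y, -(x ^ 2 - t * x * y + y ^ 2) = 1) := by
  decide

theorem isConj_inv' {G : Type*} [Group G] {a b : G} (h : IsConj a b) : IsConj a⁻¹ b⁻¹ := by
  obtain ⟨c, hc⟩ := isConj_iff.1 h
  exact isConj_iff.2 ⟨c, by rw [← hc]; group⟩

theorem conj_hhU (s : (ZMod 11)ˣ) (x : ZMod 11) (hs : (s : ZMod 11) ^ 2 ≠ 1) :
    ∃ y, U y * (hh s * U x) * (U y)⁻¹ = hh s := by
  -- `U y (h U x) U (-y) = h U (s^{-2} y + x - y)`
  have h0 : ((s⁻¹ : (ZMod 11)ˣ) : ZMod 11) ^ 2 - 1 ≠ 0 := by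
    intro h
    apply hs
    have h1 := Units.mul_inv s
    linear_combination (-(s : ZMod 11) ^ 2) * h + ((s : ZMod 11) * ((s⁻¹ : (ZMod 11)ˣ) : ZMod 11) + 1) * h1
  refine ⟨-x / (((s⁻¹ : (ZMod 11)ˣ) : ZMod 11) ^ 2 - 1), ?_⟩
  have h2 : ∀ y, U y * hh s = hh s * U (((s⁻¹ : (ZMod 11)ˣ) : ZMod 11) ^ 2 * y) := by
    intro y
    have h3 := hU s (((s⁻¹ : (ZMod 11)ˣ) : ZMod 11) ^ 2 * y)
    have h4 : (s : ZMod 11) ^ 2 * (((s⁻¹ : (ZMod 11)ˣ) : ZMod 11) ^ 2 * y) = y := by
      rw [← mul_assoc, ← mul_pow, Units.mul_inv, one_pow, one_mul]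
    rw [h4] at h3
    rw [← h3, inv_mul_cancel_right]
  rw [← mul_assoc, h2, U_inv, mul_assoc, mul_assoc, U_mul, U_mul]
  have h5 : ∀ a : ZMod 11, a = 0 → hh s * U a = hh s := by
    intro a ha
    rw [ha, U_zero, mul_one]
  apply h5
  field_simp
  ring

theorem real_hhU (s : (ZMod 11)ˣ) (x : ZMod 11) (hs : (s : ZMod 11) ^ 2 ≠ 1) : IsConj (hh s * U x) (hh s * U x)⁻¹ := by
  obtain ⟨y, hy⟩ := conj_hhU s x hs
  have h1 : IsConj (hh s * U x) (hh s) := isConj_iff.2 ⟨_, hy⟩
  have h2 : IsConj (hh s) (hh s)⁻¹ := isConj_iff.2 ⟨ww, by rw [wh, hh_inv]⟩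
  have h3 : IsConj (hh s)⁻¹ (hh s * U x)⁻¹ := isConj_inv' h1.symm
  exact (h1.trans h2).trans h3

theorem mk_conj {A B : SpecialLinearGroup (Fin 2) (ZMod 11)} (h : IsConj A B) : IsConj (mk A : T) (mk B) := by
  obtain ⟨c, hc⟩ := isConj_iff.1 h
  exact isConj_iff.2 ⟨mk c, by rw [← hc]; rfl⟩

/-- The three kinds of elements of `L_2(11)`. -/
theorem cls (g : T) : (∃ (c : T) (x : ZMod 11), c * g * c⁻¹ = mk (U x)) ∨
    (∃ (c : T) (s : (ZMod 11)ˣ) (x : ZMod 11), (s : ZMod 11) ^ 2 ≠ 1 ∧ c * g * c⁻¹ = mk (hh s * U x)) ∨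
    (g ^ 6 = 1 ∧ IsConj g g⁻¹) := by
  obtain ⟨M, rfl⟩ := mk_surj g
  rcases dec1 (tr M) with ⟨z, hz⟩ | ⟨h1, h2, x, y, hxy⟩
  · obtain ⟨c, s, x, hc⟩ := tri M hz
    have hc' : mk c * mk M * (mk c)⁻¹ = (mk (hh s * U x) : T) := by rw [← hc]; rfl
    by_cases hs : (s : ZMod 11) ^ 2 = 1
    · left
      have h1 : ((s : ZMod 11) - 1) * ((s : ZMod 11) + 1) = 0 := by linear_combination hs
      rcases mul_eq_zero.1 h1 with h1 | h1
      · refine ⟨mk c, x, ?_⟩
        have h3 : s = 1 := Units.ext (by rw [Units.val_one]; linear_combination h1)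
        rw [hc', h3, hh_one, one_mul]
      · refine ⟨mk c, x, ?_⟩
        have h3 : s = -1 := Units.ext (by rw [Units.val_neg, Units.val_one]; linear_combination h1)
        have h4 : (hh s : SpecialLinearGroup (Fin 2) (ZMod 11)) = -1 := by
          rw [h3]
          apply ext'
          · rfl
          · change (0 : ZMod 11) = -0
            rw [neg_zero]
          · change (0 : ZMod 11) = -0
            rw [neg_zero]
          · change (((-1 : (ZMod 11)ˣ)⁻¹ : (ZMod 11)ˣ) : ZMod 11) = -1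
            rw [inv_neg_one]
            rfl
        rw [hc', h4, neg_one_mul, mk_neg]
    · exact Or.inr (Or.inl ⟨mk c, s, x, hs, hc'⟩)
  · right; right
    constructor
    · have h6 : (mk M : T) ^ 6 = mk (M ^ 6) := rfl
      rw [h6]
      rcases pow_six M h1 with h | h
      · rw [h]; rfl
      · rw [h, mk_neg_one]
    · have h10 : M.1 1 0 ≠ 0 := by
        intro h0
        have hdet := det_eq M
        apply h2 (M.1 0 0)
        rw [tr]
        rw [h0, mul_zero, sub_zero] at hdet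
        linear_combination hdet * (-1)
      obtain ⟨w, hw⟩ := real M hxy h10
      have := mk_conj (isConj_iff.2 ⟨w, hw⟩)
      exact this

theorem dec_sq : ∀ a : ZMod 11, (a = 1 ∨ a = 3 ∨ a = 4 ∨ a = 5 ∨ a = 9) → ∃ s : ZMod 11, s ≠ 0 ∧ s ^ 2 = a := by decide

theorem conj_U {a x : ZMod 11} (h : a = 1 ∨ a = 3 ∨ a = 4 ∨ a = 5 ∨ a = 9) : IsConj (mk (U x) : T) (mk (U (a * x))) := by
  obtain ⟨s, hs, hsa⟩ := dec_sq a h
  apply mk_conj
  exact isConj_iff.2 ⟨hh (Units.mk0 s hs), by rw [hU, Units.val_mk0, hsa]⟩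

theorem mk_U_pow (x : ZMod 11) (n : ℕ) : (mk (U x) : T) ^ n = mk (U (n * x)) := by
  have : (mk (U x) : T) ^ n = mk ((U x) ^ n) := rfl
  rw [this, U_pow]

theorem mk_U_inv (x : ZMod 11) : (mk (U x) : T)⁻¹ = mk (U (-x)) := by
  have : (mk (U x) : T)⁻¹ = mk ((U x)⁻¹) := rfl
  rw [this, U_inv]

theorem mk_mul (A B : SpecialLinearGroup (Fin 2) (ZMod 11)) : (mk (A * B) : T) = mk A * mk B := rfl
theorem mk_inv (A : SpecialLinearGroup (Fin 2) (ZMod 11)) : (mk A⁻¹ : T) = (mk A)⁻¹ := rfl

/-- the element of order five -/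
def two : (ZMod 11)ˣ := Units.mk0 2 (by decide)

theorem conj_four : (mk (hh two) : T) * mk (U 1) * (mk (hh two))⁻¹ = mk (U 1) ^ 4 := by
  rw [mk_U_pow, ← mk_inv, ← mk_mul, ← mk_mul, hU]
  congr 1

theorem U_ne_one' : (mk (U 1) : T) ≠ 1 := by
  intro h
  rw [QuotientGroup.eq_one_iff, Subgroup.mem_center_iff] at h
  have h1 := h (Lo 1)
  have h2 := congrArg (fun A : SpecialLinearGroup (Fin 2) (ZMod 11) => A.1 0 0) h1
  simp only [m00, U00, U01, U10, Lo00, Lo01, Lo10] at h2
  exact absurd h2 (by decide)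

/-- elements of order prime to eleven are real -/
theorem real_eleven (g : T) (hg : ¬ 11 ∣ orderOf g) : IsConj g g⁻¹ := by
  rcases cls g with ⟨c, x, hx⟩ | ⟨c, s, x, hs, hx⟩ | ⟨-, h⟩
  · have hx0 : x = 0 := by
      by_contra hx0
      apply hg
      have h3 : orderOf (mk (U x) : T) = orderOf g := by
        rw [← hx]
        exact (MulAut.conj c).orderOf_eq g
      have h4 : orderOf (mk (U x) : T) ∣ 11 := by
        apply orderOf_dvd_of_pow_eq_one
        rw [mk_U_pow]
        have h5 : ((11 : ℕ) : ZMod 11) = 0 := ZMod.natCast_self 11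
        rw [h5, zero_mul, U_zero]
        rfl
      rcases (Nat.dvd_prime (by norm_num : Nat.Prime 11)).1 h4 with h5 | h5
      · exfalso
        rw [orderOf_eq_one_iff] at h5
        have h6 : (mk (U 1) : T) = 1 := by
          have h7 : (mk (U x) : T) ^ (x⁻¹).val = 1 := by rw [h5, one_pow]
          rw [mk_U_pow, ZMod.natCast_val, ZMod.cast_id, inv_mul_cancel₀ hx0] at h7
          exact h7
        exact U_ne_one' h6
      · rw [← h3, h5]
    rw [hx0, U_zero] at hx
    have h1 : g = 1 := by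
      have h2 : c * g * c⁻¹ = 1 := hx
      calc g = c⁻¹ * (c * g * c⁻¹) * c := by group
        _ = 1 := by rw [h2, mul_one, inv_mul_cancel]
    rw [h1, inv_one]
  · have h1 : IsConj g (mk (hh s * U x)) := isConj_iff.2 ⟨c, hx⟩
    have h2 := mk_conj (real_hhU s x hs)
    exact (h1.trans h2).trans (isConj_inv' h1.symm)
  · exact h

/-! ### representations -/

section rep

open Module

variable {κ : Type*} [Field κ] {V : Type*} [AddCommGroup V] [Module κ V] [FiniteDimensional κ V]

theorem U_ne_one : (mk (U 1) : T) ≠ 1 := by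
  intro h
  rw [QuotientGroup.eq_one_iff, Subgroup.mem_center_iff] at h
  have h1 := h (Lo 1)
  have h2 := congrArg (fun A : SpecialLinearGroup (Fin 2) (ZMod 11) => A.1 0 0) h1
  simp only [m00, U00, U01, U10, Lo00, Lo01, Lo10] at h2
  exact absurd h2 (by decide)

variable [IsAlgClosed κ] (ρ : T →* Module.End κ V)

theorem fix_bot (hρ : Function.Injective ρ) (h11 : (11 : κ) ≠ 0) (h5 : finrank κ V = 5) (v : V) (hv : ρ (mk (U 1)) v = v) :
    v = 0 := by
  have h11' : ((11 : ℕ) : κ) ≠ 0 := by exact_mod_cast h11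
  have hp : Nat.Prime 11 := by norm_num
  obtain ⟨ζ, hζ⟩ := Eig.exists_root (K := κ) hp h11'
  have hu11 : (mk (U 1) : T) ^ 11 = 1 := by
    rw [mk_U_pow, mul_one]
    have : ((11 : ℕ) : ZMod 11) = 0 := ZMod.natCast_self 11
    rw [this, U_zero]
    rfl
  have hA : ρ (mk (U 1)) ^ 11 = 1 := by rw [← map_pow, hu11, map_one]
  have hA1 : ρ (mk (U 1)) ≠ 1 := by
    intro h
    rw [← map_one ρ] at h
    exact U_ne_one (hρ h)
  have hsum := Eig.sum_d hp h11' hζ hA
  have hlt := Eig.d_lt (r := 11) (ζ := ζ) hA1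
  have hconj : ρ (mk (hh two)) * ρ (mk (U 1)) * ρ (mk (hh two))⁻¹ = ρ (mk (U 1)) ^ 4 := by
    rw [← map_mul, ← map_mul, ← map_pow, conj_four]
  have hB : ρ (mk (hh two))⁻¹ * ρ (mk (hh two)) = 1 := by
    rw [← map_mul, inv_mul_cancel, map_one]
  have hle := fun j : ZMod 11 => Eig.d_le (A := ρ (mk (U 1))) hp hζ hB hconj j
  have a1 := hle 1; have a4 := hle 4; have a5 := hle 5; have a9 := hle 9; have a3 := hle 3
  have a2 := hle 2; have a8 := hle 8; have a10 := hle 10; have a7 := hle 7; have a6 := hle 6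
  have e1 : ((4 : ℕ) : ZMod 11) * 1 = 4 := by decide
  have e4 : ((4 : ℕ) : ZMod 11) * 4 = 5 := by decide
  have e5 : ((4 : ℕ) : ZMod 11) * 5 = 9 := by decide
  have e9 : ((4 : ℕ) : ZMod 11) * 9 = 3 := by decide
  have e3 : ((4 : ℕ) : ZMod 11) * 3 = 1 := by decide
  have e2 : ((4 : ℕ) : ZMod 11) * 2 = 8 := by decide
  have e8 : ((4 : ℕ) : ZMod 11) * 8 = 10 := by decide
  have e10 : ((4 : ℕ) : ZMod 11) * 10 = 7 := by decide
  have e7 : ((4 : ℕ) : ZMod 11) * 7 = 6 := by decide
  have e6 : ((4 : ℕ) : ZMod 11) * 6 = 2 := by decide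
  rw [e1] at a1; rw [e4] at a4; rw [e5] at a5; rw [e9] at a9; rw [e3] at a3
  rw [e2] at a2; rw [e8] at a8; rw [e10] at a10; rw [e7] at a7; rw [e6] at a6
  have hs : Eig.d (ρ (mk (U 1))) ζ (0 : ZMod 11) + (Eig.d (ρ (mk (U 1))) ζ (1 : ZMod 11) + (Eig.d (ρ (mk (U 1))) ζ (2 : ZMod 11) +
      (Eig.d (ρ (mk (U 1))) ζ (3 : ZMod 11) + (Eig.d (ρ (mk (U 1))) ζ (4 : ZMod 11) + (Eig.d (ρ (mk (U 1))) ζ (5 : ZMod 11) +
      (Eig.d (ρ (mk (U 1))) ζ (6 : ZMod 11) + (Eig.d (ρ (mk (U 1))) ζ (7 : ZMod 11) + (Eig.d (ρ (mk (U 1))) ζ (8 : ZMod 11) +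
      (Eig.d (ρ (mk (U 1))) ζ (9 : ZMod 11) + Eig.d (ρ (mk (U 1))) ζ (10 : ZMod 11)))))))))) = 5 := by
    have h0 := hsum.trans h5
    rw [show (Finset.univ : Finset (ZMod 11)) = {0, 1, 2, 3, 4, 5, 6, 7, 8, 9, 10} by decide] at h0
    rw [Finset.sum_insert (by decide), Finset.sum_insert (by decide), Finset.sum_insert (by decide),
      Finset.sum_insert (by decide), Finset.sum_insert (by decide), Finset.sum_insert (by decide),
      Finset.sum_insert (by decide), Finset.sum_insert (by decide), Finset.sum_insert (by decide),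
      Finset.sum_insert (by decide), Finset.sum_singleton] at h0
    exact h0
  have hd0 : Eig.d (ρ (mk (U 1))) ζ (0 : ZMod 11) = 0 := by omega
  have hbot : Eig.E (ρ (mk (U 1))) ζ (0 : ZMod 11) = ⊥ := Submodule.finrank_eq_zero.1 hd0
  have hmem : v ∈ Eig.E (ρ (mk (U 1))) ζ (0 : ZMod 11) := by
    rw [Eig.mem_E, ZMod.val_zero, pow_zero, one_smul, hv]
  rw [hbot] at hmem
  simpa using hmem

theorem trace_conj {a b : T} (h : IsConj a b) : LinearMap.trace κ V (ρ a) = LinearMap.trace κ V (ρ b) := by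
  obtain ⟨c, hc⟩ := isConj_iff.1 h
  rw [← hc, map_mul ρ, map_mul ρ, LinearMap.trace_mul_comm, ← mul_assoc, ← map_mul ρ, inv_mul_cancel, map_one ρ,
    one_mul]

theorem sum_zero (hρ : Function.Injective ρ) (h11 : (11 : κ) ≠ 0) (h5 : finrank κ V = 5) :
    ∑ x : ZMod 11, ρ (mk (U x)) = 0 := by
  set S := ∑ x : ZMod 11, ρ (mk (U x)) with hS
  have h1 : ρ (mk (U 1)) * S = S := by
    rw [hS, Finset.mul_sum]
    have h2 : ∀ x : ZMod 11, ρ (mk (U 1)) * ρ (mk (U x)) = ρ (mk (U (1 + x))) := by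
      intro x
      rw [← map_mul, ← mk_mul, U_mul]
    rw [Finset.sum_congr rfl fun x _ => h2 x]
    exact Equiv.sum_comp (Equiv.addLeft (1 : ZMod 11)) (fun x => ρ (mk (U x)))
  ext v
  refine fix_bot ρ hρ h11 h5 _ ?_
  rw [← Module.End.mul_apply, h1]

theorem trace_zero (hρ : Function.Injective ρ) (h11 : (11 : κ) ≠ 0) (h5 : finrank κ V = 5) (s : (ZMod 11)ˣ) (x : ZMod 11)
    (hs : (s : ZMod 11) ^ 2 ≠ 1) : LinearMap.trace κ V (ρ (mk (hh s * U x))) = 0 := by
  have h1 : ∀ y, LinearMap.trace κ V (ρ (mk (hh s * U y))) = LinearMap.trace κ V (ρ (mk (hh s))) := by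
    intro y
    obtain ⟨z, hz⟩ := conj_hhU s y hs
    exact trace_conj ρ (mk_conj (isConj_iff.2 ⟨_, hz⟩))
  have h2 : ∑ y : ZMod 11, LinearMap.trace κ V (ρ (mk (hh s * U y))) = 0 := by
    have h3 : ∀ y : ZMod 11, ρ (mk (hh s * U y)) = ρ (mk (hh s)) * ρ (mk (U y)) := by
      intro y
      rw [mk_mul, map_mul]
    rw [Finset.sum_congr rfl fun y _ => by rw [h3 y], ← map_sum, ← Finset.mul_sum, sum_zero ρ hρ h11 h5, mul_zero,
      map_zero]
  rw [Finset.sum_congr rfl fun y _ => h1 y, Finset.sum_const, Finset.card_univ, ZMod.card, nsmul_eq_mul] at h2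
  rw [h1]
  refine (mul_eq_zero.1 h2).resolve_left ?_
  exact_mod_cast h11

end rep

section core

open Cfsg Cfsg.Geo
open scoped MatrixGroups

variable {F : Type*} [Field F] [Finite F] {H P : Subgroup (GL (Fin 5) F)}

theorem card_T : Nat.card T = 660 := by
  have h := ClassicalGeometry.PSL2Basic.card_PSL2_odd (F := ZMod 11) (by rw [ZMod.card]; decide)
  rw [ZMod.card] at h
  have : Nat.card T * 2 = 1320 := h
  omega

/-- the isomorphism of the core with `L_2(11)` -/
theorem exists_equiv (hc : IsResidualCore H P) (e : (P ⧸ (scalars (Fin 5) F).subgroupOf P) ≃* T) : Nonempty (P ≃* T) := by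
  refine ⟨(Five.coreEquiv hc ?_).trans e⟩
  rw [Nat.card_congr e.toEquiv, card_T]
  decide

/-- `p` is a square modulo eleven -/
def res (p : ℕ) : Prop := p % 11 = 1 ∨ p % 11 = 3 ∨ p % 11 = 4 ∨ p % 11 = 5 ∨ p % 11 = 9

theorem cast_res {p : ℕ} (h : res p) : ((p : ZMod 11) = 1 ∨ (p : ZMod 11) = 3 ∨ (p : ZMod 11) = 4 ∨ (p : ZMod 11) = 5 ∨
    (p : ZMod 11) = 9) := by
  have h1 : ((p % 11 : ℕ) : ZMod 11) = (p : ZMod 11) := ZMod.natCast_mod p 11
  rw [← h1]
  rcases h with h | h | h | h | h <;> rw [h] <;> decide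

theorem cast_nres {p : ℕ} (h : ¬ res p) (h0 : p % 11 ≠ 0) : ∃ a : ZMod 11, (a = 1 ∨ a = 3 ∨ a = 4 ∨ a = 5 ∨ a = 9) ∧
    a * (p : ZMod 11) = -1 := by
  have h1 : ((p % 11 : ℕ) : ZMod 11) = (p : ZMod 11) := ZMod.natCast_mod p 11
  rw [← h1]
  unfold res at h
  push Not at h
  have hlt : p % 11 < 11 := Nat.mod_lt _ (by norm_num)
  generalize p % 11 = m at *
  interval_cases m
  · exact absurd rfl h0
  · exact absurd rfl h.1
  · decide
  · exact absurd rfl h.2.1
  · exact absurd rfl h.2.2.1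
  · exact absurd rfl h.2.2.2.1
  · decide
  · decide
  · decide
  · exact absurd rfl h.2.2.2.2
  · decide

theorem pow_pm_one {G : Type*} [Group G] {g : G} (h6 : g ^ 6 = 1) {p : ℕ} (hc : ¬ 2 ∣ p ∨ ¬ 2 ∣ orderOf g)
    (hc3 : ¬ 3 ∣ p ∨ ¬ 3 ∣ orderOf g) : g ^ p = g ∨ g ^ p = g⁻¹ := by
  have hn : orderOf g ∣ 6 := orderOf_dvd_of_pow_eq_one h6
  have hle : orderOf g ≤ 6 := Nat.le_of_dvd (by norm_num) hn
  have key : ∀ k : ℕ, g ^ p = g ^ (p % orderOf g) := fun _ => (pow_mod_orderOf g p).symm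
  have h1 : g ^ p = g ^ (p % orderOf g) := key 0
  have h2 : g⁻¹ = g ^ (orderOf g - 1) := by
    have h3 := pow_orderOf_eq_one g
    have h4 : 0 < orderOf g := Nat.pos_of_dvd_of_pos hn (by norm_num)
    rw [inv_eq_iff_mul_eq_one, ← pow_succ', Nat.sub_add_cancel h4, h3]
  have h5 : g ^ (orderOf g) = 1 := pow_orderOf_eq_one g
  rw [h1, h2]
  generalize orderOf g = n at *
  interval_cases n
  · omega
  · left; rw [Nat.mod_one, pow_zero]; rw [pow_one] at h5; exact h5.symm
  · left
    have : p % 2 = 1 := by omega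
    rw [this, pow_one]
  · have : p % 3 = 1 ∨ p % 3 = 2 := by omega
    rcases this with h | h
    · left; rw [h, pow_one]
    · right; rw [h]
  · omega
  · omega
  · have : p % 6 = 1 ∨ p % 6 = 5 := by omega
    rcases this with h | h
    · left; rw [h, pow_one]
    · right; rw [h]

/-- the traces of a core isomorphic to `L_2(11)` -/
theorem core_traces (hc : IsResidualCore H P) (e : (P ⧸ (scalars (Fin 5) F).subgroupOf P) ≃* T) (p : ℕ)
    [hp : Fact p.Prime] [CharP F p] :
    (res p → ∀ g : P, (((g : GL (Fin 5) F) : Matrix (Fin 5) (Fin 5) F).trace) ^ p ^ 1 =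
      ((g : GL (Fin 5) F) : Matrix (Fin 5) (Fin 5) F).trace) ∧
    (¬ res p → ∀ g : P, (((g : GL (Fin 5) F) : Matrix (Fin 5) (Fin 5) F).trace) ^ p ^ 1 =
      ((((g : P)⁻¹ : P) : GL (Fin 5) F) : Matrix (Fin 5) (Fin 5) F).trace) := by
  obtain ⟨f⟩ := exists_equiv hc e
  have hCP : CharP (AlgebraicClosure F) p := charP_of_injective_algebraMap (algebraMap F (AlgebraicClosure F)).injective p
  have hfr : ∀ g : P, (((g : GL (Fin 5) F) : Matrix (Fin 5) (Fin 5) F).trace) ^ p ^ 1 =
      (((g ^ p : P) : GL (Fin 5) F) : Matrix (Fin 5) (Fin 5) F).trace := by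
    intro g
    have := Five.trace_frob p g 1
    rw [← this, pow_one]
  -- conjugacy is transported along `f`
  have hcj : ∀ a b : P, IsConj (f a) (f b) → IsConj a b := by
    intro a b h
    have := f.symm.toMonoidHom.map_isConj h
    simpa using this
  -- trace zero for the elements of order five
  have hzero : p ≠ 11 → ∀ g : P, (∃ (c : T) (s : (ZMod 11)ˣ) (x : ZMod 11), (s : ZMod 11) ^ 2 ≠ 1 ∧
      c * f g * c⁻¹ = mk (hh s * U x)) → ((g : GL (Fin 5) F) : Matrix (Fin 5) (Fin 5) F).trace = 0 := by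
    intro hp11 g ⟨c, s, x, hs, hg⟩
    have h11 : (11 : AlgebraicClosure F) ≠ 0 := by
      intro h0
      have h1 : ((11 : ℕ) : AlgebraicClosure F) = 0 := by exact_mod_cast h0
      rw [CharP.cast_eq_zero_iff (AlgebraicClosure F) p] at h1
      exact hp11 ((Nat.prime_dvd_prime_iff_eq hp.out (by norm_num)).1 h1)
    have h2 := trace_zero ((Five.rep P).comp f.symm.toMonoidHom)
      ((Five.rep_injective P).comp f.symm.injective) h11 (by rw [Module.finrank_fin_fun]) s x hs
    have h3 := trace_conj ((Five.rep P).comp f.symm.toMonoidHom) (isConj_iff.2 ⟨c, hg⟩)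
    rw [h2] at h3
    have h4 : ((Five.rep P).comp f.symm.toMonoidHom) (f g) = Five.rep P g := by
      change Five.rep P (f.symm (f g)) = _
      rw [f.symm_apply_apply]
    rw [h4, Five.trace_rep] at h3
    exact (algebraMap F (AlgebraicClosure F)).injective (h3.trans (map_zero _).symm)
  have hreal5 : ∀ g : P, (∃ (c : T) (s : (ZMod 11)ˣ) (x : ZMod 11), (s : ZMod 11) ^ 2 ≠ 1 ∧
      c * f g * c⁻¹ = mk (hh s * U x)) → IsConj g g⁻¹ := by
    intro g ⟨c, s, x, hs, hg⟩
    apply hcj
    have h1 : IsConj (f g) (mk (hh s * U x)) := isConj_iff.2 ⟨c, hg⟩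
    have h2 := mk_conj (real_hhU s x hs)
    rw [mk_inv] at h2
    rw [map_inv]
    exact (h1.trans h2).trans (isConj_inv' h1.symm)
  have hord : ∀ g : P, ¬ p ∣ orderOf g → f g ^ 6 = 1 → g ^ p = g ∨ g ^ p = g⁻¹ := by
    intro g hg h6
    have h6' : g ^ 6 = 1 := f.injective (by rw [map_pow, h6, map_one])
    refine pow_pm_one h6' ?_ ?_
    · by_cases h2 : 2 ∣ p
      · right
        rw [Nat.prime_dvd_prime_iff_eq Nat.prime_two hp.out] at h2
        rwa [h2]
      · exact Or.inl h2
    · by_cases h2 : 3 ∣ p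
      · right
        rw [Nat.prime_dvd_prime_iff_eq Nat.prime_three hp.out] at h2
        rwa [h2]
      · exact Or.inl h2
  constructor
  · intro hr g
    have hp11 : p ≠ 11 := by
      rintro rfl
      unfold res at hr
      omega
    have key := Five.trace_reg (P := P) p (iterateFrobenius F p 1) id (fun g k => rfl) (fun g hg => by
      rw [iterateFrobenius_def, hfr, id]
      rcases cls (f g) with ⟨c, x, hx⟩ | h5 | ⟨h6, hconj⟩
      · apply Five.trace_conj
        apply hcj
        have h1 : IsConj (f g) (mk (U x)) := isConj_iff.2 ⟨c, hx⟩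
        have h2 : IsConj (f g ^ p) ((mk (U x) : T) ^ p) := by
          refine isConj_iff.2 ⟨c, ?_⟩
          rw [← hx, conj_pow]
        rw [map_pow]
        refine (h2.trans ?_).trans h1.symm
        rw [mk_U_pow]
        exact (conj_U (cast_res hr)).symm
      · rw [← hfr, hzero hp11 g h5, zero_pow (pow_ne_zero _ hp.out.ne_zero)]
      · rcases hord g hg h6 with h | h
        · rw [h]
        · rw [h]
          have h7 : IsConj g g⁻¹ := hcj _ _ (by rw [map_inv]; exact hconj)
          exact (Five.trace_conj h7).symm) g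
    rw [iterateFrobenius_def] at key
    exact key
  · intro hr g
    have key := Five.trace_reg (P := P) p (iterateFrobenius F p 1) (fun g => g⁻¹) (fun g k => (inv_pow g k).symm)
      (fun g hg => by
      rw [iterateFrobenius_def, hfr]
      rcases cls (f g) with ⟨c, x, hx⟩ | h5 | ⟨h6, hconj⟩
      · apply Five.trace_conj
        apply hcj
        have h1 : IsConj (f g) (mk (U x)) := isConj_iff.2 ⟨c, hx⟩
        have h2 : IsConj (f g ^ p) ((mk (U x) : T) ^ p) := by
          refine isConj_iff.2 ⟨c, ?_⟩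
          rw [← hx, conj_pow]
        rw [map_pow, map_inv]
        refine (h2.trans ?_).trans (isConj_inv' h1.symm)
        rw [mk_U_pow, mk_U_inv]
        by_cases h0 : p % 11 = 0
        · -- `p = 11`, the element is `p`-regular, so it is trivial
          have hp11 : p = 11 := by
            have h3 : 11 ∣ p := Nat.dvd_of_mod_eq_zero h0
            exact ((Nat.prime_dvd_prime_iff_eq (by norm_num) hp.out).1 h3).symm
          have hx0 : x = 0 := by
            by_contra hx0
            apply hg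
            have h3 : orderOf (mk (U x) : T) = orderOf g := by
              rw [← hx]
              exact ((MulAut.conj c).orderOf_eq (f g)).trans (f.orderOf_eq g)
            have h4 : orderOf (mk (U x) : T) ∣ 11 := by
              apply orderOf_dvd_of_pow_eq_one
              rw [mk_U_pow]
              have h5 : ((11 : ℕ) : ZMod 11) = 0 := ZMod.natCast_self 11
              rw [h5, zero_mul, U_zero]
              rfl
            rcases (Nat.dvd_prime (by norm_num : Nat.Prime 11)).1 h4 with h5 | h5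
            · exfalso
              rw [orderOf_eq_one_iff] at h5
              -- `U x = 1`
              have h6 : (mk (U 1) : T) = 1 := by
                have h7 : (mk (U x) : T) ^ (x⁻¹).val = 1 := by rw [h5, one_pow]
                rw [mk_U_pow, ZMod.natCast_val, ZMod.cast_id, inv_mul_cancel₀ hx0] at h7
                exact h7
              exact U_ne_one h6
            · rw [← h3, h5, hp11]
          rw [hx0, mul_zero, neg_zero]
        · obtain ⟨a, ha, hap⟩ := cast_nres hr h0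
          have h3 := conj_U (x := (p : ZMod 11) * x) ha
          rw [← mul_assoc, hap, neg_one_mul] at h3
          exact h3
      · by_cases hp11 : p = 11
        · -- the order divides five
          obtain ⟨c, s, x, hs, hx⟩ := h5
          have h5' : g ^ 5 = 1 := by
            apply f.injective
            rw [map_pow, map_one]
            obtain ⟨y, hy⟩ := conj_hhU s x hs
            have h1 : IsConj (f g) (mk (hh s)) :=
              (isConj_iff.2 ⟨c, hx⟩ : IsConj (f g) (mk (hh s * U x))).trans (mk_conj (isConj_iff.2 ⟨_, hy⟩))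
            obtain ⟨d, hd⟩ := isConj_iff.1 h1
            have h2 : (mk (hh s) : T) ^ 5 = 1 := by
              have h3 : ∀ s : (ZMod 11)ˣ, s ^ 5 = 1 ∨ s ^ 5 = -1 := by decide
              have h4 : ∀ n : ℕ, (mk (hh s) : T) ^ n = mk (hh (s ^ n)) := by
                intro n
                induction n with
                | zero => rw [pow_zero, pow_zero, hh_one]; rfl
                | succ n ih => rw [pow_succ, ih, ← mk_mul, hh_mul, pow_succ]
              rw [h4]
              rcases h3 s with h | h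
              · rw [h, hh_one]; rfl
              · rw [h]
                have h6 : (hh (-1 : (ZMod 11)ˣ) : SpecialLinearGroup (Fin 2) (ZMod 11)) = -1 := by
                  apply ext'
                  · rfl
                  · change (0 : ZMod 11) = -0
                    rw [neg_zero]
                  · change (0 : ZMod 11) = -0
                    rw [neg_zero]
                  · change (((-1 : (ZMod 11)ˣ)⁻¹ : (ZMod 11)ˣ) : ZMod 11) = -1
                    rw [inv_neg_one]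
                    rfl
                rw [h6, mk_neg_one]
            rw [← hd, conj_pow] at h2
            have h7 : f g ^ 5 = d⁻¹ * (d * f g ^ 5 * d⁻¹) * d := by group
            rw [h7, h2, mul_one, inv_mul_cancel]
          have h8 : g ^ p = g := by
            rw [hp11]
            calc g ^ 11 = (g ^ 5) ^ 2 * g := by rw [← pow_mul, ← pow_succ]
              _ = g := by rw [h5', one_pow, one_mul]
          rw [h8]
          exact Five.trace_conj (hreal5 g ⟨c, s, x, hs, hx⟩)
        · rw [← hfr, hzero hp11 g h5, zero_pow (pow_ne_zero _ hp.out.ne_zero),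
            ← Five.trace_conj (hreal5 g h5), hzero hp11 g h5]
      · rcases hord g hg h6 with h | h
        · rw [h]
          have h7 : IsConj g g⁻¹ := hcj _ _ (by rw [map_inv]; exact hconj)
          exact Five.trace_conj h7
        · rw [h]) g
    rw [iterateFrobenius_def] at key
    exact key

end core

end Cfsg.Agent.H911.L211
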